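/-
Two elements of trace one of `SL_2(p)`: unless the trace x of the product is exceptional they generate
`SL_2(p)` modulo scalars.
Main results: `tr_comm`, `tr_mul_add`, `slTwo_le_of_cubes`, `slTwo_le_or_exc`.
-/
import Cfsg.Agent.Lib.C6Two.SlotDickson

set_option autoImplicit false
set_option linter.unusedSectionVars false

namespace Cfsg.Agent.C6Three

open Matrix Subgroup
open scoped commutatorElement
open Cfsg.Agent

variable {F : Type*} [Field F]

local notation "π" => QuotientGroup.mk' (Subgroup.center (PSL2.SL2 F))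

theorem tr_comm (s t : PSL2.SL2 F) : PSL2.tr ⁅s, t⁆ =
    PSL2.tr s ^ 2 + PSL2.tr t ^ 2 + PSL2.tr (s * t) ^ 2 -
      PSL2.tr s * PSL2.tr t * PSL2.tr (s * t) - 2 := by
  have hs := PSL2.det_eq s
  have ht := PSL2.det_eq t
  simp [commutatorElement_def, PSL2.tr, Matrix.SpecialLinearGroup.coe_inv, Matrix.adjugate_fin_two,
    Matrix.mul_apply, Fin.sum_univ_two]
  grind

/-- Fricke. -/
theorem tr_mul_add (u v : PSL2.SL2 F) :
    PSL2.tr (u * v) + PSL2.tr (u * v⁻¹) = PSL2.tr u * PSL2.tr v := by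
  simp [PSL2.tr, Matrix.SpecialLinearGroup.coe_inv, Matrix.adjugate_fin_two, Matrix.mul_apply,
    Fin.sum_univ_two]
  ring

theorem mul_cubes_alt4 : ∀ a : alternatingGroup (Fin 4), a ^ 3 = 1 → ∀ b : alternatingGroup (Fin 4),
    b ^ 3 = 1 → a * b = 1 ∨ (a * b) ^ 2 = 1 ∨ (a * b) ^ 3 = 1 ∨ (a * b) ^ 5 = 1 := by decide +kernel

theorem mul_cubes_sym4 : ∀ a : Equiv.Perm (Fin 4), a ^ 3 = 1 → ∀ b : Equiv.Perm (Fin 4),
    b ^ 3 = 1 → a * b = 1 ∨ (a * b) ^ 2 = 1 ∨ (a * b) ^ 3 = 1 ∨ (a * b) ^ 5 = 1 := by decide +kernel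

theorem mul_cubes_alt5 : ∀ a : alternatingGroup (Fin 5), a ^ 3 = 1 → ∀ b : alternatingGroup (Fin 5),
    b ^ 3 = 1 → a * b = 1 ∨ (a * b) ^ 2 = 1 ∨ (a * b) ^ 3 = 1 ∨ (a * b) ^ 5 = 1 := by decide +kernel

theorem mul_cubes {X : Type*} [Group X]
    (h : Nonempty (X ≃* alternatingGroup (Fin 4)) ∨ Nonempty (X ≃* Equiv.Perm (Fin 4)) ∨
      Nonempty (X ≃* alternatingGroup (Fin 5))) (a b : X) (ha : a ^ 3 = 1) (hb : b ^ 3 = 1) :
    a * b = 1 ∨ (a * b) ^ 2 = 1 ∨ (a * b) ^ 3 = 1 ∨ (a * b) ^ 5 = 1 := by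
  rcases h with ⟨⟨e⟩⟩ | ⟨⟨e⟩⟩ | ⟨⟨e⟩⟩
  · simpa only [← map_mul, ← map_pow, map_eq_one_iff e e.injective] using
      mul_cubes_alt4 (e a) (by rw [← map_pow, ha, map_one]) (e b) (by rw [← map_pow, hb, map_one])
  · simpa only [← map_mul, ← map_pow, map_eq_one_iff e e.injective] using
      mul_cubes_sym4 (e a) (by rw [← map_pow, ha, map_one]) (e b) (by rw [← map_pow, hb, map_one])
  · simpa only [← map_mul, ← map_pow, map_eq_one_iff e e.injective] using
      mul_cubes_alt5 (e a) (by rw [← map_pow, ha, map_one]) (e b) (by rw [← map_pow, hb, map_one])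

variable [Fintype F] {p : ℕ} [Fact p.Prime]

theorem cube_of_tr_one {w : PSL2.SL2 F} (hw : PSL2.tr w = 1) : π w ^ 3 = 1 := by
  rw [← map_pow]
  refine (QuotientGroup.eq_one_iff _).2 (PSL2.mem_center_iff'.2 (Or.inr (Subtype.ext ?_)))
  have h := PSL2.coe_sq w
  rw [hw, one_smul] at h
  rw [C6Two.coe_pow', Matrix.SpecialLinearGroup.coe_neg, Matrix.SpecialLinearGroup.coe_one, pow_succ,
    pow_two, h, sub_mul, h, one_mul]
  abel

/-- Two elements of trace one whose product has order other than 1, 2, 3, 5 modulo scalars. -/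
theorem slTwo_le_of_cubes (hF : Fintype.card F = p) (hp5 : 5 ≤ p) {H : Subgroup (GL (Fin 2) F)}
    (hsc : C6Two.HasScalars H) {s t : PSL2.SL2 F} (hs : s ∈ C6Two.slPart H)
    (ht : t ∈ C6Two.slPart H) (hs1 : PSL2.tr s = 1) (ht1 : PSL2.tr t = 1) (τ : F)
    (hτ : PSL2.tr (s * t) = τ) (hc : τ ^ 2 - τ ≠ 2 ∧ τ ^ 2 - τ ≠ -2)
    (hne : τ ≠ 0 ∧ τ ^ 2 - 1 ≠ 0 ∧ τ ^ 4 - 3 * τ ^ 2 + 1 ≠ 0) :
    ∀ u : PSL2.SL2 F, u ∈ C6Two.slPart H := by
  have hct : PSL2.tr ⁅s, t⁆ = τ ^ 2 - τ := by rw [tr_comm, hs1, ht1, hτ]; ring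
  rcases C6Two.sl_or_exceptional hF hp5 hsc hs ht (cube_of_tr_one hs1) (cube_of_tr_one ht1)
    ⟨hct ▸ hc.1, hct ▸ hc.2⟩ with h | ⟨-, h⟩
  · exact h
  exfalso
  set g := s * t with hg
  have hx := mul_cubes h ⟨π s, ⟨s, hs, rfl⟩⟩ ⟨π t, ⟨t, ht, rfl⟩⟩
    (Subtype.ext (by simpa using cube_of_tr_one hs1)) (Subtype.ext (by simpa using cube_of_tr_one ht1))
  simp only [Subtype.ext_iff, SubmonoidClass.coe_pow, OneMemClass.coe_one, MulMemClass.coe_mul,
    ← map_mul, ← hg] at hx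
  have hgn : g ∉ Subgroup.center (PSL2.SL2 F) := fun hm => by
    have hgt : t = s⁻¹ * g := by rw [hg, inv_mul_cancel_left]
    have : Commute s t := by
      rw [hgt]
      exact ((Commute.refl s).inv_right).mul_right (Subgroup.mem_center_iff.1 hm s)
    exact hc.1 (by rw [← hct, commutatorElement_eq_one_iff_commute.2 this, PSL2.tr_one])
  have key : ∀ n : ℕ, ∀ a b : F, g.1 ^ n = PSL2.lin g a b → π g ^ n = 1 → b = 0 := by
    intro n a b hab hn
    rw [← map_pow] at hn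
    by_contra hb
    apply hgn
    have hcen := PSL2.mem_center_iff'.1 ((QuotientGroup.eq_one_iff _).1 hn)
    have hsc' : ∃ c : F, PSL2.lin g a b = c • 1 := by
      rcases hcen with e | e
      · exact ⟨1, by rw [← hab, ← C6Two.coe_pow', e, one_smul]; rfl⟩
      · exact ⟨-1, by rw [← hab, ← C6Two.coe_pow', e]; simp⟩
    obtain ⟨c, hc'⟩ := hsc'
    have hg' : g.1 = ((c - a) / b) • (1 : Matrix (Fin 2) (Fin 2) F) := by
      rw [PSL2.lin] at hc'
      rw [div_eq_inv_mul, mul_smul, sub_smul, ← hc', add_sub_cancel_left, smul_smul,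
        inv_mul_cancel₀ hb, one_smul]
    rw [Subgroup.mem_center_iff]
    intro u
    refine Subtype.ext ?_
    show u.1 * g.1 = g.1 * u.1
    rw [hg']
    simp
  have one' : g.1 = PSL2.lin g 0 1 := by simp [PSL2.lin]
  have p2 : g.1 ^ 2 = PSL2.lin g (-1) τ := by
    rw [pow_two, PSL2.coe_sq, hτ, PSL2.lin]; module
  have p3 : g.1 ^ 3 = PSL2.lin g (-τ) (τ ^ 2 - 1) := by
    rw [pow_succ, p2]
    refine (congrArg (_ * ·) one').trans ?_
    show PSL2.lin g _ _ * PSL2.lin g 0 1 = _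
    rw [PSL2.lin_mul_lin, hτ]; congr 1 <;> ring
  have p5 : g.1 ^ 5 = PSL2.lin g (2 * τ - τ ^ 3) (τ ^ 4 - 3 * τ ^ 2 + 1) := by
    rw [show (5 : ℕ) = 3 + 2 from rfl, pow_add, p3, p2, PSL2.lin_mul_lin, hτ]
    congr 1 <;> ring
  obtain ⟨h0, h1, h3⟩ := hne
  rcases hx with e | e | e | e
  · exact one_ne_zero (key 1 0 1 (by rw [pow_one]; exact one') (by rw [pow_one]; exact e))
  · exact h0 (key 2 _ _ p2 e)
  · exact h1 (key 3 _ _ p3 e)
  · exact h3 (key 5 _ _ p5 e)

/-- The values of x excepted in `slTwo_le_or_exc`. -/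
def Exc (x : F) : Prop := x * (x - 1) * (x ^ 2 - x - 1) = 0

theorem slTwo_le_or_exc (hF : Fintype.card F = p) (hp : p % 3 = 1) (hp7 : 7 ≤ p)
    {H : Subgroup (GL (Fin 2) F)} (hsc : C6Two.HasScalars H) {s t : PSL2.SL2 F}
    (hs : s ∈ C6Two.slPart H) (ht : t ∈ C6Two.slPart H) (hs1 : PSL2.tr s = 1)
    (ht1 : PSL2.tr t = 1) (x : F) (hx : PSL2.tr (s * t) = x) (hx1 : x ≠ -1) (hx2 : x ≠ 2) :
    (∀ u : PSL2.SL2 F, u ∈ C6Two.slPart H) ∨ Exc x := by
  have := C6Two.charP_of_card hF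
  have hpp : p.Prime := Fact.out
  have nat_ne : ∀ n : ℕ, n ≠ 0 → (∀ q : ℕ, q.Prime → q ∣ n → q ≠ p) → ((n : ℕ) : F) ≠ 0 :=
    fun n _ hn e => hn p hpp ((CharP.cast_eq_zero_iff F p n).1 e) rfl
  have h55 : (55 : F) ≠ 0 := by
    refine mod_cast nat_ne 55 (by norm_num) fun q hq hd => ?_
    rcases (Nat.Prime.dvd_mul hq).1 (show q ∣ 5 * 11 from hd) with h | h
    · have := (Nat.prime_dvd_prime_iff_eq hq (by norm_num)).1 h; omega
    · have := (Nat.prime_dvd_prime_iff_eq hq (by norm_num)).1 h; omega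
  have hsmall : ∀ n : ℕ, n ≠ 0 → n < 7 → ((n : ℕ) : F) ≠ 0 := fun n h0 h7 e => by
    have := Nat.le_of_dvd (by omega) ((CharP.cast_eq_zero_iff F p n).1 e)
    omega
  have h2 : (2 : F) ≠ 0 := mod_cast hsmall 2 (by norm_num) (by norm_num)
  have h3 : (3 : F) ≠ 0 := mod_cast hsmall 3 (by norm_num) (by norm_num)
  have h5 : (5 : F) ≠ 0 := mod_cast hsmall 5 (by norm_num) (by norm_num)
  have f2 : x ^ 2 - x ≠ 2 := fun e => by
    rcases mul_eq_zero.1 (show (x + 1) * (x - 2) = 0 by linear_combination e) with h | h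
    · exact hx1 (by linear_combination h)
    · exact hx2 (by linear_combination h)
  by_cases f1 : x ^ 2 - x = -2
  · left
    have e1 : PSL2.tr (t * s * t⁻¹) = 1 := by rw [PSL2.tr_conj, hs1]
    have hss : PSL2.tr (s * s) = -1 := by
      have := tr_mul_add s s
      rw [mul_inv_cancel, PSL2.tr_one, hs1] at this
      linear_combination this
    have hsst : PSL2.tr (s * s * t) = x - 1 := by
      have hd := tr_mul_add (s * t) s
      rw [hx, hs1] at hd
      have e2 : PSL2.tr (s * t * s) = PSL2.tr (s * s * t) := by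
        rw [PSL2.tr_mul_comm (s * t) s, ← mul_assoc]
      have e3 : PSL2.tr (s * t * s⁻¹) = 1 := by rw [PSL2.tr_conj, ht1]
      rw [e2, e3] at hd
      linear_combination hd
    have hstst : PSL2.tr (s * t * (s * t)) = x ^ 2 - 2 := by
      have := tr_mul_add (s * t) (s * t)
      rw [mul_inv_cancel, PSL2.tr_one, hx] at this
      linear_combination this
    have hx' : PSL2.tr (s * (t * s * t⁻¹)) = 3 := by
      have hd := tr_mul_add (s * t * s) t
      rw [ht1, mul_one] at hd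
      have e2 : PSL2.tr (s * t * s * t) = x ^ 2 - 2 := by rw [← hstst, mul_assoc (s * t)]
      have e3 : PSL2.tr (s * t * s) = x - 1 := by
        rw [← hsst, PSL2.tr_mul_comm (s * t) s, ← mul_assoc]
      rw [e2, e3] at hd
      rw [← mul_assoc, ← mul_assoc]
      linear_combination hd - f1
    exact slTwo_le_of_cubes hF (by omega) hsc hs (mul_mem (mul_mem ht hs) (inv_mem ht)) hs1 e1 3 hx'
      ⟨fun e => h2 (mul_eq_zero.1 (show (2 : F) * 2 = 0 by linear_combination e) |>.elim id id),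
        fun e => h2 (by
          have : (2 : F) ^ 3 = 0 := by linear_combination e
          exact pow_eq_zero_iff (n := 3) (by norm_num) |>.1 this)⟩
      ⟨h3, fun e => h2 (by
          have : (2 : F) ^ 3 = 0 := by linear_combination e
          exact pow_eq_zero_iff (n := 3) (by norm_num) |>.1 this),
        fun e => h55 (by linear_combination e)⟩
  by_cases g1 : x ≠ 0 ∧ x ^ 2 - 1 ≠ 0 ∧ x ^ 4 - 3 * x ^ 2 + 1 ≠ 0
  · exact Or.inl (slTwo_le_of_cubes hF (by omega) hsc hs ht hs1 ht1 x hx ⟨f2, f1⟩ g1)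
  have hy : PSL2.tr (s * t⁻¹) = 1 - x := by
    have := tr_mul_add s t
    rw [hx, hs1, ht1] at this
    linear_combination this
  by_cases g2 : 1 - x ≠ 0 ∧ (1 - x) ^ 2 - 1 ≠ 0 ∧ (1 - x) ^ 4 - 3 * (1 - x) ^ 2 + 1 ≠ 0
  · exact Or.inl (slTwo_le_of_cubes hF (by omega) hsc hs (inv_mem ht) hs1
      (by rw [PSL2.tr_inv, ht1]) (1 - x) hy
      ⟨fun e => f2 (by linear_combination e), fun e => f1 (by linear_combination e)⟩ g2)
  right
  show x * (x - 1) * (x ^ 2 - x - 1) = 0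
  by_contra hne
  simp only [mul_eq_zero, not_or, sub_eq_zero] at hne
  obtain ⟨⟨n0, n1⟩, n2⟩ := hne
  have a1 : x ^ 2 + x - 1 = 0 := by
    simp only [not_and_or, not_not] at g1
    rcases g1 with h | h | h
    · exact absurd h n0
    · rcases mul_eq_zero.1 (show (x - 1) * (x + 1) = 0 by linear_combination h) with h | h
      · exact absurd (sub_eq_zero.1 h) n1
      · exact absurd (by linear_combination h) hx1
    · rcases mul_eq_zero.1 (show (x ^ 2 - x - 1) * (x ^ 2 + x - 1) = 0 by linear_combination h) with h | h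
      · exact absurd (by linear_combination h) n2
      · exact h
  have a2 : x ^ 2 - 3 * x + 1 = 0 := by
    simp only [not_and_or, not_not] at g2
    rcases g2 with h | h | h
    · exact absurd (by linear_combination -h) n1
    · rcases mul_eq_zero.1 (show x * (x - 2) = 0 by linear_combination h) with h | h
      · exact absurd h n0
      · exact absurd (by linear_combination h) hx2
    · rcases mul_eq_zero.1 (show (x ^ 2 - x - 1) * (x ^ 2 - 3 * x + 1) = 0 by linear_combination h) with h | h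
      · exact absurd (by linear_combination h) n2
      · exact h
  have hh : (1 : F) = 0 := by
    have e : (2 : F) * x = 1 := mul_left_cancel₀ h2 (by linear_combination a1 - a2)
    linear_combination (-4 : F) * a1 + (2 * x + 3) * e
  exact one_ne_zero hh

end Cfsg.Agent.C6Three
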