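/-
Homologies (pseudo-reflections) and the embedding of `GL_n` of a subspace with a chosen complement.
Main results: `hom`, `hom_apply`, `hom_conj`, `hom_mul`, `emb`, `emb_apply`, `NoTv`.
-/
import Cfsg.Agent.Lib.Transvect.Basic

set_option autoImplicit false
set_option linter.unusedSectionVars false

namespace Cfsg.Agent.C6Three

open Matrix Cfsg.Agent.Transvect
open scoped Matrix

variable {ι : Type} [Fintype ι] [DecidableEq ι] {F : Type*} [Field F]

/-- The group contains no non-trivial transvection. -/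
def NoTv (A : Subgroup (GL ι F)) : Prop :=
  ∀ (v : ι → F) (φ : (ι → F) →ₗ[F] F), φ v = 0 → tv v φ ∈ A → tv v φ = 1

open Classical in
/-- The homology x ↦ x + (a - 1) φ(x) u (junk value 1 unless φ(u) = 1 and a ≠ 0). -/
noncomputable def hom (a : F) (u : ι → F) (φ : (ι → F) →ₗ[F] F) : GL ι F :=
  if h : φ u = 1 ∧ a ≠ 0 then
    ⟨tmat u ((a - 1) • φ), tmat u ((a⁻¹ - 1) • φ),
      Matrix.ext_of_mulVec_single fun i => by
        rw [← Matrix.mulVec_mulVec, tmat_mulVec, tmat_mulVec, Matrix.one_mulVec]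
        simp only [map_add, map_smul, LinearMap.smul_apply, smul_eq_mul, h.1]
        match_scalars
        · ring
        · field_simp [h.2]; ring,
      Matrix.ext_of_mulVec_single fun i => by
        rw [← Matrix.mulVec_mulVec, tmat_mulVec, tmat_mulVec, Matrix.one_mulVec]
        simp only [map_add, map_smul, LinearMap.smul_apply, smul_eq_mul, h.1]
        match_scalars
        · ring
        · field_simp [h.2]; ring⟩
  else 1

theorem hom_val {a : F} {u : ι → F} {φ : (ι → F) →ₗ[F] F} (h : φ u = 1) (ha : a ≠ 0) :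
    (hom a u φ : Matrix ι ι F) = tmat u ((a - 1) • φ) := by
  rw [hom, dif_pos ⟨h, ha⟩]

theorem hom_apply {a : F} {u : ι → F} {φ : (ι → F) →ₗ[F] F} (h : φ u = 1) (ha : a ≠ 0)
    (x : ι → F) : app (hom a u φ) x = x + ((a - 1) * φ x) • u := by
  rw [app_apply, hom_val h ha, tmat_mulVec]; rfl

theorem hom_one (u : ι → F) (φ : (ι → F) →ₗ[F] F) : hom (1 : F) u φ = 1 := by
  by_cases h : φ u = 1
  · exact gl_ext fun x => by rw [hom_apply h one_ne_zero]; simp
  · rw [hom, dif_neg fun e => h e.1]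

theorem hom_mul {a b : F} {u : ι → F} {φ : (ι → F) →ₗ[F] F} (h : φ u = 1) (ha : a ≠ 0)
    (hb : b ≠ 0) : hom a u φ * hom b u φ = hom (a * b) u φ := by
  refine gl_ext fun x => ?_
  rw [map_mul, LinearEquiv.mul_apply, hom_apply h hb, hom_apply h ha,
    hom_apply h (mul_ne_zero ha hb)]
  simp only [map_add, map_smul, smul_eq_mul, h]
  module

theorem hom_inv {a : F} {u : ι → F} {φ : (ι → F) →ₗ[F] F} (h : φ u = 1) (ha : a ≠ 0) :
    (hom a u φ)⁻¹ = hom a⁻¹ u φ :=
  inv_eq_of_mul_eq_one_right (by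
    rw [hom_mul h ha (inv_ne_zero ha), mul_inv_cancel₀ ha, hom_one])

theorem app_hom_inv {a : F} {u : ι → F} {φ : (ι → F) →ₗ[F] F} (h : φ u = 1) (ha : a ≠ 0)
    (x : ι → F) : app (hom a u φ)⁻¹ x = x + ((a⁻¹ - 1) * φ x) • u := by
  rw [hom_inv h ha, hom_apply h (inv_ne_zero ha)]

theorem hom_conj {a : F} {u : ι → F} {φ : (ι → F) →ₗ[F] F} (h : φ u = 1) (ha : a ≠ 0)
    (g : GL ι F) : g * hom a u φ * g⁻¹ = hom a (app g u) (φ ∘ₗ (app g⁻¹).toLinearMap) := by
  refine gl_ext fun x => ?_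
  have h' : (φ ∘ₗ (app g⁻¹).toLinearMap) (app g u) = 1 := by
    simp only [LinearMap.comp_apply, LinearEquiv.coe_coe, app_inv_app, h]
  rw [hom_apply h' ha, map_mul, map_mul, LinearEquiv.mul_apply, LinearEquiv.mul_apply,
    hom_apply h ha, map_add, map_smul, app_app_inv]
  rfl

theorem hom_smul {a c : F} {u : ι → F} {φ : (ι → F) →ₗ[F] F} (h : φ u = 1) (ha : a ≠ 0)
    (hc : c ≠ 0) : hom a (c • u) (c⁻¹ • φ) = hom a u φ := by
  refine gl_ext fun x => ?_
  rw [hom_apply (by simp [h, hc]) ha, hom_apply h ha, smul_smul, LinearMap.smul_apply, smul_eq_mul]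
  congr 2
  field_simp

theorem det_hom {a : F} {u : ι → F} {φ : (ι → F) →ₗ[F] F} (h : φ u = 1) (ha : a ≠ 0) :
    (hom a u φ : Matrix ι ι F).det = a := by
  have hx : (fun j => ((a - 1) • φ) (Pi.single j 1)) ⬝ᵥ u = ((a - 1) • φ) u := by
    conv_rhs => rw [pi_eq_sum_univ' u, map_sum]
    simp [dotProduct, mul_comm]
  rw [hom_val h ha, tmat, Matrix.vecMulVec_eq Unit,
    Matrix.det_one_add_replicateCol_mul_replicateRow, hx]
  simp [h]

/-- The rectangular matrix with the given columns. -/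
def colMat {n : ℕ} (b : Fin n → (ι → F)) : Matrix ι (Fin n) F := Matrix.of fun i k => b k i

/-- The rectangular matrix with the given rows. -/
def rowMat {n : ℕ} (c : Fin n → ((ι → F) →ₗ[F] F)) : Matrix (Fin n) ι F :=
  Matrix.of fun k j => c k (Pi.single j 1)

theorem rowMat_mulVec {n : ℕ} (c : Fin n → ((ι → F) →ₗ[F] F)) (x : ι → F) :
    rowMat c *ᵥ x = fun k => c k x := by
  funext k
  conv_rhs => rw [pi_eq_sum_univ' x, map_sum]
  simp [Matrix.mulVec, dotProduct, rowMat, mul_comm]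

theorem colMat_mulVec {n : ℕ} (b : Fin n → (ι → F)) (a : Fin n → F) :
    colMat b *ᵥ a = ∑ k, a k • b k := by
  funext i
  simp [Matrix.mulVec, dotProduct, colMat, mul_comm]

theorem rowMat_mul_colMat {n : ℕ} {b : Fin n → (ι → F)} {c : Fin n → ((ι → F) →ₗ[F] F)}
    (h : ∀ i j, c i (b j) = if i = j then 1 else 0) : rowMat c * colMat b = 1 := by
  ext i j
  have h2 := congrFun (rowMat_mulVec c (b j)) i
  rw [h] at h2
  rw [Matrix.one_apply, ← h2]
  simp [Matrix.mul_apply, Matrix.mulVec, dotProduct, colMat]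

/-- The monoid hom M ↦ 1 + B (M - 1) C for a dual pair of frames. -/
def embMat {n : ℕ} (b : Fin n → (ι → F)) (c : Fin n → ((ι → F) →ₗ[F] F))
    (h : ∀ i j, c i (b j) = if i = j then 1 else 0) :
    Matrix (Fin n) (Fin n) F →* Matrix ι ι F where
  toFun M := 1 + colMat b * (M - 1) * rowMat c
  map_one' := by simp
  map_mul' M N := by
    have e : ∀ X : Matrix (Fin n) ι F, rowMat c * (colMat b * X) = X := fun X => by
      rw [← Matrix.mul_assoc, rowMat_mul_colMat h, Matrix.one_mul]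
    simp only [Matrix.add_mul, Matrix.mul_add, Matrix.one_mul, Matrix.mul_one, Matrix.sub_mul,
      Matrix.mul_sub, Matrix.mul_assoc, e]
    abel

/-- `GL_n` acting on the span of `b`, fixing the common kernel of `c`. -/
def emb {n : ℕ} (b : Fin n → (ι → F)) (c : Fin n → ((ι → F) →ₗ[F] F))
    (h : ∀ i j, c i (b j) = if i = j then 1 else 0) : GL (Fin n) F →* GL ι F :=
  Units.map (embMat b c h)

theorem emb_apply {n : ℕ} {b : Fin n → (ι → F)} {c : Fin n → ((ι → F) →ₗ[F] F)}
    (h : ∀ i j, c i (b j) = if i = j then 1 else 0) (M : GL (Fin n) F) (x : ι → F) :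
    app (emb b c h M) x =
      x + ∑ i, (∑ j, ((M : Matrix (Fin n) (Fin n) F) - 1) i j * c j x) • b i := by
  show (1 + colMat b * ((M : Matrix (Fin n) (Fin n) F) - 1) * rowMat c) *ᵥ x = _
  rw [Matrix.add_mulVec, Matrix.one_mulVec, ← Matrix.mulVec_mulVec, ← Matrix.mulVec_mulVec,
    rowMat_mulVec, colMat_mulVec]
  rfl

end Cfsg.Agent.C6Three
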