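/-
Two homologies of order three in a group without transvections.
Main results: `Good`, `pair`.
-/
import Cfsg.Agent.Lib.C6Three.Hom
import Cfsg.Agent.Lib.C6Three.PairDickson

set_option autoImplicit false
set_option linter.unusedSectionVars false
set_option linter.unusedSimpArgs false

namespace Cfsg.Agent.C6Three

open Matrix Cfsg.Agent.Transvect Subgroup
open scoped Matrix commutatorElement
open Cfsg.Agent

variable {ι : Type} [Fintype ι] [DecidableEq ι] {F : Type*} [Field F] [Fintype F]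

/-- The possible products of the two cross values. -/
def Good (τ : F) : Prop := (3 * τ - 1) * (3 * τ - 2) * (9 * τ ^ 2 - 9 * τ + 1) = 0

/-- The standing hypotheses on the field and the cube root of unity. -/
structure Fld (F : Type*) [Field F] [Fintype F] where
  /-- the primitive cube root of unity -/
  ω : F
  rel : ω ^ 2 + ω + 1 = 0
  prime : (Fintype.card F).Prime
  mod3 : Fintype.card F % 3 = 1
  seven : 7 ≤ Fintype.card F

theorem tv_eq_one_iff {v : ι → F} {φ : (ι → F) →ₗ[F] F} (h : φ v = 0) :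
    tv v φ = 1 ↔ ∀ x, φ x • v = 0 := by
  refine ⟨fun e x => ?_, fun e => gl_ext fun x => by rw [tv_apply h, e]; simp⟩
  have := congrArg (fun g => app g x) e
  simpa [tv_apply h] using this

variable (κ : Fld F)
include κ

theorem Fld.cast_ne (n : ℕ) (h : ¬ Fintype.card F ∣ n) : (n : F) ≠ 0 := fun e => by
  haveI : Fact (Fintype.card F).Prime := ⟨κ.prime⟩
  have := C6Two.charP_of_card (F := F) (p := Fintype.card F) rfl
  exact h ((CharP.cast_eq_zero_iff F _ n).1 e)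

theorem Fld.two : (2 : F) ≠ 0 :=
  mod_cast κ.cast_ne 2 fun h => by have := Nat.le_of_dvd (by norm_num) h; have := κ.seven; omega

theorem Fld.three : (3 : F) ≠ 0 :=
  mod_cast κ.cast_ne 3 fun h => by have := Nat.le_of_dvd (by norm_num) h; have := κ.seven; omega

theorem Fld.ω_ne : κ.ω ≠ 0 := fun h => by simpa [h] using κ.rel

theorem Fld.cube : κ.ω ^ 3 = 1 := by linear_combination (κ.ω - 1) * κ.rel

theorem Fld.ω_ne_one : κ.ω ≠ 1 := fun h => κ.three (by have := κ.rel; rw [h] at this; linear_combination this)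

theorem Fld.inv : κ.ω⁻¹ = κ.ω ^ 2 :=
  inv_eq_of_mul_eq_one_right (by linear_combination κ.cube)

theorem Fld.sq_ne_one : κ.ω ^ 2 ≠ 1 := fun h => κ.ω_ne_one (by linear_combination κ.cube - κ.ω * h)

theorem Fld.d1 : κ.ω - 1 ≠ 0 := sub_ne_zero.2 κ.ω_ne_one

theorem Fld.d2 : κ.ω ^ 2 - 1 ≠ 0 := sub_ne_zero.2 κ.sq_ne_one

/-- Same centre: the projections agree. -/
theorem same_centre {A : Subgroup (GL ι F)} (hA : NoTv A) {u : ι → F}
    {φ ψ : (ι → F) →ₗ[F] F} (hφ : φ u = 1) (hψ : ψ u = 1)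
    (h1 : hom κ.ω u φ ∈ A) (h2 : hom κ.ω u ψ ∈ A) (x : ι → F) : φ x • u = ψ x • u := by
  have h0 : ((κ.ω ^ 2 - 1) • (φ - ψ)) u = 0 := by simp [hφ, hψ]
  have e : tv u ((κ.ω ^ 2 - 1) • (φ - ψ)) = (hom κ.ω u φ)⁻¹ * hom κ.ω u ψ := by
    refine gl_ext fun x => ?_
    rw [tv_apply h0, map_mul, LinearEquiv.mul_apply, app_hom_inv hφ κ.ω_ne, hom_apply hψ κ.ω_ne,
      κ.inv]
    simp only [map_add, map_smul, smul_eq_mul, LinearMap.smul_apply, LinearMap.sub_apply, hφ]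
    match_scalars
    · ring
    · linear_combination -(ψ x) * κ.cube
  have h3 := (tv_eq_one_iff h0).1 (hA _ _ h0 (e ▸ mul_mem (inv_mem h1) h2)) x
  rw [LinearMap.smul_apply, smul_eq_mul, LinearMap.sub_apply] at h3
  rcases smul_eq_zero.1 h3 with h4 | h4
  · rw [sub_eq_zero.1 ((mul_eq_zero.1 h4).resolve_left κ.d2)]
  · rw [h4, smul_zero, smul_zero]

/-- Both cross values vanish together. -/
theorem cross_zero {A : Subgroup (GL ι F)} (hA : NoTv A) {u₁ u₂ : ι → F}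
    {φ₁ φ₂ : (ι → F) →ₗ[F] F} (h₁ : φ₁ u₁ = 1) (h₂ : φ₂ u₂ = 1)
    (m₁ : hom κ.ω u₁ φ₁ ∈ A) (m₂ : hom κ.ω u₂ φ₂ ∈ A) (h : φ₁ u₂ = 0) : φ₂ u₁ = 0 := by
  have hu2 : u₂ ≠ 0 := fun e => by simp [e] at h₂
  have e : app (hom κ.ω u₁ φ₁) u₂ = u₂ := by rw [hom_apply h₁ κ.ω_ne, h]; simp
  have m : hom κ.ω u₂ (φ₂ ∘ₗ (app (hom κ.ω u₁ φ₁)⁻¹).toLinearMap) ∈ A := by
    have hm := mul_mem (mul_mem m₁ m₂) (inv_mem m₁)
    rwa [hom_conj h₂ κ.ω_ne, e] at hm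
  have e2 : app (hom κ.ω u₁ φ₁)⁻¹ u₂ = u₂ := by
    conv_lhs => rw [← e]
    exact app_inv_app _ _
  have h2' : (φ₂ ∘ₗ (app (hom κ.ω u₁ φ₁)⁻¹).toLinearMap) u₂ = 1 := by
    simp only [LinearMap.comp_apply, LinearEquiv.coe_coe, e2, h₂]
  have := same_centre κ hA h₂ h2' m₂ m u₁
  simp only [LinearMap.comp_apply, LinearEquiv.coe_coe, app_hom_inv h₁ κ.ω_ne, h₁, mul_one, map_add,
    map_smul, smul_eq_mul, add_smul, κ.inv] at this
  have h5 := left_eq_add.1 this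
  rcases smul_eq_zero.1 h5 with h6 | h6
  · exact (mul_eq_zero.1 h6).resolve_left κ.d2
  · exact absurd h6 hu2

/-- The product of the two cross values is not one unless the projections agree. -/
theorem cross_one {A : Subgroup (GL ι F)} (hA : NoTv A) {u₁ u₂ : ι → F}
    {φ₁ φ₂ : (ι → F) →ₗ[F] F} (h₁ : φ₁ u₁ = 1) (h₂ : φ₂ u₂ = 1)
    (m₁ : hom κ.ω u₁ φ₁ ∈ A) (m₂ : hom κ.ω u₂ φ₂ ∈ A) (h12 : φ₁ u₂ = 1) (h21 : φ₂ u₁ = 1)
    (x : ι → F) : φ₁ x • u₁ = φ₂ x • u₂ := by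
  by_cases hk : u₂ = u₁
  · subst hk; exact same_centre κ hA h₁ h₂ m₁ m₂ x
  by_cases hψ : φ₂ = φ₁
  · subst hψ
    have h0 : ((κ.ω - 1) • φ₂) (u₂ - u₁) = 0 := by simp [h₁, h₂]
    have e : tv (u₂ - u₁) ((κ.ω - 1) • φ₂) = (hom κ.ω u₁ φ₂)⁻¹ * hom κ.ω u₂ φ₂ := by
      refine gl_ext fun x => ?_
      rw [tv_apply h0, map_mul, LinearEquiv.mul_apply, app_hom_inv h₁ κ.ω_ne, hom_apply h₂ κ.ω_ne,
        κ.inv]
      simp only [map_add, map_smul, smul_eq_mul, LinearMap.smul_apply, h₂]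
      match_scalars
      · ring
      · ring
      · linear_combination -(φ₂ x) * κ.cube
    have h3 := (tv_eq_one_iff h0).1 (hA _ _ h0 (e ▸ mul_mem (inv_mem m₁) m₂)) u₁
    rw [LinearMap.smul_apply, h₁, smul_eq_mul, mul_one] at h3
    exact absurd (sub_eq_zero.1 ((smul_eq_zero.1 h3).resolve_left κ.d1)) hk
  exfalso
  set k := u₂ - u₁ with hkdef
  have hu : u₂ = u₁ + k := by rw [hkdef]; abel
  set ψ := φ₂ - φ₁ with hψdef
  have hp : ∀ y, φ₂ y = φ₁ y + ψ y := fun y => by rw [hψdef]; simp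
  have f1k : φ₁ k = 0 := by rw [hkdef]; simp [h12, h₁]
  have pu1 : ψ u₁ = 0 := by rw [hψdef]; simp [h21, h₁]
  have pk : ψ k = 0 := by rw [hψdef, hkdef]; simp [h₂, h21, h12, h₁]
  set w := hom κ.ω u₂ φ₂ * (hom κ.ω u₁ φ₁)⁻¹ with hw
  have hwA : w ∈ A := mul_mem m₂ (inv_mem m₁)
  have ww : ∀ y, app w y =
      y + ((1 - κ.ω ^ 2) * φ₁ y) • k + ((κ.ω - 1) * ψ y) • u₁ + ((κ.ω - 1) * ψ y) • k := fun y => by
    rw [hw, map_mul, LinearEquiv.mul_apply, app_hom_inv h₁ κ.ω_ne, hom_apply h₂ κ.ω_ne, κ.inv, hu]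
    simp only [map_add, map_smul, smul_eq_mul, hp, h₁, pu1]
    match_scalars <;> first | ring1 | linear_combination (φ₁ y) * κ.cube | linear_combination -(φ₁ y) * κ.cube
  set w' := hom κ.ω u₁ φ₁ * w * (hom κ.ω u₁ φ₁)⁻¹ with hw'
  have hw'A : w' ∈ A := mul_mem (mul_mem m₁ hwA) (inv_mem m₁)
  have ww' : ∀ y, app w' y = y + ((κ.ω ^ 2 * (1 - κ.ω ^ 2)) * φ₁ y) • k +
      ((κ.ω * (κ.ω - 1)) * ψ y) • u₁ + ((κ.ω - 1) * ψ y) • k := fun y => by
    rw [hw', map_mul, map_mul, LinearEquiv.mul_apply, LinearEquiv.mul_apply, app_hom_inv h₁ κ.ω_ne,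
      hom_apply h₁ κ.ω_ne, ww, κ.inv]
    simp only [map_add, map_smul, smul_eq_mul, h₁, f1k, pu1]
    match_scalars <;> first | ring1 | linear_combination (φ₁ y) * κ.cube | linear_combination -(φ₁ y) * κ.cube
  set β := (1 - κ.ω ^ 2) * (κ.ω - 1) * (κ.ω - κ.ω ^ 2) with hβ
  have hβ0 : β ≠ 0 := by
    have a1 : 1 - κ.ω ^ 2 ≠ 0 := fun h => κ.sq_ne_one (by linear_combination -h)
    have a2 : κ.ω - κ.ω ^ 2 ≠ 0 := by
      rw [show κ.ω - κ.ω ^ 2 = κ.ω * (1 - κ.ω) by ring]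
      exact mul_ne_zero κ.ω_ne (sub_ne_zero.2 κ.ω_ne_one.symm)
    exact mul_ne_zero (mul_ne_zero a1 κ.d1) a2
  have h0 : (β • ψ) k = 0 := by simp [pk]
  have e : tv k (β • ψ) * (w' * w) = w * w' := by
    refine gl_ext fun y => ?_
    simp only [map_mul, LinearEquiv.mul_apply, tv_apply h0, ww, ww', map_add, map_smul, smul_eq_mul,
      LinearMap.smul_apply, pk, pu1, f1k, h₁]
    rw [hβ]
    match_scalars <;> ring
  have hmem : tv k (β • ψ) ∈ A := by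
    rw [eq_mul_inv_of_mul_eq e]
    exact mul_mem (mul_mem hwA hw'A) (inv_mem (mul_mem hw'A hwA))
  have h3 := (tv_eq_one_iff h0).1 (hA _ _ h0 hmem)
  apply hψ
  refine LinearMap.ext fun y => ?_
  have hy := (smul_eq_zero.1 (h3 y)).resolve_right (sub_ne_zero.2 hk)
  rw [LinearMap.smul_apply, smul_eq_mul] at hy
  have := (mul_eq_zero.1 hy).resolve_left hβ0
  rw [hψdef, LinearMap.sub_apply] at this
  exact sub_eq_zero.1 this

/-- The dichotomy for two homologies of order three. -/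
theorem pair {A : Subgroup (GL ι F)} (hA : NoTv A) {u₁ u₂ : ι → F}
    {φ₁ φ₂ : (ι → F) →ₗ[F] F} (h₁ : φ₁ u₁ = 1) (h₂ : φ₂ u₂ = 1)
    (m₁ : hom κ.ω u₁ φ₁ ∈ A) (m₂ : hom κ.ω u₂ φ₂ ∈ A) :
    (φ₁ u₂ = 0 ∧ φ₂ u₁ = 0) ∨ (∀ x, φ₁ x • u₁ = φ₂ x • u₂) ∨ Good (φ₁ u₂ * φ₂ u₁) := by
  set a := φ₁ u₂ with ha
  set b := φ₂ u₁ with hb
  by_cases a0 : a = 0
  · exact Or.inl ⟨a0, cross_zero κ hA h₁ h₂ m₁ m₂ a0⟩
  by_cases b0 : b = 0
  · exact Or.inl ⟨cross_zero κ hA h₂ h₁ m₂ m₁ b0, b0⟩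
  by_cases hτ : a * b = 1
  · right; left
    intro x
    have e1 : (a • φ₂) (a⁻¹ • u₂) = 1 := by simp [h₂, a0]
    have e2 : hom κ.ω (a⁻¹ • u₂) (a • φ₂) = hom κ.ω u₂ φ₂ := by
      have h := hom_smul h₂ κ.ω_ne (inv_ne_zero a0)
      rwa [inv_inv] at h
    have := cross_one κ hA h₁ e1 m₁ (e2 ▸ m₂) (by simp [← ha, a0])
      (by rw [LinearMap.smul_apply, ← hb, smul_eq_mul, hτ]) x
    rw [this, LinearMap.smul_apply, smul_eq_mul, smul_smul]
    congr 1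
    field_simp
  right; right
  haveI : Fact (Fintype.card F).Prime := ⟨κ.prime⟩
  set τ := a * b with hτdef
  have hd : 1 - τ ≠ 0 := sub_ne_zero.2 (Ne.symm hτ)
  set bb : Fin 2 → (ι → F) := ![u₁, u₂ - a • u₁] with hbb
  set cc : Fin 2 → ((ι → F) →ₗ[F] F) := ![φ₁, (1 - τ)⁻¹ • (φ₂ - b • φ₁)] with hcc
  have hd2 : ∀ i j, cc i (bb j) = if i = j then 1 else 0 := by
    intro i j
    fin_cases i <;> fin_cases j <;> simp [hbb, hcc, h₁, h₂, ← ha, ← hb]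
    rw [hτdef] at hd ⊢
    field_simp
  set E := emb bb cc hd2 with hE
  let A0 : GL (Fin 2) F := GeneralLinearGroup.mkOfDetNeZero !![κ.ω, 0; 0, 1]
    (by simp [Matrix.det_fin_two, κ.ω_ne])
  let B0 : GL (Fin 2) F := GeneralLinearGroup.mkOfDetNeZero
    !![1 + (κ.ω - 1) * τ, (κ.ω - 1) * (a * (1 - τ)); (κ.ω - 1) * b, 1 + (κ.ω - 1) * (1 - τ)]
    (by
      rw [Matrix.det_fin_two_of, show (1 + (κ.ω - 1) * τ) * (1 + (κ.ω - 1) * (1 - τ)) -
        (κ.ω - 1) * (a * (1 - τ)) * ((κ.ω - 1) * b) = κ.ω by rw [hτdef]; ring]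
      exact κ.ω_ne)
  have eA : E A0 = hom κ.ω u₁ φ₁ := by
    refine gl_ext fun x => ?_
    rw [hE, emb_apply, hom_apply h₁ κ.ω_ne]
    simp [A0, hbb, hcc, Fin.sum_univ_two]
  have eB : E B0 = hom κ.ω u₂ φ₂ := by
    refine gl_ext fun x => ?_
    rw [hE, emb_apply, hom_apply h₂ κ.ω_ne]
    simp [B0, hbb, hcc, Fin.sum_univ_two]
    match_scalars <;> field_simp <;> ring
  set L := A.comap E with hL
  have hLA : A0 ∈ L := by rw [hL, Subgroup.mem_comap, eA]; exact m₁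
  have hLB : B0 ∈ L := by rw [hL, Subgroup.mem_comap, eB]; exact m₂
  set Z := Cfsg.Geo.scalars (Fin 2) F with hZ
  have zcent : ∀ z ∈ Z, ∀ g : GL (Fin 2) F, z * g = g * z := fun z hz g => by
    obtain ⟨c, hc⟩ := (Cfsg.Geo.mem_scalars_iff z).1 hz
    exact Units.ext (by simp [Units.val_mul, hc])
  set H2 := L ⊔ Z with hH2
  have hsc : C6Two.HasScalars H2 := fun g c hg => mem_sup_right (by
    rw [hZ, Cfsg.Geo.mem_scalars_iff]
    have hc : c ≠ 0 := by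
      rintro rfl
      have := congrArg Matrix.det hg
      rw [zero_smul, Matrix.det_zero] at this
      exact (GeneralLinearGroup.det g).ne_zero (by simpa using this)
    exact ⟨Units.mk0 c hc, hg⟩)
  let s : PSL2.SL2 F := ⟨(-κ.ω) • (A0 : Matrix (Fin 2) (Fin 2) F), by
    simp [A0, Matrix.det_fin_two]; linear_combination κ.cube⟩
  let t : PSL2.SL2 F := ⟨(-κ.ω) • (B0 : Matrix (Fin 2) (Fin 2) F), by
    simp [B0, Matrix.det_fin_two]; rw [hτdef]; linear_combination κ.cube⟩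
  have hscal : ∀ (g : GL (Fin 2) F) (v : PSL2.SL2 F), v.1 = (-κ.ω) • (g : Matrix (Fin 2) (Fin 2) F) →
      g ∈ L → v ∈ C6Two.slPart H2 := fun g v hv hg => by
    rw [C6Two.mem_slPart]
    let c : GL (Fin 2) F := GeneralLinearGroup.mkOfDetNeZero ((-κ.ω) • 1) (by rw [Matrix.det_smul]; simp [κ.ω_ne])
    have : Matrix.SpecialLinearGroup.toGL v = c * g := Units.ext (by
      simp [c, Matrix.SpecialLinearGroup.toGL, hv])
    rw [this]
    exact mul_mem (hsc c _ rfl) (mem_sup_left hg)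
  have hs1 : PSL2.tr s = 1 := by
    simp [PSL2.tr, s, A0]; linear_combination -κ.rel
  have ht1 : PSL2.tr t = 1 := by
    simp [PSL2.tr, t, B0]; linear_combination -κ.rel
  have hst : PSL2.tr (s * t) = 2 - 3 * τ := by
    rw [PSL2.tr, Matrix.SpecialLinearGroup.coe_mul]
    simp [s, t, A0, B0, Matrix.mul_apply, Fin.sum_univ_two]
    linear_combination (2 + τ * (κ.ω - 2)) * κ.cube + a * b * κ.rel
  have hτ0 : τ ≠ 0 := mul_ne_zero a0 b0
  rcases slTwo_le_or_exc (H := H2) rfl κ.mod3 κ.seven hsc (hscal A0 s rfl hLA) (hscal B0 t rfl hLB)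
    hs1 ht1 _ hst
    (fun e => hτ (mul_left_cancel₀ κ.three (by linear_combination -e)))
    (fun e => hτ0 (mul_left_cancel₀ κ.three (by linear_combination -e))) with h | h
  · exfalso
    let u : PSL2.SL2 F := ⟨!![2, 0; 0, 2⁻¹], by simp [Matrix.det_fin_two, κ.two]⟩
    let v : PSL2.SL2 F := ⟨!![1, 1; 0, 1], by simp [Matrix.det_fin_two]⟩
    have hcomm : ∀ g₁ g₂ : GL (Fin 2) F, g₁ ∈ H2 → g₂ ∈ H2 → ⁅g₁, g₂⁆ ∈ L := by
      intro g₁ g₂ hg₁ hg₂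
      haveI : Z.Normal := ⟨fun z hz g => by rwa [← zcent z hz g, mul_inv_cancel_right]⟩
      obtain ⟨l₁, hl₁, z₁, hz₁, rfl⟩ := Subgroup.mem_sup_of_normal_right.1 hg₁
      obtain ⟨l₂, hl₂, z₂, hz₂, rfl⟩ := Subgroup.mem_sup_of_normal_right.1 hg₂
      have c1 := zcent z₁ hz₁
      have c2 := zcent z₂ hz₂
      have : ⁅l₁ * z₁, l₂ * z₂⁆ = ⁅l₁, l₂⁆ := by
        simp only [commutatorElement_def, _root_.mul_inv_rev]
        rw [← c1 l₁, ← c2 l₂]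
        calc z₁ * l₁ * (z₂ * l₂) * (z₁⁻¹ * l₁⁻¹) * (z₂⁻¹ * l₂⁻¹)
            = z₁ * z₂ * (l₁ * l₂) * (z₁⁻¹ * l₁⁻¹) * (z₂⁻¹ * l₂⁻¹) := by
              rw [show z₁ * l₁ * (z₂ * l₂) = z₁ * (l₁ * z₂) * l₂ by group, ← c2 l₁]; group
          _ = z₁ * z₂ * z₁⁻¹ * (l₁ * l₂ * l₁⁻¹) * (z₂⁻¹ * l₂⁻¹) := by
              have d1 : z₁⁻¹ * (l₁ * l₂) = (l₁ * l₂) * z₁⁻¹ := zcent _ (inv_mem hz₁) _
              rw [show z₁ * z₂ * (l₁ * l₂) * (z₁⁻¹ * l₁⁻¹) = z₁ * z₂ * ((l₁ * l₂) * z₁⁻¹) * l₁⁻¹ by group,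
                ← d1]; group
          _ = z₁ * z₂ * z₁⁻¹ * z₂⁻¹ * (l₁ * l₂ * l₁⁻¹ * l₂⁻¹) := by
              have d2 : z₂⁻¹ * (l₁ * l₂ * l₁⁻¹) = (l₁ * l₂ * l₁⁻¹) * z₂⁻¹ := zcent _ (inv_mem hz₂) _
              rw [show z₁ * z₂ * z₁⁻¹ * (l₁ * l₂ * l₁⁻¹) * (z₂⁻¹ * l₂⁻¹) =
                z₁ * z₂ * z₁⁻¹ * ((l₁ * l₂ * l₁⁻¹) * z₂⁻¹) * l₂⁻¹ by group, ← d2]; group
          _ = l₁ * l₂ * l₁⁻¹ * l₂⁻¹ := by rw [c1 z₂]; group
      rw [this, commutatorElement_def]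
      exact mul_mem (mul_mem (mul_mem hl₁ hl₂) (inv_mem hl₁)) (inv_mem hl₂)
    have hm := hcomm _ _ (C6Two.mem_slPart.1 (h u)) (C6Two.mem_slPart.1 (h v))
    rw [← map_commutatorElement, hL, Subgroup.mem_comap] at hm
    have hval : (⁅u, v⁆ : PSL2.SL2 F).1 = !![1, 3; 0, 1] := by
      have h2 := κ.two
      show u.1 * v.1 * Matrix.adjugate u.1 * Matrix.adjugate v.1 = _
      simp only [u, v, Matrix.adjugate_fin_two_of, Matrix.mul_fin_two]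
      ext i j
      fin_cases i <;> fin_cases j <;> simp [h2] <;> norm_num
    have h0 : ((3 : F) • cc 1) (bb 0) = 0 := by simp [hd2 1 0]
    have he : E (Matrix.SpecialLinearGroup.toGL ⁅u, v⁆) = tv (bb 0) ((3 : F) • cc 1) := by
      refine gl_ext fun x => ?_
      rw [hE, emb_apply, tv_apply h0,
        show ((Matrix.SpecialLinearGroup.toGL ⁅u, v⁆ : GL (Fin 2) F) : Matrix (Fin 2) (Fin 2) F) =
          !![1, 3; 0, 1] from hval]
      simp [Fin.sum_univ_two]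
    have h3 := (tv_eq_one_iff h0).1 (hA _ _ h0 (he ▸ hm)) (bb 1)
    rw [LinearMap.smul_apply, hd2 1 1, if_pos rfl, smul_eq_mul, mul_one] at h3
    have hu1 : u₁ = 0 := (smul_eq_zero.1 h3).resolve_left κ.three
    simp [hu1] at h₁
  · show (3 * τ - 1) * (3 * τ - 2) * (9 * τ ^ 2 - 9 * τ + 1) = 0
    unfold Exc at h
    linear_combination h

end Cfsg.Agent.C6Three
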