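/-
Sums of good values.
Main results: `good_three`, `good_four`.
-/
import Cfsg.Agent.Lib.C6Three.Pair

set_option autoImplicit false
set_option linter.unusedSectionVars false

namespace Cfsg.Agent.C6Three

variable {F : Type*} [Field F] [Fintype F]

/-- The constant parts of the four possible values of 3τ. -/
def cA : Fin 4 → ℤ := ![1, 2, 0, 3]

/-- The coefficients of the root r in the four possible values of 3τ. -/
def cB : Fin 4 → ℤ := ![0, 0, 1, -1]

/-- The integer which the characteristic must divide. -/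
def nrm (c m : ℤ) : ℕ := if m = 0 then c.natAbs else (c ^ 2 + 3 * c * m + m ^ 2).natAbs

theorem check_three : ∀ i j k : Fin 4,
    nrm (cA i + cA j + cA k - 3) (cB i + cB j + cB k) ∣ 330 ^ 8 ∨ (i = 0 ∧ j = 0 ∧ k = 0) := by
  decide +kernel

theorem check_four : ∀ i j k l : Fin 4,
    nrm (cA i + cA j + cA k + cA l - 3) (cB i + cB j + cB k + cB l) ∣ 330 ^ 8 ∨
      (j = 1 ∧ k = 1 ∧ l = 1) ∨ (i = 1 ∧ k = 1 ∧ l = 1) ∨ (i = 1 ∧ j = 1 ∧ l = 1) ∨
        (i = 1 ∧ j = 1 ∧ k = 1) := by
  decide +kernel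

variable (κ : Fld F)
include κ

theorem not_small {n : ℕ} (hn : n ∣ 330 ^ 8) : (n : F) ≠ 0 := by
  refine κ.cast_ne n fun h => ?_
  have h1 := κ.prime.dvd_of_dvd_pow (h.trans hn)
  have h7 := κ.seven
  have h3 := κ.mod3
  have hp := κ.prime
  rcases hp.dvd_mul.1 (show Fintype.card F ∣ 30 * 11 from h1) with h | h
  · have := Nat.le_of_dvd (by norm_num) h
    have : Fintype.card F ∈ Nat.divisors 30 := Nat.mem_divisors.2 ⟨h, by norm_num⟩
    simp [show Nat.divisors 30 = {1, 2, 3, 5, 6, 10, 15, 30} from rfl] at this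
    rcases this with e | e | e | e | e | e | e | e <;> first | omega | (rw [e] at hp; norm_num at hp)
  · have := (Nat.prime_dvd_prime_iff_eq hp (by norm_num)).1 h
    omega

theorem exists_root : ∃ r : F, r ^ 2 - 3 * r + 1 = 0 ∨ ∀ x : F, x ^ 2 - 3 * x + 1 ≠ 0 := by
  by_cases h : ∃ x : F, x ^ 2 - 3 * x + 1 = 0
  · exact ⟨h.choose, Or.inl h.choose_spec⟩
  · exact ⟨0, Or.inr fun x hx => h ⟨x, hx⟩⟩

theorem exists_code {r : F} (hr : r ^ 2 - 3 * r + 1 = 0 ∨ ∀ x : F, x ^ 2 - 3 * x + 1 ≠ 0) {g : F}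
    (hg : Good g) : ∃ i : Fin 4, 3 * g = cA i + cB i * r ∧ (cB i = 0 ∨ r ^ 2 - 3 * r + 1 = 0) := by
  rcases mul_eq_zero.1 hg with h | h
  · rcases mul_eq_zero.1 h with h | h
    · exact ⟨0, by simp [cA, cB]; linear_combination h, Or.inl rfl⟩
    · exact ⟨1, by simp [cA, cB]; linear_combination h, Or.inl rfl⟩
  · rcases hr with hr | hr
    · rcases mul_eq_zero.1 (show (3 * g - r) * (3 * g + r - 3) = 0 by linear_combination h - hr) with e | e
      · exact ⟨2, by simp [cA, cB]; linear_combination e, Or.inr hr⟩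
      · exact ⟨3, by simp [cA, cB]; linear_combination e, Or.inr hr⟩
    · exact absurd (by linear_combination h) (hr (3 * g))

theorem nrm_zero {r : F} {c m : ℤ} (h : (c : F) + m * r = 0)
    (hr : m = 0 ∨ r ^ 2 - 3 * r + 1 = 0) : ((nrm c m : ℕ) : F) = 0 := by
  have cast_abs : ∀ z : ℤ, (z : F) = 0 → ((z.natAbs : ℕ) : F) = 0 := fun z hz => by
    rcases Int.natAbs_eq z with e | e <;> rw [e] at hz <;> simpa using hz
  unfold nrm
  split
  · rename_i hm
    rw [hm] at h
    exact cast_abs c (by simpa using h)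
  · rename_i hm
    have hr' := hr.resolve_left hm
    apply cast_abs
    push_cast
    linear_combination ((c : F) - m * r + 3 * m) * h + (m : F) ^ 2 * hr'

/-- Three good values with sum one are all one third. -/
theorem good_three {a b c : F} (ha : Good a) (hb : Good b) (hc : Good c) (h : a + b + c = 1) :
    3 * a = 1 ∧ 3 * b = 1 ∧ 3 * c = 1 := by
  obtain ⟨r, hr⟩ := exists_root κ
  obtain ⟨i, hi, hi'⟩ := exists_code κ hr ha
  obtain ⟨j, hj, hj'⟩ := exists_code κ hr hb
  obtain ⟨k, hk, hk'⟩ := exists_code κ hr hc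
  rcases check_three i j k with hn | ⟨rfl, rfl, rfl⟩
  · refine absurd (nrm_zero κ (r := r) ?_ ?_) (not_small κ hn)
    · push_cast; linear_combination 3 * h - hi - hj - hk
    · by_cases e : r ^ 2 - 3 * r + 1 = 0
      · exact Or.inr e
      · exact Or.inl (by rw [hi'.resolve_right e, hj'.resolve_right e, hk'.resolve_right e]; rfl)
  · simp [cA, cB] at hi hj hk; exact ⟨hi, hj, hk⟩

/-- Four good values with sum one: one of them is minus one, the others are two thirds. -/
theorem good_four {g : Fin 4 → F} (hg : ∀ i, Good (g i)) (h : ∑ i, g i = 1) :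
    ∃ k, g k = -1 ∧ ∀ i, i ≠ k → 3 * g i = 2 := by
  obtain ⟨r, hr⟩ := exists_root κ
  obtain ⟨i, hi, hi'⟩ := exists_code κ hr (hg 0)
  obtain ⟨j, hj, hj'⟩ := exists_code κ hr (hg 1)
  obtain ⟨k, hk, hk'⟩ := exists_code κ hr (hg 2)
  obtain ⟨l, hl, hl'⟩ := exists_code κ hr (hg 3)
  rw [Fin.sum_univ_four] at h
  have h3 := κ.three
  rcases check_four i j k l with hn | ⟨rfl, rfl, rfl⟩ | ⟨rfl, rfl, rfl⟩ | ⟨rfl, rfl, rfl⟩ | ⟨rfl, rfl, rfl⟩
  · refine absurd (nrm_zero κ (r := r) ?_ ?_) (not_small κ hn)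
    · push_cast; linear_combination 3 * h - hi - hj - hk - hl
    · by_cases e : r ^ 2 - 3 * r + 1 = 0
      · exact Or.inr e
      · exact Or.inl (by
          rw [hi'.resolve_right e, hj'.resolve_right e, hk'.resolve_right e, hl'.resolve_right e]; rfl)
  all_goals simp [cA, cB] at hi hj hk hl
  · refine ⟨0, mul_left_cancel₀ h3 (by linear_combination 3 * h - hj - hk - hl), fun m hm => ?_⟩
    fin_cases m <;> first | exact absurd rfl hm | assumption
  · refine ⟨1, mul_left_cancel₀ h3 (by linear_combination 3 * h - hi - hk - hl), fun m hm => ?_⟩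
    fin_cases m <;> first | exact absurd rfl hm | assumption
  · refine ⟨2, mul_left_cancel₀ h3 (by linear_combination 3 * h - hi - hj - hl), fun m hm => ?_⟩
    fin_cases m <;> first | exact absurd rfl hm | assumption
  · refine ⟨3, mul_left_cancel₀ h3 (by linear_combination 3 * h - hi - hj - hk), fun m hm => ?_⟩
    fin_cases m <;> first | exact absurd rfl hm | assumption

end Cfsg.Agent.C6Three
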