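/-
The forty homologies of the four-dimensional configuration.
Main results: `Quad`, `Quad.pt_mem`, `Quad.forty`.
-/
import Cfsg.Agent.Lib.C6Three.Hessian

set_option autoImplicit false
set_option linter.unusedSectionVars false

namespace Cfsg.Agent.C6Three

open Matrix Cfsg.Agent.Transvect
open scoped Matrix

variable {ι : Type} [Fintype ι] [DecidableEq ι] {F : Type*} [Field F] [Fintype F]

/-- The four base vectors. -/
def c4 : Fin 4 → Fin 4 → F := ![![0, 1, 1, 1], ![1, 0, 1, -1], ![-1, 1, 0, -1], ![1, 1, -1, 0]]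

/-- An index whose base vector is orthogonal to that of the given one. -/
def prt : Fin 4 → Fin 4 := ![1, 2, 1, 0]

theorem c4_self (k : Fin 4) : (c4 k k : F) = 0 := by fin_cases k <;> simp [c4]

theorem c4_sq (k : Fin 4) (j : Fin 3) : (c4 k (k.succAbove j) : F) * c4 k (k.succAbove j) = 1 := by
  fin_cases k <;> fin_cases j <;> simp [c4, Fin.succAbove]

theorem c4_orth (k : Fin 4) : ∑ j : Fin 3, (c4 (prt k) (k.succAbove j) : F) * c4 k (k.succAbove j) = 0 ∧
    (c4 (prt k) k : F) * c4 (prt k) k = 1 := by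
  fin_cases k <;> simp [c4, prt, Fin.succAbove, Fin.sum_univ_three]

variable (κ : Fld F)
include κ

theorem inv_pow (m : ℕ) : κ.ω ^ (2 * m) * κ.ω ^ m = 1 := by
  rw [← pow_add, show 2 * m + m = 3 * m by ring, pow_mul, κ.cube, one_pow]

theorem pow_fin (m k : Fin 3) : κ.ω ^ ((m + k : Fin 3) : ℕ) = κ.ω ^ (m : ℕ) * κ.ω ^ (k : ℕ) := by
  rw [Fin.val_add, ← pow_add]
  conv_rhs => rw [← Nat.mod_add_div ((m : ℕ) + k) 3, pow_add, pow_mul, κ.cube, one_pow, mul_one]

/-- A vanishing value forces cube-root ratios. -/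
theorem zero_pt {K : F} (hK : K ≠ 0) {a b : Fin 3 → F} (hab : ∀ i, a i * b i = K) {s t : Fin 3}
    (eA : a 0 + κ.ω ^ (2 * (s : ℕ)) * a 1 + κ.ω ^ (2 * (t : ℕ)) * a 2 = 0)
    (eB : b 0 + b 1 * κ.ω ^ (s : ℕ) + b 2 * κ.ω ^ (t : ℕ) = 0) :
    ∃ s' t' : Fin 3, a 1 = κ.ω ^ (s' : ℕ) * a 0 ∧ a 2 = κ.ω ^ (t' : ℕ) * a 0 := by
  set x := κ.ω ^ (2 * (s : ℕ)) * a 1 with hx
  set y := κ.ω ^ (2 * (t : ℕ)) * a 2 with hy
  have hq : x * y + a 0 * y + a 0 * x = 0 := by
    refine (mul_eq_zero.1 (show K * (x * y + a 0 * y + a 0 * x) = 0 by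
      linear_combination (a 0 * x * y) * eB - (x * y) * hab 0 -
        (a 0 * y) * (a 1 * b 1) * inv_pow κ s - (a 0 * x) * (a 2 * b 2) * inv_pow κ t -
        (a 0 * y) * hab 1 - (a 0 * x) * hab 2)).resolve_left hK
  have hsq : x ^ 2 + a 0 * x + a 0 ^ 2 = 0 := by linear_combination (x + a 0) * eA - hq
  have ea1 : a 1 = κ.ω ^ (s : ℕ) * x := by rw [hx]; linear_combination -(a 1) * inv_pow κ s
  have ea2 : a 2 = κ.ω ^ (t : ℕ) * y := by rw [hy]; linear_combination -(a 2) * inv_pow κ t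
  rcases mul_eq_zero.1 (show (x - κ.ω * a 0) * (x - κ.ω ^ 2 * a 0) = 0 by
    linear_combination hsq - a 0 * x * κ.rel + a 0 ^ 2 * κ.cube) with e | e
  · have e2 : y = κ.ω ^ 2 * a 0 := by linear_combination eA - e - a 0 * κ.rel
    exact ⟨s + 1, t + 2, by rw [ea1, sub_eq_zero.1 e, pow_fin κ]; simp; ring,
      by rw [ea2, e2, pow_fin κ]; simp; ring⟩
  · have e2 : y = κ.ω * a 0 := by linear_combination eA - e - a 0 * κ.rel
    exact ⟨s + 2, t + 1, by rw [ea1, sub_eq_zero.1 e, pow_fin κ]; simp; ring,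
      by rw [ea2, e2, pow_fin κ]; simp; ring⟩

/-- Equal values at the nine points. -/
theorem equal_nine {K a₀ a₁ a₂ b₀ b₁ b₂ : F}
    (h : ∀ s t : Fin 3, (a₀ + κ.ω ^ (2 * (s : ℕ)) * a₁ + κ.ω ^ (2 * (t : ℕ)) * a₂) *
      (b₀ + b₁ * κ.ω ^ (s : ℕ) + b₂ * κ.ω ^ (t : ℕ)) = K) : a₂ * b₁ = 0 := by
  have hω := κ.cube
  have four : ∀ A B : F, (A + a₁) * (B + b₁) = K → (A + κ.ω ^ 2 * a₁) * (B + κ.ω * b₁) = K →
      (A + κ.ω ^ 4 * a₁) * (B + κ.ω ^ 2 * b₁) = K → A * b₁ = 0 := fun A B h0 h1 h2 => by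
    refine (mul_eq_zero.1 (show 3 * (A * b₁) = 0 by
      linear_combination h0 + κ.ω ^ 2 * h1 + κ.ω ^ 4 * h2 - (A * B - K) * (κ.rel + κ.ω * hω) -
        A * b₁ * ((κ.ω ^ 3 + 1 + 1) * hω) -
        a₁ * B * (κ.rel + (κ.ω + κ.ω ^ 2 * (κ.ω ^ 3 + 1)) * hω) -
        a₁ * b₁ * (κ.rel + (κ.ω ^ 2 + κ.ω * (κ.ω ^ 6 + κ.ω ^ 3 + 1)) * hω))).resolve_left κ.three
  have g00 := h 0 0; have g10 := h 1 0; have g20 := h 2 0
  have g01 := h 0 1; have g11 := h 1 1; have g21 := h 2 1
  simp only [Fin.val_zero, Fin.val_one, Fin.val_two, mul_zero, pow_zero, mul_one, one_mul] at g00 g10 g20 g01 g11 g21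
  have q0 := four (a₀ + a₂) (b₀ + b₂) (by linear_combination g00) (by linear_combination g10)
    (by linear_combination g20)
  have q1 := four (a₀ + κ.ω ^ 2 * a₂) (b₀ + κ.ω * b₂) (by linear_combination g01)
    (by linear_combination g11) (by linear_combination g21)
  exact (mul_eq_zero.1 (show (1 - κ.ω ^ 2) * (a₂ * b₁) = 0 by linear_combination q0 - q1)).resolve_left
    fun e => κ.sq_ne_one (by linear_combination -e)

/-- The sum over a class of three points. -/
theorem class_sum (a₀ a₁ a₂ b₀ b₁ b₂ : F) (m : Fin 3) :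
    ∑ k : Fin 3, (a₀ + κ.ω ^ (2 * (k : ℕ)) * a₁ + κ.ω ^ (2 * ((m - k : Fin 3) : ℕ)) * a₂) *
      (b₀ + b₁ * κ.ω ^ (k : ℕ) + b₂ * κ.ω ^ ((m - k : Fin 3) : ℕ)) =
      3 * (a₀ * b₀ + a₁ * b₁ + a₂ * b₂) := by
  have hω := κ.cube
  have rel := κ.rel
  fin_cases m <;> simp [Fin.sum_univ_three, show (-2 : Fin 3) = 1 from rfl, show (-1 : Fin 3) = 2 from rfl, show (1 - 2 : Fin 3) = 2 from rfl, show (2 - 1 : Fin 3) = 1 from rfl] <;> grind

/-- Coordinates of a point with exponents w. -/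
def vco (l : Fin 4) (w : Fin 4 → ℕ) (j : Fin 4) : F := c4 l j * κ.ω ^ w j

/-- Dual coordinates. -/
def dco (l : Fin 4) (w : Fin 4 → ℕ) (j : Fin 4) : F := c4 l j * κ.ω ^ (2 * w j)

/-- The point. -/
def qV (e : Fin 4 → ι → F) (l : Fin 4) (w : Fin 4 → ℕ) : ι → F := ∑ j, vco κ l w j • e j

/-- The dual point. -/
def qD (f : Fin 4 → (ι → F) →ₗ[F] F) (l : Fin 4) (w : Fin 4 → ℕ) : (ι → F) →ₗ[F] F :=
  (3 : F)⁻¹ • ∑ j, dco κ l w j • f j

/-- The hypotheses. -/
structure Quad (A : Subgroup (GL ι F)) (e : Fin 4 → ι → F) (f : Fin 4 → (ι → F) →ₗ[F] F) : Prop where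
  dual : ∀ i j, f i (e j) = if i = j then 1 else 0
  frame : ∀ i, hom κ.ω (e i) (f i) ∈ A
  base : ∀ l, hom κ.ω (∑ j, (c4 l j : F) • e j) ((3 : F)⁻¹ • ∑ j, (c4 l j : F) • f j) ∈ A

theorem qD_qV {e : Fin 4 → ι → F} {f : Fin 4 → (ι → F) →ₗ[F] F}
    (hd : ∀ i j, f i (e j) = if i = j then 1 else 0) (l : Fin 4) (w : Fin 4 → ℕ) :
    qD κ f l w (qV κ e l w) = 1 := by
  have h3 := κ.three
  have h : ∀ j, dco κ l w j * vco κ l w j = c4 l j * c4 l j := fun j => by
    simp only [dco, vco]; linear_combination c4 l j * c4 l j * inv_pow κ (w j)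
  simp [qD, qV, map_sum, LinearMap.sum_apply, hd, Fin.sum_univ_four]
  field_simp
  have hc4 : (c4 l 0 * c4 l 0 + c4 l 1 * c4 l 1 + c4 l 2 * c4 l 2 + c4 l 3 * c4 l 3 : F) = 3 := by
    fin_cases l <;> simp [c4] <;> norm_num
  linear_combination h 0 + h 1 + h 2 + h 3 + hc4

theorem Quad.pt_mem {A : Subgroup (GL ι F)} {e : Fin 4 → ι → F} {f : Fin 4 → (ι → F) →ₗ[F] F}
    (T : Quad κ A e f) (l : Fin 4) (w : Fin 4 → ℕ) : hom κ.ω (qV κ e l w) (qD κ f l w) ∈ A := by
  set g := hom κ.ω (e 0) (f 0) ^ w 0 * (hom κ.ω (e 1) (f 1) ^ w 1 *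
    (hom κ.ω (e 2) (f 2) ^ w 2 * hom κ.ω (e 3) (f 3) ^ w 3)) with hg
  have hgA : g ∈ A := mul_mem (pow_mem (T.frame 0) _)
    (mul_mem (pow_mem (T.frame 1) _) (mul_mem (pow_mem (T.frame 2) _) (pow_mem (T.frame 3) _)))
  have hii : ∀ i, f i (e i) = 1 := fun i => by simp [T.dual]
  have hw : ∀ n : ℕ, κ.ω ^ n ≠ 0 := fun n => pow_ne_zero _ κ.ω_ne
  have hu : ((3 : F)⁻¹ • ∑ j, (c4 l j : F) • f j) (∑ j, (c4 l j : F) • e j) = 1 := by
    have := qD_qV κ T.dual l (fun _ => 0)
    simpa [qD, qV, dco, vco] using this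
  have e1 : app g (∑ j, (c4 l j : F) • e j) = qV κ e l w := by
    rw [hg]
    simp only [hom_pow κ (hii _), map_mul, LinearEquiv.mul_apply, hom_apply (hii _) (hw _), map_sum,
      map_smul, qV, vco, Fin.sum_univ_four]
    simp [T.dual]
    module
  have hinv : ∀ n : ℕ, (κ.ω ^ n)⁻¹ = κ.ω ^ (2 * n) := fun n =>
    inv_eq_of_mul_eq_one_right (by rw [mul_comm, inv_pow κ])
  have e2 : ((3 : F)⁻¹ • ∑ j, (c4 l j : F) • f j) ∘ₗ (app g⁻¹).toLinearMap = qD κ f l w := by
    refine LinearMap.ext fun y => ?_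
    simp only [LinearMap.comp_apply, LinearEquiv.coe_coe, hg, hom_pow κ (hii _), _root_.mul_inv_rev,
      map_mul, LinearEquiv.mul_apply, app_hom_inv (hii _) (hw _), hinv]
    simp [qD, dco, Fin.sum_univ_four, T.dual]
    ring
  have := mul_mem (mul_mem hgA (T.base l)) (inv_mem hgA)
  rwa [hom_conj hu κ.ω_ne, e1, e2] at this

/-- One of the forty. -/
def IsForty (e : Fin 4 → ι → F) (f : Fin 4 → (ι → F) →ₗ[F] F) (u : ι → F)
    (φ : (ι → F) →ₗ[F] F) : Prop :=
  (∃ i, Same u φ (e i) (f i)) ∨ ∃ l w, Same u φ (qV κ e l w) (qD κ f l w)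

/-- A further homology is one of the forty. -/
theorem Quad.forty {A : Subgroup (GL ι F)} (hA : NoTv A) {e : Fin 4 → ι → F}
    {f : Fin 4 → (ι → F) →ₗ[F] F} (T : Quad κ A e f) {u : ι → F} {φ : (ι → F) →ₗ[F] F}
    (hu : u = ∑ i, f i u • e i) (hφ : ∀ y, φ y = ∑ i, φ (e i) * f i y) (h1 : φ u = 1)
    (hm : hom κ.ω u φ ∈ A) : IsForty κ e f u φ := by
  by_contra hcon
  simp only [IsForty, not_or, not_exists] at hcon
  obtain ⟨hn1, hn2⟩ := hcon
  have hii : ∀ i, f i (e i) = 1 := fun i => by simp [T.dual]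
  have hc : ∀ i, (f i u = 0 ∧ φ (e i) = 0) ∨ Good (f i u * φ (e i)) := fun i => by
    rcases pair κ hA h1 (hii i) hm (T.frame i) with ⟨ha, hb⟩ | hsame | hg
    · exact Or.inl ⟨hb, ha⟩
    · exact absurd hsame (hn1 i)
    · exact Or.inr (by rwa [mul_comm] at hg)
  have hp : ∀ l w, (∑ j, dco κ l w j * f j u = 0 ∧ ∑ j, φ (e j) * vco κ l w j = 0) ∨
      Good ((∑ j, dco κ l w j * f j u) * (∑ j, φ (e j) * vco κ l w j) / 3) := fun l w => by
    have hpu : qD κ f l w u = (3 : F)⁻¹ * ∑ j, dco κ l w j * f j u := by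
      simp [qD, LinearMap.sum_apply]
    have hpv : φ (qV κ e l w) = ∑ j, φ (e j) * vco κ l w j := by
      simp [qV, map_sum, mul_comm]
    rcases pair κ hA h1 (qD_qV κ T.dual l w) hm (T.pt_mem κ l w) with ⟨ha, hb⟩ | hsame | hg
    · rw [hpu] at hb
      rw [hpv] at ha
      exact Or.inl ⟨(mul_eq_zero.1 hb).resolve_left (inv_ne_zero κ.three), ha⟩
    · exact absurd hsame (hn2 l w)
    · refine Or.inr ?_
      rw [hpu, hpv] at hg
      convert hg using 1
      ring
  have hs : ∑ i, f i u * φ (e i) = 1 := by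
    rw [← h1, hφ u]; exact Finset.sum_congr rfl fun i _ => mul_comm _ _
  let W : Fin 4 → Fin 3 → Fin 3 → Fin 4 → ℕ := fun k s t =>
    Fin.insertNth (α := fun _ => ℕ) k 0 ![0, (s : ℕ), (t : ℕ)]
  have Wk : ∀ k s t j, W k s t (k.succAbove j) = ![0, (s : ℕ), (t : ℕ)] j := fun k s t j =>
    Fin.insertNth_apply_succAbove k 0 _ j
  by_cases hz : ∃ k, f k u = 0 ∧ φ (e k) = 0
  · obtain ⟨k, hak, hbk⟩ := hz
    set te : Fin 3 → ι → F := fun j => (c4 k (k.succAbove j) : F) • e (k.succAbove j) with hte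
    set tf : Fin 3 → (ι → F) →ₗ[F] F := fun j => (c4 k (k.succAbove j) : F) • f (k.succAbove j) with htf
    have hcc : ∀ j, (c4 k (k.succAbove j) : F) ≠ 0 := fun j e0 => by
      have := c4_sq (F := F) k j; simp [e0] at this
    have hcinv : ∀ j, (c4 k (k.succAbove j) : F)⁻¹ = c4 k (k.succAbove j) := fun j =>
      inv_eq_of_mul_eq_one_right (c4_sq k j)
    have TT : Tri κ A te tf := by
      refine ⟨fun i j => ?_, fun i => ?_, ?_⟩
      · simp only [hte, htf, LinearMap.smul_apply, map_smul, T.dual, smul_eq_mul,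
          Fin.succAbove_right_inj]
        split_ifs with h
        · subst h; rw [mul_one, c4_sq]
        · simp
      · have := hom_smul (hii (k.succAbove i)) κ.ω_ne (hcc i)
        rw [hcinv] at this
        exact this ▸ T.frame (k.succAbove i)
      · have := T.base k
        rwa [Fin.sum_univ_succAbove _ k, Fin.sum_univ_succAbove _ k, c4_self, zero_smul, zero_smul,
          zero_add, zero_add, Fin.sum_univ_three, Fin.sum_univ_three] at this
    have hu' : u = ∑ i, tf i u • te i := by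
      conv_lhs => rw [hu, Fin.sum_univ_succAbove _ k, hak, zero_smul, zero_add]
      refine Finset.sum_congr rfl fun i _ => ?_
      simp only [hte, htf, LinearMap.smul_apply, smul_smul, smul_eq_mul]
      congr 1
      linear_combination -(f (k.succAbove i) u) * c4_sq (F := F) k i
    have hφ' : ∀ y, φ y = ∑ i, φ (te i) * tf i y := fun y => by
      rw [hφ y, Fin.sum_univ_succAbove _ k, hbk, zero_mul, zero_add]
      refine Finset.sum_congr rfl fun i _ => ?_
      simp only [hte, htf, LinearMap.smul_apply, map_smul, smul_eq_mul]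
      linear_combination -(φ (e (k.succAbove i)) * f (k.succAbove i) y) * c4_sq (F := F) k i
    rcases hessian κ hA TT hu' hφ' h1 hm with ⟨i, h⟩ | ⟨s, t, h⟩
    · refine hn1 (k.succAbove i) fun y => ?_
      rw [h y]
      simp only [hte, htf, LinearMap.smul_apply, smul_smul, smul_eq_mul]
      congr 1
      linear_combination (f (k.succAbove i) y) * c4_sq (F := F) k i
    · refine hn2 k (W k s t) fun y => ?_
      rw [h y]
      simp only [pV, pD, qV, qD, Fin.sum_univ_succAbove _ k, Fin.sum_univ_three, vco, dco, c4_self, Wk]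
      simp [hte, htf, cvec, dvec, smul_smul, mul_comm, mul_left_comm]
  push Not at hz
  have gg : ∀ i, Good (f i u * φ (e i)) := fun i => (hc i).resolve_left fun h => hz i h.1 h.2
  obtain ⟨k, hk, hrest⟩ := good_four κ gg hs
  set a : Fin 3 → F := fun j => c4 k (k.succAbove j) * f (k.succAbove j) u with ha
  set b : Fin 3 → F := fun j => c4 k (k.succAbove j) * φ (e (k.succAbove j)) with hb
  have hab : ∀ j, a j * b j = 2 / 3 := fun j => by
    rw [eq_div_iff κ.three]
    simp only [ha, hb]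
    linear_combination 3 * (f (k.succAbove j) u * φ (e (k.succAbove j))) * c4_sq (F := F) k j +
      hrest _ (Fin.succAbove_ne k j)
  have h23 : (2 / 3 : F) ≠ 0 := div_ne_zero κ.two κ.three
  have val : ∀ s t, (∑ j, dco κ k (W k s t) j * f j u = a 0 + κ.ω ^ (2 * (s : ℕ)) * a 1 + κ.ω ^ (2 * (t : ℕ)) * a 2) ∧
      (∑ j, φ (e j) * vco κ k (W k s t) j = b 0 + b 1 * κ.ω ^ (s : ℕ) + b 2 * κ.ω ^ (t : ℕ)) := fun s t => by
    refine ⟨?_, ?_⟩ <;>
      (simp only [Fin.sum_univ_succAbove _ k, Fin.sum_univ_three, vco, dco, c4_self, Wk, ha, hb]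
       simp
       ring)
  have h5 : (5 : F) ≠ 0 := mod_cast κ.cast_ne 5 fun hd => by
    have := Nat.le_of_dvd (by norm_num) hd; have := κ.seven; omega
  by_cases hzero : ∃ s t : Fin 3, a 0 + κ.ω ^ (2 * (s : ℕ)) * a 1 + κ.ω ^ (2 * (t : ℕ)) * a 2 = 0 ∧
      b 0 + b 1 * κ.ω ^ (s : ℕ) + b 2 * κ.ω ^ (t : ℕ) = 0
  · obtain ⟨s, t, eA, eB⟩ := hzero
    obtain ⟨s', t', h1', h2'⟩ := zero_pt κ h23 hab eA eB
    set m : Fin 3 → ℕ := ![0, (s' : ℕ), (t' : ℕ)] with hm'
    have aj : ∀ j, a j = κ.ω ^ m j * a 0 := fun j => by fin_cases j <;> simp [hm', h1', h2']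
    have a0 : a 0 ≠ 0 := fun e0 => h23 (by rw [← hab 0, e0, zero_mul])
    have bj : ∀ j, b j = κ.ω ^ (2 * m j) * b 0 := fun j => by
      refine mul_left_cancel₀ a0 ?_
      linear_combination κ.ω ^ (2 * m j) * hab j - b j * a 0 * inv_pow κ (m j) -
        κ.ω ^ (2 * m j) * b j * aj j - κ.ω ^ (2 * m j) * hab 0
    obtain ⟨ho, hsq⟩ := c4_orth (F := F) k
    have ea : ∑ j, dco κ (prt k) (W k s' t') j * f j u = c4 (prt k) k * f k u := by
      have step : ∀ j, dco κ (prt k) (W k s' t') (k.succAbove j) * f (k.succAbove j) u =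
          c4 (prt k) (k.succAbove j) * c4 k (k.succAbove j) * a 0 := fun j => by
        have := aj j
        simp only [ha] at this ⊢
        simp only [dco, Wk, ← hm']
        linear_combination (c4 (prt k) (k.succAbove j) * κ.ω ^ (2 * m j) * c4 k (k.succAbove j)) * this +
          (c4 (prt k) (k.succAbove j) * c4 k (k.succAbove j) * (c4 k (k.succAbove 0) * f (k.succAbove 0) u)) * inv_pow κ (m j) -
          (c4 (prt k) (k.succAbove j) * κ.ω ^ (2 * m j) * f (k.succAbove j) u) * c4_sq (F := F) k j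
      rw [Fin.sum_univ_succAbove _ k, Finset.sum_congr rfl fun j _ => step j, ← Finset.sum_mul, ho]
      simp [dco, W]
    have eb : ∑ j, φ (e j) * vco κ (prt k) (W k s' t') j = φ (e k) * c4 (prt k) k := by
      have step : ∀ j, φ (e (k.succAbove j)) * vco κ (prt k) (W k s' t') (k.succAbove j) =
          c4 (prt k) (k.succAbove j) * c4 k (k.succAbove j) * b 0 := fun j => by
        have := bj j
        simp only [hb] at this ⊢
        simp only [vco, Wk, ← hm']
        linear_combination (c4 (prt k) (k.succAbove j) * κ.ω ^ (m j) * c4 k (k.succAbove j)) * this +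
          (c4 (prt k) (k.succAbove j) * c4 k (k.succAbove j) * (c4 k (k.succAbove 0) * φ (e (k.succAbove 0)))) * inv_pow κ (m j) -
          (c4 (prt k) (k.succAbove j) * κ.ω ^ (m j) * φ (e (k.succAbove j))) * c4_sq (F := F) k j
      rw [Fin.sum_univ_succAbove _ k, Finset.sum_congr rfl fun j _ => step j, ← Finset.sum_mul, ho]
      simp [vco, W]
    have hne : f k u * φ (e k) ≠ 0 := good_ne_zero κ (gg k)
    rcases hp (prt k) (W k s' t') with ⟨z, -⟩ | hg
    · rw [ea] at z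
      rcases mul_eq_zero.1 z with z | z
      · simp [z] at hsq
      · exact hne (by rw [z, zero_mul])
    · rw [ea, eb] at hg
      rw [show c4 (prt k) k * f k u * (φ (e k) * c4 (prt k) k) / 3 = (-1 : F) / 3 by
        rw [← hk]; linear_combination (f k u * φ (e k) / 3) * hsq] at hg
      unfold Good at hg
      have h3 := κ.three
      field_simp at hg
      rcases mul_eq_zero.1 (show ((2 : F) * 3 ^ 3) * 5 = 0 by linear_combination hg) with e0 | e0
      · rcases mul_eq_zero.1 e0 with e0 | e0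
        · exact κ.two e0
        · exact h3 ((pow_eq_zero_iff (by norm_num)).1 e0)
      · exact h5 e0
  push Not at hzero
  set v : Fin 3 → Fin 3 → F := fun s t =>
    (a 0 + κ.ω ^ (2 * (s : ℕ)) * a 1 + κ.ω ^ (2 * (t : ℕ)) * a 2) *
      (b 0 + b 1 * κ.ω ^ (s : ℕ) + b 2 * κ.ω ^ (t : ℕ)) / 3 with hv
  have gv : ∀ s t, Good (v s t) := fun s t => by
    have := hp k (W k s t)
    rw [(val s t).1, (val s t).2] at this
    exact this.resolve_left fun h => hzero s t h.1 h.2
  have all : ∀ s t : Fin 3, v s t = 2 / 3 := fun s t => by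
    set g : Fin 4 → F := Fin.cons (f k u * φ (e k)) (fun i => v i (s + t - i)) with hgdef
    have hsum : ∑ i, g i = 1 := by
      rw [hgdef, Fin.sum_cons, hk]
      have := class_sum κ (a 0) (a 1) (a 2) (b 0) (b 1) (b 2) (s + t)
      simp only [hv, ← Finset.sum_div, this]
      have h3 := κ.three
      have hab' : ∀ j, 3 * (a j * b j) = 2 := fun j => by rw [hab, mul_div_cancel₀ _ h3]
      field_simp
      apply mul_left_cancel₀ h3
      linear_combination hab' 0 + hab' 1 + hab' 2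
    have hg : ∀ i, Good (g i) := fun i => by
      refine Fin.cases ?_ ?_ i
      · simpa [hgdef] using gg k
      · intro j; simpa [hgdef] using gv _ _
    obtain ⟨q, hq, hq'⟩ := good_four κ hg hsum
    have h0 : g 0 = -1 := by simp [hgdef, hk]
    have q0 : q = 0 := by
      by_contra hne
      have := hq' 0 (Ne.symm hne)
      rw [h0] at this
      exact h5 (by linear_combination -this)
    have := hq' (Fin.succ s) (by rw [q0]; exact Fin.succ_ne_zero s)
    simp [hgdef] at this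
    rw [eq_div_iff κ.three, mul_comm]
    exact this
  have h3 := κ.three
  have := equal_nine κ (K := (2 : F)) fun s t => by
    have := all s t
    simp only [hv] at this
    field_simp at this
    exact this
  rcases mul_eq_zero.1 this with e0 | e0
  · exact h23 (by rw [← hab 2, e0, zero_mul])
  · exact h23 (by rw [← hab 1, e0, mul_zero])

end Cfsg.Agent.C6Three
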