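/-
A normalised subgroup with one transvection contains all root groups of the configuration.
Main results: `axes_norm`, `Cfg3`, `Cfg3.roots`, `Cfg4`, `Cfg4.roots`, `sl_le_of_elem`.
-/
import Cfsg.Agent.Lib.C6Three.Four

set_option autoImplicit false
set_option linter.unusedSectionVars false

namespace Cfsg.Agent.C6Three

open Matrix Cfsg.Agent.Transvect
open scoped Matrix

variable {ι : Type} [Fintype ι] [DecidableEq ι] {F : Type*} [Field F] [Fintype F]

theorem sl_le_of_elem (M : Subgroup (GL ι F)) (hM : ∀ i j, i ≠ j → ∀ c : F, elem i j c ∈ M) :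
    Cfsg.Geo.specialLinear ι F ≤ M := by
  intro g hg
  rcases subsingleton_or_nontrivial ι with h1 | h1
  · exact sl_le_of_tv M (fun v φ h => by
      have : tv v φ = 1 := by
        refine gl_ext fun x => ?_
        rw [tv_apply h, map_one]
        ext i
        have hx : x = (x i) • Pi.single i 1 := by
          ext j; obtain rfl : j = i := Subsingleton.elim _ _; simp
        have hv : v = (v i) • Pi.single i 1 := by
          ext j; obtain rfl : j = i := Subsingleton.elim _ _; simp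
        rw [hv, map_smul, smul_eq_mul] at h
        rcases mul_eq_zero.1 h with h | h
        · simp [h]
        · rw [hx, map_smul, h]; simp
      rw [this]; exact one_mem _) hg
  let g' : Matrix.SpecialLinearGroup ι F := ⟨_, mem_sl_iff.1 hg⟩
  suffices ∀ A : Matrix.SpecialLinearGroup ι F, Matrix.SpecialLinearGroup.toGL A ∈ M by
    convert this g' using 1
    exact Units.ext rfl
  intro A
  refine Matrix.SpecialLinearGroup.diagonal_transvection_induction'
    (fun A => Matrix.SpecialLinearGroup.toGL A ∈ M) A ?_ ?_ ?_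
  · intro i j hij c hc
    convert mul_mem (mul_mem (mul_mem (mul_mem (mul_mem (hM i j hij c) (hM j i hij.symm (-c⁻¹)))
      (hM i j hij c)) (hM i j hij (-1))) (hM j i hij.symm 1)) (hM i j hij (-1)) using 1
    refine gl_ext fun x => ?_
    rw [diag_eq_elem_prod hij hc]
    funext k
    simp [Matrix.SpecialLinearGroup.diag2n_coe, Matrix.mulVec_diagonal]
  · intro i j hij a
    convert hM i j hij a using 1
    exact Units.ext (elem_val hij a).symm
  · intro A B hA hB
    rw [map_mul]; exact mul_mem hA hB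

/-- g normalises B. -/
def Norm (B : Subgroup (GL ι F)) (g : GL ι F) : Prop := ∀ b ∈ B, g * b * g⁻¹ ∈ B

theorem axes_norm {B : Subgroup (GL ι F)} {g : GL ι F} (hg : Norm B g) {v : ι → F}
    {φ : (ι → F) →ₗ[F] F} (h : φ ∈ axes B v) :
    φ ∘ₗ (app g⁻¹).toLinearMap ∈ axes B (app g v) := by
  refine ⟨?_, fun c => ?_⟩
  · simp only [LinearMap.comp_apply, LinearEquiv.coe_coe, app_inv_app, h.1]
  · rw [← LinearMap.smul_comp, ← tv_conj (by simp [h.1]) g]
    exact hg _ (h.2 c)

variable (κ : Fld F)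
include κ

/-- Over the prime field one transvection gives its root group. -/
theorem mem_axes_of_tv {B : Subgroup (GL ι F)} {v : ι → F} {φ : (ι → F) →ₗ[F] F} (h : φ v = 0)
    (hm : tv v φ ∈ B) : φ ∈ axes B v := by
  refine ⟨h, fun c => ?_⟩
  haveI : Fact (Fintype.card F).Prime := ⟨κ.prime⟩
  have := C6Two.charP_of_card (F := F) (p := Fintype.card F) rfl
  obtain ⟨n, rfl⟩ : ∃ n : ℕ, (n : F) = c := by
    have hb : Function.Bijective (fun i : ZMod (Fintype.card F) => ((ZMod.castHom (dvd_refl (Fintype.card F)) F) i)) :=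
      (ZMod.castHom_bijective F rfl)
    obtain ⟨i, hi⟩ := hb.2 c
    exact ⟨i.val, hi ▸ (ZMod.natCast_val i)⟩
  induction n with
  | zero => simp
  | succ n ih =>
    rw [Nat.cast_succ, add_smul, one_smul, tv_add (by simp [h]) h]
    exact mul_mem ih hm

/-- A transvection gives one centred at the point of a normalising homology. -/
theorem move_centre {B : Subgroup (GL ι F)} {u : ι → F} {f : (ι → F) →ₗ[F] F} (hu : f u = 1)
    (hN : Norm B (hom κ.ω u f)) {v : ι → F} {φ : (ι → F) →ₗ[F] F} (hax : φ ∈ axes B v)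
    (ha : f v ≠ 0) : ∃ α β : F, β ≠ 0 ∧ α • f + β • φ ∈ axes B u := by
  have hφv := hax.1
  set a := f v with hadef
  set b := φ u with hbdef
  set h := hom κ.ω u f with hh
  by_cases hb : b = 0
  · refine ⟨0, (1 - κ.ω) * a, mul_ne_zero (sub_ne_zero.2 κ.ω_ne_one.symm) ha, ?_⟩
    rw [zero_smul, zero_add]
    have h0 : (((1 - κ.ω) * a) • φ) u = 0 := by simp [← hbdef, hb]
    refine mem_axes_of_tv κ h0 ?_
    have hx : tv v φ ∈ B := by simpa using hax.2 1
    have e : tv u (((1 - κ.ω) * a) • φ) = tv v φ * (h * (tv v φ)⁻¹ * h⁻¹) := by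
      refine gl_ext fun y => ?_
      simp only [map_mul, LinearEquiv.mul_apply, tv_inv hφv, tv_apply h0, tv_apply hφv,
        tv_apply (show (-φ) v = 0 by simp [hφv]), hh, hom_apply hu κ.ω_ne, app_hom_inv hu κ.ω_ne,
        κ.inv, map_add, map_smul, smul_eq_mul, LinearMap.neg_apply, LinearMap.smul_apply, ← hadef,
        ← hbdef, hb, hu, hφv]
      match_scalars <;> first | ring1 | linear_combination (f y) * κ.cube | linear_combination -(f y) * κ.cube
    exact e ▸ mul_mem hx (hN _ (inv_mem hx))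
  · set m := (a * b)⁻¹ with hm
    have hmab : m * (a * b) = 1 := inv_mul_cancel₀ (mul_ne_zero ha hb)
    have hφ0 : (m • φ) v = 0 := by simp [hφv]
    set x := tv v (m • φ) with hx
    have hxB : x ∈ B := hax.2 m
    have hxinv : ∀ y, app x⁻¹ y = y - (m * φ y) • v := fun y => by
      rw [hx, tv_inv hφ0, tv_apply (by simp [hφv])]
      simp [sub_eq_add_neg]
    set u' := app x u with hu'
    set f' := f ∘ₗ (app x⁻¹).toLinearMap with hf'
    have eu' : u' = u + (m * b) • v := by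
      rw [hu', hx, tv_apply hφ0]; simp [← hbdef]
    have ef' : ∀ y, f' y = f y - m * φ y * a := fun y => by
      show f (app x⁻¹ y) = _
      rw [hxinv, map_sub, map_smul, smul_eq_mul, hadef]
    have f'u : f' u = 0 := by rw [ef', hu, ← hbdef]; linear_combination -hmab
    have fu' : f u' = 2 := by
      rw [eu', map_add, map_smul, hu, ← hadef, smul_eq_mul]; linear_combination hmab
    have f'u' : f' u' = 1 := by
      simp only [hf', hu', LinearMap.comp_apply, LinearEquiv.coe_coe, app_inv_app, hu]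
    set h' := x * h * x⁻¹ with hh'
    have eh' : h' = hom κ.ω u' f' := by rw [hh', hh, hom_conj hu κ.ω_ne]
    set c := 2 * (κ.ω - 1) ^ 2 with hc
    have hc0 : c ≠ 0 := mul_ne_zero κ.two (pow_ne_zero _ κ.d1)
    refine ⟨c, c * -(m * a), mul_ne_zero hc0 (neg_ne_zero.2 (mul_ne_zero (inv_ne_zero (mul_ne_zero ha hb)) ha)), ?_⟩
    have h0 : (c • f') u = 0 := by simp [f'u]
    have e1 : (c • f + (c * -(m * a)) • φ) = c • f' := by
      refine LinearMap.ext fun y => ?_
      simp [ef']; ring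
    rw [e1]
    refine mem_axes_of_tv κ h0 ?_
    have e : tv u (c • f') * h = h'⁻¹ * h * h' := by
      refine gl_ext fun y => ?_
      simp only [map_mul, LinearEquiv.mul_apply, eh', tv_apply h0, hh, hom_apply hu κ.ω_ne,
        app_hom_inv f'u' κ.ω_ne, hom_apply f'u' κ.ω_ne, κ.inv, map_add, map_smul, smul_eq_mul,
        LinearMap.smul_apply, f'u, f'u', fu', hu]
      rw [hc]
      match_scalars <;> first | ring1 | linear_combination (f' y) * κ.cube | linear_combination -(f' y) * κ.cube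
    have y1 : x * (h * x⁻¹ * h⁻¹) ∈ B := mul_mem hxB (hN _ (inv_mem hxB))
    have y2 : h * (x * (h * x⁻¹ * h⁻¹)) * h⁻¹ ∈ B := hN _ y1
    have e2 : tv u (c • f') = h⁻¹ * ((x * (h * x⁻¹ * h⁻¹))⁻¹ * (h * (x * (h * x⁻¹ * h⁻¹)) * h⁻¹)) * h := by
      rw [eq_mul_inv_of_mul_eq e, hh']; group
    rw [e2]
    have y3 := hN _ (hN _ (mul_mem (inv_mem y1) y2))
    have h3 : h * h = h⁻¹ := by
      rw [hh, hom_mul hu κ.ω_ne κ.ω_ne, hom_inv hu κ.ω_ne, κ.inv, ← pow_two]
    rw [show h * (h * ((x * (h * x⁻¹ * h⁻¹))⁻¹ * (h * (x * (h * x⁻¹ * h⁻¹)) * h⁻¹)) * h⁻¹) * h⁻¹ =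
      (h * h) * ((x * (h * x⁻¹ * h⁻¹))⁻¹ * (h * (x * (h * x⁻¹ * h⁻¹)) * h⁻¹)) * (h * h)⁻¹ by group,
      h3, inv_inv] at y3
    exact y3

/-- Separate one coordinate axis. -/
theorem separate {B : Subgroup (GL ι F)} {w u : ι → F} {f ψ : (ι → F) →ₗ[F] F} (hu : f u = 1)
    (hN : Norm B (hom κ.ω u f)) (hfw : f w = 0) (hψ : ψ ∈ axes B w) (hne : ψ u ≠ 0) :
    f ∈ axes B w := by
  have e := axes_norm hN hψ
  have hw : app (hom κ.ω u f) w = w := by rw [hom_apply hu κ.ω_ne, hfw]; simp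
  rw [hw] at e
  have h2 := Submodule.smul_mem _ ((κ.ω ^ 2 - 1) * ψ u)⁻¹ (sub_mem e hψ)
  convert h2 using 1
  refine LinearMap.ext fun y => ?_
  simp only [LinearMap.smul_apply, LinearMap.sub_apply, LinearMap.comp_apply, LinearEquiv.coe_coe,
    app_hom_inv hu κ.ω_ne, κ.inv, map_add, map_smul, smul_eq_mul]
  have := κ.d2
  field_simp
  ring

/-- Three orthogonal normalising homologies and the one of the all-ones point. -/
structure Cfg3 (B : Subgroup (GL ι F)) (e : Fin 3 → ι → F) (f : Fin 3 → (ι → F) →ₗ[F] F) : Prop where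
  dual : ∀ i j, f i (e j) = if i = j then 1 else 0
  frame : ∀ i, Norm B (hom κ.ω (e i) (f i))
  ones : Norm B (hom κ.ω (e 0 + e 1 + e 2) ((3 : F)⁻¹ • (f 0 + f 1 + f 2)))

theorem Cfg3.from_root {B : Subgroup (GL ι F)} {e : Fin 3 → ι → F}
    {f : Fin 3 → (ι → F) →ₗ[F] F} (C : Cfg3 κ B e f) {i j : Fin 3} (hij : i ≠ j)
    (h : f j ∈ axes B (e i)) (a b : Fin 3) (hab : a ≠ b) : f b ∈ axes B (e a) := by
  have h3 := κ.three
  have hu : ((3 : F)⁻¹ • (f 0 + f 1 + f 2)) (e 0 + e 1 + e 2) = 1 := by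
    simp [C.dual]; field_simp; ring
  have hax := axes_norm C.ones h
  set v := app (hom κ.ω (e 0 + e 1 + e 2) ((3 : F)⁻¹ • (f 0 + f 1 + f 2))) (e i) with hv
  set φ := f j ∘ₗ (app (hom κ.ω (e 0 + e 1 + e 2) ((3 : F)⁻¹ • (f 0 + f 1 + f 2)))⁻¹).toLinearMap with hφ
  have hω2 : κ.ω + 2 ≠ 0 := fun e0 => h3 (by linear_combination -(κ.ω - 1) * e0 + κ.rel)
  have hω3 : κ.ω ^ 2 + 2 ≠ 0 := fun e0 => h3 (by
    linear_combination (-κ.ω ^ 2 + 1) * e0 + (κ.ω + 0) * κ.cube + κ.rel)
  have va : ∀ k, f k v ≠ 0 := fun k e0 => by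
    rw [hv, hom_apply hu κ.ω_ne] at e0
    fin_cases i <;> fin_cases k <;> simp [C.dual] at e0 <;> field_simp at e0 <;>
      first
      | (simp [κ.d1, h3] at e0; done)
      | (have h' : κ.ω - 1 = 0 := by linear_combination e0
         exact κ.d1 h')
      | (have h' : κ.ω + 2 = 0 := by linear_combination e0
         exact hω2 h')
  have pa : ∀ k, φ (e k) ≠ 0 := fun k e0 => by
    simp only [hφ, LinearMap.comp_apply, LinearEquiv.coe_coe, app_hom_inv hu κ.ω_ne, κ.inv] at e0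
    fin_cases j <;> fin_cases k <;> simp [C.dual] at e0 <;> field_simp at e0 <;>
      first
      | (simp [κ.d2, h3] at e0; done)
      | (have h' : κ.ω ^ 2 - 1 = 0 := by linear_combination e0
         exact κ.d2 h')
      | (have h' : κ.ω ^ 2 + 2 = 0 := by linear_combination e0
         exact hω3 h')
  obtain ⟨α, β, hβ, hψ⟩ := move_centre κ (by simp [C.dual]) (C.frame a) hax (va a)
  refine separate κ (by simp [C.dual]) (C.frame b) (by simp [C.dual, hab.symm]) hψ ?_
  simp [C.dual, hab, hβ, pa b]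

/-- A transvection with centre and axis in the span gives a root group. -/
theorem exists_root_axes {n : ℕ} {B : Subgroup (GL ι F)} {e : Fin n → ι → F}
    {f : Fin n → (ι → F) →ₗ[F] F} (hd : ∀ i j, f i (e j) = if i = j then 1 else 0)
    (hN : ∀ i, Norm B (hom κ.ω (e i) (f i))) {v : ι → F} {φ : (ι → F) →ₗ[F] F}
    (hv : v = ∑ i, f i v • e i) (hφ : ∀ y, φ y = ∑ i, φ (e i) * f i y) (h0 : φ v = 0)
    (hne : tv v φ ≠ 1) (hm : tv v φ ∈ B) : ∃ i j, i ≠ j ∧ f j ∈ axes B (e i) := by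
  rw [ne_eq, tv_eq_one_iff h0] at hne
  push Not at hne
  obtain ⟨y, hy⟩ := hne
  obtain ⟨i, hi⟩ : ∃ i, f i v ≠ 0 := by
    by_contra hc
    push Not at hc
    refine hy ?_
    rw [hv]; simp [hc]
  obtain ⟨j, hij, hj⟩ : ∃ j, j ≠ i ∧ φ (e j) ≠ 0 := by
    by_contra hc
    push Not at hc
    have h2 : ∀ z, φ z = φ (e i) * f i z := fun z => by
      rw [hφ z, Finset.sum_eq_single i (fun j _ hj => by rw [hc j hj, zero_mul])
        (fun h => absurd (Finset.mem_univ i) h)]
    have h3 := h2 v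
    rw [h0] at h3
    refine hy ?_
    rw [h2 y, (mul_eq_zero.1 h3.symm).resolve_right hi, zero_mul, zero_smul]
  obtain ⟨α, β, hβ, hψ⟩ := move_centre κ (by simp [hd]) (hN i) (mem_axes_of_tv κ h0 hm) hi
  refine ⟨i, j, hij.symm, separate κ (by simp [hd]) (hN j) (by simp [hd, hij]) hψ ?_⟩
  simp [hd, hij.symm, hβ, hj]

theorem Cfg3.roots {B : Subgroup (GL ι F)} {e : Fin 3 → ι → F} {f : Fin 3 → (ι → F) →ₗ[F] F}
    (C : Cfg3 κ B e f) {v : ι → F} {φ : (ι → F) →ₗ[F] F} (hv : v = ∑ i, f i v • e i)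
    (hφ : ∀ y, φ y = ∑ i, φ (e i) * f i y) (h0 : φ v = 0) (hne : tv v φ ≠ 1) (hm : tv v φ ∈ B) :
    ∀ a b, a ≠ b → f b ∈ axes B (e a) := by
  obtain ⟨i, j, hij, h⟩ := exists_root_axes κ C.dual C.frame hv hφ h0 hne hm
  exact C.from_root κ hij h

/-- The four-dimensional configuration of normalising homologies. -/
structure Cfg4 (B : Subgroup (GL ι F)) (e : Fin 4 → ι → F) (f : Fin 4 → (ι → F) →ₗ[F] F) : Prop where
  dual : ∀ i j, f i (e j) = if i = j then 1 else 0
  frame : ∀ i, Norm B (hom κ.ω (e i) (f i))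
  base : ∀ l, Norm B (hom κ.ω (∑ j, (c4 l j : F) • e j) ((3 : F)⁻¹ • ∑ j, (c4 l j : F) • f j))

omit κ in
theorem chain : ∀ i j a b : Fin 4, i ≠ j → a ≠ b → ∃ c d : Fin 4, c ≠ d ∧
    (∃ m : Fin 4, i ≠ m ∧ j ≠ m ∧ c ≠ m ∧ d ≠ m) ∧
      ∃ m' : Fin 4, c ≠ m' ∧ d ≠ m' ∧ a ≠ m' ∧ b ≠ m' := by
  decide +kernel

theorem Cfg4.roots {B : Subgroup (GL ι F)} {e : Fin 4 → ι → F} {f : Fin 4 → (ι → F) →ₗ[F] F}
    (C : Cfg4 κ B e f) {v : ι → F} {φ : (ι → F) →ₗ[F] F} (hv : v = ∑ i, f i v • e i)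
    (hφ : ∀ y, φ y = ∑ i, φ (e i) * f i y) (h0 : φ v = 0) (hne : tv v φ ≠ 1) (hm : tv v φ ∈ B) :
    ∀ a b, a ≠ b → f b ∈ axes B (e a) := by
  obtain ⟨i, j, hij, h⟩ := exists_root_axes κ C.dual C.frame hv hφ h0 hne hm
  have step : ∀ (k : Fin 4) (i j a b : Fin 4), i ≠ k → j ≠ k → a ≠ k → b ≠ k → i ≠ j → a ≠ b →
      f j ∈ axes B (e i) → f b ∈ axes B (e a) := by
    intro k i j a b hi hj ha hb hij hab h
    obtain ⟨i', rfl⟩ := Fin.exists_succAbove_eq hi
    obtain ⟨j', rfl⟩ := Fin.exists_succAbove_eq hj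
    obtain ⟨a', rfl⟩ := Fin.exists_succAbove_eq ha
    obtain ⟨b', rfl⟩ := Fin.exists_succAbove_eq hb
    set te : Fin 3 → ι → F := fun j => (c4 k (k.succAbove j) : F) • e (k.succAbove j) with hte
    set tf : Fin 3 → (ι → F) →ₗ[F] F := fun j => (c4 k (k.succAbove j) : F) • f (k.succAbove j) with htf
    have hcc : ∀ j, (c4 k (k.succAbove j) : F) ≠ 0 := fun j e0 => by
      have := c4_sq (F := F) k j; simp [e0] at this
    have hcinv : ∀ j, (c4 k (k.succAbove j) : F)⁻¹ = c4 k (k.succAbove j) := fun j =>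
      inv_eq_of_mul_eq_one_right (c4_sq k j)
    have C3 : Cfg3 κ B te tf := by
      refine ⟨fun i j => ?_, fun i => ?_, ?_⟩
      · simp only [hte, htf, LinearMap.smul_apply, map_smul, C.dual, smul_eq_mul,
          Fin.succAbove_right_inj]
        split_ifs with h
        · subst h; rw [mul_one, c4_sq]
        · simp
      · have := hom_smul (a := κ.ω) (show f (k.succAbove i) (e (k.succAbove i)) = 1 by simp [C.dual])
          κ.ω_ne (hcc i)
        rw [hcinv] at this
        exact this ▸ C.frame (k.succAbove i)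
      · have := C.base k
        rwa [Fin.sum_univ_succAbove _ k, Fin.sum_univ_succAbove _ k, c4_self, zero_smul, zero_smul,
          zero_add, zero_add, Fin.sum_univ_three, Fin.sum_univ_three] at this
    have h' : tf j' ∈ axes B (te i') := axes_smul (Submodule.smul_mem _ _ h) _
    have := C3.from_root κ (fun e0 => hij (by rw [e0])) h' a' b' (fun e0 => hab (by rw [e0]))
    have h2 := Submodule.smul_mem _ (c4 k (k.succAbove b') : F) (axes_smul this (c4 k (k.succAbove a') : F))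
    simp only [hte, htf, smul_smul, c4_sq, one_smul] at h2
    exact h2
  intro a b hab
  obtain ⟨c, d, hcd, ⟨m, h1, h2, h3, h4⟩, m', h5, h6, h7, h8⟩ := chain i j a b hij hab
  exact step m' c d a b h5 h6 h7 h8 hcd hab (step m i j c d h1 h2 h3 h4 hij hcd h)

end Cfsg.Agent.C6Three
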