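/-
Groups of type 3^(1+4) in dimension nine are conjugate to the standard one, over any field with a primitive
cube root of unity.
Main results: `comm_mem_center`, `Cub`, `R9w`, `exists_conj_R9`.
-/
import Cfsg.Agent.Lib.C6Three.Model
import Cfsg.Agent.Lib.Aschbacher.Master

set_option autoImplicit false
set_option linter.unusedSectionVars false

namespace Cfsg.Agent.C6Three

open Matrix Cfsg.Agent.Transvect
open scoped Matrix Kronecker commutatorElement

/-- In a group of exponent three whose characteristic abelian subgroups are cyclic, commutators are central. -/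
theorem comm_mem_center {T : Type*} [Group T] [Finite T] (hp : IsPGroup 3 T) (h3 : ∀ g : T, g ^ 3 = 1)
    (hc : ∀ A : Subgroup T, A.Characteristic → IsMulCommutative A → IsCyclic A) (x y : T) :
    ⁅x, y⁆ ∈ Subgroup.center T := by
  haveI : Fact (Nat.Prime 3) := ⟨Nat.prime_three⟩
  haveI := hp.isNilpotent
  set D := commutator T
  set Z2 := Subgroup.upperCentralSeries T 2
  -- the second centre centralises the derived group
  have hDZ : ∀ z ∈ Z2, ∀ d ∈ D, z * d = d * z := fun z hz d hd => by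
    have hz' : ∀ g, ⁅z, g⁆ ∈ Subgroup.center T := fun g => by
      rw [← Subgroup.upperCentralSeries_one]
      exact Subgroup.mem_upperCentralSeries_succ_iff.1 hz g
    let f : T →* Subgroup.center T :=
      { toFun := fun g => ⟨⁅z, g⁆, hz' g⟩
        map_one' := Subtype.ext (commutatorElement_one_right z)
        map_mul' := fun g h => Subtype.ext (by
          show ⁅z, g * h⁆ = ⁅z, g⁆ * ⁅z, h⁆
          have := Subgroup.mem_center_iff.1 (hz' h) g
          calc ⁅z, g * h⁆ = ⁅z, g⁆ * (g * ⁅z, h⁆ * g⁻¹) := by simp [commutatorElement_def, mul_assoc]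
            _ = _ := by rw [this, mul_inv_cancel_right]) }
    have hle : D ≤ f.ker := by
      rw [show D = ⁅(⊤ : Subgroup T), ⊤⁆ from rfl, Subgroup.commutator_le]
      intro a _ b _
      rw [MonoidHom.mem_ker, map_commutatorElement]
      exact commutatorElement_eq_one_iff_commute.2
        (Subtype.ext (Subgroup.mem_center_iff.1 (f b).2 (f a : T)))
    have := hle hd
    exact commutatorElement_eq_one_iff_commute.1 (congrArg Subtype.val (MonoidHom.mem_ker.1 this))
  set A := D ⊓ Z2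
  haveI : Z2.Characteristic := inferInstance
  have hA : A.Characteristic := by
    rw [Subgroup.characteristic_iff_comap_eq]
    intro φ
    rw [Subgroup.comap_inf, Subgroup.characteristic_iff_comap_eq.1 (inferInstance : D.Characteristic) φ,
      Subgroup.characteristic_iff_comap_eq.1 (inferInstance : Z2.Characteristic) φ]
  haveI := hA
  have hcyc : IsCyclic A := hc A hA ⟨⟨fun a b => Subtype.ext (hDZ a.1 a.2.2 b.1 b.2.1)⟩⟩
  have hAZ : A ≤ Subgroup.center T := by
    obtain ⟨γ, hγ⟩ := hcyc.exists_generator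
    have hcen : ∀ g : T, g * γ.1 * g⁻¹ = γ.1 := fun g => by
      have hmem : g * γ.1 * g⁻¹ ∈ A := (inferInstance : A.Normal).conj_mem _ γ.2 g
      obtain ⟨i, hi⟩ := mem_powers_iff_mem_zpowers.2 (hγ ⟨_, hmem⟩)
      have hi' : g * γ.1 * g⁻¹ = γ.1 ^ i := (congrArg Subtype.val hi).symm
      have hpow : ∀ n : ℕ, g ^ n * γ.1 * (g ^ n)⁻¹ = γ.1 ^ (i ^ n) := fun n => by
        induction n with
        | zero => simp
        | succ n ih =>
          calc g ^ (n + 1) * γ.1 * (g ^ (n + 1))⁻¹ = g * (g ^ n * γ.1 * (g ^ n)⁻¹) * g⁻¹ := by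
                simp [pow_succ', mul_assoc]
            _ = g * γ.1 ^ (i ^ n) * g⁻¹ := by rw [ih]
            _ = (g * γ.1 * g⁻¹) ^ (i ^ n) := (conj_pow).symm
            _ = _ := by rw [hi', ← pow_mul, pow_succ']
      have h := hpow 3
      rw [h3, one_mul, inv_one, mul_one] at h
      rw [hi']
      have hmod : ∀ m : ℕ, γ.1 ^ m = γ.1 ^ (m % 3) := fun m => pow_eq_pow_mod m (h3 _)
      rw [hmod i]
      rw [hmod (i ^ 3), Nat.pow_mod] at h
      have : i % 3 < 3 := Nat.mod_lt _ (by norm_num)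
      interval_cases hm : i % 3
      · simpa using h.symm
      · simp
      · simpa using h.symm
    intro a ha
    obtain ⟨n, hn⟩ := mem_powers_iff_mem_zpowers.2 (hγ ⟨a, ha⟩)
    have : a = γ.1 ^ n := (congrArg Subtype.val hn).symm
    rw [this]
    exact pow_mem (Subgroup.mem_center_iff.2 fun g => by
      calc g * γ.1 = g * γ.1 * g⁻¹ * g := by group
        _ = γ.1 * g := by rw [hcen]) n
  -- descend along the upper central series
  have key : ∀ n, D ⊓ Subgroup.upperCentralSeries T n ≤ Subgroup.center T := by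
    intro n
    induction n with
    | zero => simp
    | succ n ih =>
      intro a ha
      refine hAZ ⟨ha.1, Subgroup.mem_upperCentralSeries_succ_iff.2 fun g => ?_⟩
      rw [Subgroup.upperCentralSeries_one]
      refine ih ⟨?_, Subgroup.mem_upperCentralSeries_succ_iff.1 ha.2 g⟩
      rw [commutatorElement_def, mul_assoc, mul_assoc]
      refine mul_mem ha.1 ?_
      rw [← mul_assoc]
      exact (inferInstance : D.Normal).conj_mem _ (inv_mem ha.1) g
  obtain ⟨n, hn⟩ := Group.IsNilpotent.nilpotent T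
  exact key n ⟨by rw [show D = ⁅(⊤ : Subgroup T), ⊤⁆ from rfl]
                  exact Subgroup.commutator_mem_commutator trivial trivial, hn ▸ trivial⟩

variable {F : Type*} [Field F] [Fintype F]

/-- A primitive cube root of unity. -/
structure Cub (F : Type*) [Field F] where
  /-- the root -/
  ω : F
  rel : ω ^ 2 + ω + 1 = 0
  three : (3 : F) ≠ 0

namespace Cub

variable (κ : Cub F)

theorem ω_ne : κ.ω ≠ 0 := fun h => by simpa [h] using κ.rel

theorem cube : κ.ω ^ 3 = 1 := by linear_combination (κ.ω - 1) * κ.rel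

theorem ω_ne_one : κ.ω ≠ 1 := fun h => κ.three (by have := κ.rel; rw [h] at this; linear_combination this)

/-- The root as a unit. -/
def w : Fˣ := Units.mk0 κ.ω κ.ω_ne

theorem w_val : (κ.w : F) = κ.ω := rfl

/-- The clock. -/
def gZ : GL (Fin 3) F := dgl fun i => κ.w ^ (i : ℕ)

end Cub

/-- The group of type 3^(1+4) of a primitive cube root. -/
def R9w (κ : Cub F) : Subgroup (GL I9 F) :=
  Subgroup.closure {kr gX 1, kr κ.gZ 1, kr 1 gX, kr 1 κ.gZ}

variable (κ : Cub F) {ι : Type} [Fintype ι] [DecidableEq ι]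

/-- `X` and `G` commute up to the `n`-th power of ω. -/
def Twist (X G : Matrix ι ι F) (n : ℕ) : Prop := X * G = κ.ω ^ n • (G * X)

variable {κ}

theorem Cub.pow_mod (n : ℕ) : κ.ω ^ n = κ.ω ^ (n % 3) := pow_eq_pow_mod n κ.cube

theorem Twist.congr {X G : Matrix ι ι F} {n m : ℕ} (h : Twist κ X G n) (e : n % 3 = m % 3) :
    Twist κ X G m := by
  rw [Twist, κ.pow_mod m, ← e, ← κ.pow_mod]; exact h

theorem Twist.comm {X G : Matrix ι ι F} {n : ℕ} (h : Twist κ X G n) (e : n % 3 = 0) : X * G = G * X := by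
  have := h.congr (m := 0) (by simpa using e)
  rwa [Twist, pow_zero, one_smul] at this

theorem Twist.mul {X G G' : Matrix ι ι F} {n m : ℕ} (h : Twist κ X G n) (h' : Twist κ X G' m) :
    Twist κ X (G * G') (n + m) := by
  rw [Twist, ← mul_assoc, h, smul_mul_assoc, mul_assoc, h', mul_smul_comm, smul_smul, ← pow_add, mul_assoc]

theorem Twist.pow {X G : Matrix ι ι F} {n : ℕ} (h : Twist κ X G n) (a : ℕ) :
    Twist κ X (G ^ a) (n * a) := by
  induction a with
  | zero => simp [Twist]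
  | succ a ih => rw [pow_succ, mul_add, mul_one]; exact ih.mul h

theorem Twist.of_comm {X G : Matrix ι ι F} (h : X * G = G * X) : Twist κ X G 0 := by
  rw [Twist, pow_zero, one_smul, h]

theorem Twist.symm {X G : Matrix ι ι F} {n : ℕ} (h : Twist κ X G n) : Twist κ G X (2 * n) := by
  rw [Twist, h, smul_smul, ← pow_add, κ.pow_mod, show (2 * n + n) % 3 = 0 by omega, pow_zero, one_smul]

theorem cube_eq_pow {c : F} (h : c ^ 3 = 1) : ∃ n : ℕ, c = κ.ω ^ n := by
  have h' : (c - 1) * (c - κ.ω) * (c - κ.ω ^ 2) = 0 := by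
    have := κ.rel; have := κ.cube; grind
  rcases mul_eq_zero.1 h' with h | h
  · rcases mul_eq_zero.1 h with h | h
    exacts [⟨0, by rw [pow_zero, sub_eq_zero.1 h]⟩, ⟨1, by rw [pow_one, sub_eq_zero.1 h]⟩]
  · exact ⟨2, sub_eq_zero.1 h⟩

/-- Eigenvectors of an element of order three. -/
theorem exists_eig {A : Matrix ι ι F} (hA : A ^ 3 = 1) {e : ι → F} (he : e ≠ 0) :
    ∃ (c : ℕ) (a b : F), let w := e + a • (A *ᵥ e) + b • (A *ᵥ (A *ᵥ e))
      w ≠ 0 ∧ A *ᵥ w = κ.ω ^ c • w := by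
  have hA3 : A *ᵥ (A *ᵥ (A *ᵥ e)) = e := by
    rw [Matrix.mulVec_mulVec, Matrix.mulVec_mulVec, show A * A * A = A ^ 3 by simp [pow_succ], hA,
      Matrix.one_mulVec]
  set w : ℕ → ι → F := fun c => e + κ.ω ^ (2 * c) • (A *ᵥ e) + κ.ω ^ c • (A *ᵥ (A *ᵥ e)) with hw
  have hAw : ∀ c, A *ᵥ w c = κ.ω ^ c • w c := fun c => by
    simp only [hw, Matrix.mulVec_add, Matrix.mulVec_smul, hA3, smul_add, smul_smul, ← pow_add]
    rw [show κ.ω ^ (c + 2 * c) = 1 by rw [κ.pow_mod]; simp [show (c + 2 * c) % 3 = 0 by omega],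
      show κ.ω ^ (c + c) = κ.ω ^ (2 * c) by rw [two_mul]]
    match_scalars <;> simp
  have hsum : w 0 + w 1 + w 2 = (3 : F) • e := by
    have := κ.rel; have := κ.cube
    simp only [hw]
    match_scalars <;> grind
  by_cases h0 : w 0 = 0
  · by_cases h1 : w 1 = 0
    · refine ⟨2, _, _, fun h2 => he ?_, hAw 2⟩
      rw [h0, h1, show w 2 = 0 from h2, add_zero, add_zero] at hsum
      exact (smul_eq_zero.1 hsum.symm).resolve_left κ.three
    · exact ⟨1, _, _, h1, hAw 1⟩
  · exact ⟨0, _, _, h0, hAw 0⟩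

/-- A vector fixed by two commuting twisted elements. -/
theorem exists_fixed {X U Y V : Matrix ι ι F} [Nonempty ι] (hX : X ^ 3 = 1) (hU : U ^ 3 = 1)
    (hY : Y ^ 3 = 1) (hV : V ^ 3 = 1) (hXU : X * U = U * X) (hXY : Twist κ X Y 1)
    (hUV : Twist κ U V 1) (hXV : X * V = V * X) (hUY : U * Y = Y * U) :
    ∃ w : ι → F, w ≠ 0 ∧ X *ᵥ w = w ∧ U *ᵥ w = w := by
  obtain ⟨e, he⟩ := exists_ne (0 : ι → F)
  obtain ⟨c, a, b, hw1, hX1⟩ := exists_eig (κ := κ) hX he
  set w1 := e + a • (X *ᵥ e) + b • (X *ᵥ (X *ᵥ e))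
  obtain ⟨d, a', b', hw2, hU2⟩ := exists_eig (κ := κ) hU hw1
  set w2 := w1 + a' • (U *ᵥ w1) + b' • (U *ᵥ (U *ᵥ w1))
  have hX2 : X *ᵥ w2 = κ.ω ^ c • w2 := by
    have h1 : ∀ z, X *ᵥ (U *ᵥ z) = U *ᵥ (X *ᵥ z) := fun z => by
      rw [Matrix.mulVec_mulVec, Matrix.mulVec_mulVec, hXU]
    simp only [w2, Matrix.mulVec_add, Matrix.mulVec_smul, h1, hX1, smul_add]
    match_scalars <;> ring
  set P := Y ^ (2 * c) * V ^ (2 * d) with hP
  have hshift : ∀ {A : Matrix ι ι F} {n l : ℕ}, Twist κ A P n → A *ᵥ w2 = κ.ω ^ l • w2 → (n + l) % 3 = 0 →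
      A *ᵥ (P *ᵥ w2) = P *ᵥ w2 := by
    intro A n l hA hl e0
    rw [Matrix.mulVec_mulVec, hA, Matrix.smul_mulVec, ← Matrix.mulVec_mulVec, hl, Matrix.mulVec_smul,
      smul_smul, ← pow_add, κ.pow_mod, e0, pow_zero, one_smul]
  refine ⟨P *ᵥ w2, fun h => hw2 ?_, hshift ((hXY.pow _).mul ((Twist.of_comm hXV).pow _)) hX2 (by omega),
    hshift (((Twist.of_comm hUY).pow _).mul (hUV.pow _)) hU2 (by omega)⟩
  have hY' : IsUnit Y := IsUnit.of_pow_eq_one hY (by norm_num)
  have hV' : IsUnit V := IsUnit.of_pow_eq_one hV (by norm_num)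
  have hP' : IsUnit P := (hY'.pow _).mul (hV'.pow _)
  exact (Matrix.mulVec_injective_iff_isUnit.2 hP') (by simpa using h)

/-- An element commuting with the generators of the standard group is a scalar. -/
theorem scal_of_comm_R9 {N : Matrix I9 I9 F}
    (h1 : N * (kr κ.gZ 1 : GL I9 F) = (kr κ.gZ 1 : GL I9 F) * N)
    (h2 : N * (kr 1 κ.gZ : GL I9 F) = (kr 1 κ.gZ : GL I9 F) * N)
    (h3 : N * (kr gX 1 : GL I9 F) = (kr gX 1 : GL I9 F) * N)
    (h4 : N * (kr 1 gX : GL I9 F) = (kr 1 gX : GL I9 F) * N) :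
    ∃ c : F, N = c • (1 : Matrix I9 I9 F) := by
  have hne : ∀ i j : Fin 3, i ≠ j → κ.ω ^ (j : ℕ) ≠ κ.ω ^ (i : ℕ) := fun i j hij => by
    have := κ.ω_ne_one; have := κ.ω_ne; have := κ.rel; have := κ.cube; have := κ.three
    fin_cases i <;> fin_cases j <;> simp at hij ⊢ <;> grind
  have hdiag : ∀ p q, p ≠ q → N p q = 0 := fun p q hpq => by
    have e1 := congrFun (congrFun h1 p) q
    have e2 := congrFun (congrFun h2 p) q
    obtain ⟨i, k⟩ := p
    obtain ⟨j, l⟩ := q
    simp [Matrix.mul_apply, kr_val, Cub.gZ, dgl, Fintype.sum_prod_type, Matrix.diagonal_apply,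
      Matrix.one_apply, Cub.w_val] at e1 e2
    by_cases hij : i = j
    · have hkl : k ≠ l := fun e => hpq (by rw [hij, e])
      have : (κ.ω ^ (l : ℕ) - κ.ω ^ (k : ℕ)) * N (i, k) (j, l) = 0 := by linear_combination e2
      exact (mul_eq_zero.1 this).resolve_left (sub_ne_zero.2 (hne k l hkl))
    · have : (κ.ω ^ (j : ℕ) - κ.ω ^ (i : ℕ)) * N (i, k) (j, l) = 0 := by linear_combination e1
      exact (mul_eq_zero.1 this).resolve_left (sub_ne_zero.2 (hne i j hij))
  have hrow : ∀ i k, N (i + 1, k) (i + 1, k) = N (i, k) (i, k) := fun i k => by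
    have e := congrFun (congrFun h3 (i + 1, k)) (i, k)
    simp [Matrix.mul_apply, kr_val, gX, Fintype.sum_prod_type, Matrix.one_apply] at e
    exact e
  have hcol : ∀ i k, N (i, k + 1) (i, k + 1) = N (i, k) (i, k) := fun i k => by
    have e := congrFun (congrFun h4 (i, k + 1)) (i, k)
    simp [Matrix.mul_apply, kr_val, gX, Fintype.sum_prod_type, Matrix.one_apply] at e
    exact e
  have hall : ∀ p, N p p = N (0, 0) (0, 0) := by
    rintro ⟨i, k⟩
    have a1 := hrow 0 k; have a2 := hrow 1 k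
    have b1 := hcol 0 0; have b2 := hcol 0 1
    fin_cases i <;> fin_cases k <;> simp_all
  refine ⟨N (0, 0) (0, 0), ?_⟩
  ext p q
  by_cases hpq : p = q
  · subst hpq; simpa using hall p
  · simp [hdiag p q hpq, hpq]

/-- Transport of the standard group along an indexing and a base change. -/
noncomputable def stdMap (e : I9 ≃ ι) (B : GL ι F) : GL I9 F ≃* GL ι F :=
  (Cfsg.Geo.glReindex e).trans (MulAut.conj B)

theorem stdMap_apply (e : I9 ≃ ι) (B : GL ι F) (g : GL I9 F) :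
    stdMap e B g = B * Cfsg.Geo.glReindex e g * B⁻¹ := rfl

theorem glReindex_val (e : I9 ≃ ι) (g : GL I9 F) :
    (Cfsg.Geo.glReindex e g : Matrix ι ι F) = (g : Matrix I9 I9 F).submatrix e.symm e.symm := rfl

set_option maxHeartbeats 800000 in
-- one long construction of the basis
/-- The groups of type 3^(1+4) are conjugate to the standard one. -/
theorem exists_conj_R9 {R : Subgroup (GL ι F)} (hι : Fintype.card ι = 9) (hexp : ∀ r ∈ R, r ^ 3 = 1)
    (hcomm : ∀ r ∈ R, ∀ s ∈ R, r * s * r⁻¹ * s⁻¹ ∈ Cfsg.Geo.scalars ι F)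
    (hirr : Cfsg.Geo.ActsAbsolutelyIrreducibly (Cfsg.Geo.matrixSet R)) :
    ∃ (e : I9 ≃ ι) (B : GL ι F), R = (R9w κ).map (stdMap e B).toMonoidHom := by
  classical
  haveI : Nonempty ι := Fintype.card_pos_iff.1 (by omega)
  have hcube : ∀ r ∈ R, (r : Matrix ι ι F) ^ 3 = 1 := fun r hr => by
    rw [← Units.val_pow_eq_pow_val, hexp r hr, Units.val_one]
  have hsc : ∀ {c : F}, c • (1 : Matrix ι ι F) = 1 → c = 1 := fun {c} h => by
    obtain ⟨i⟩ := ‹Nonempty ι›
    simpa using congrFun (congrFun h i) i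
  have htw : ∀ r ∈ R, ∀ s ∈ R, ∃ n, Twist κ (r : Matrix ι ι F) s n := fun r hr s hs => by
    obtain ⟨c, hc⟩ := (Cfsg.Geo.mem_scalars_iff _).1 (hcomm r hr s hs)
    have hc3 : (c : F) ^ 3 = 1 := hsc (by
      have h := hcube _ (mul_mem (mul_mem (mul_mem hr hs) (inv_mem hr)) (inv_mem hs))
      rwa [hc, smul_pow, one_pow] at h)
    obtain ⟨n, hn⟩ := cube_eq_pow (κ := κ) hc3
    refine ⟨n, ?_⟩
    rw [Twist, ← hn, ← Units.val_mul,
      show r * s = r * s * r⁻¹ * s⁻¹ * (s * r) by group, Units.val_mul _ (s * r), hc, smul_mul_assoc,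
      one_mul, Units.val_mul]
  have hscal : ∀ g : GL ι F, (∀ s ∈ R, (g : Matrix ι ι F) * s = s * g) →
      ∃ c : F, (g : Matrix ι ι F) = c • 1 := fun g hg =>
    hirr.2 _ (by rintro _ ⟨s, hs, rfl⟩; exact hg s hs)
  -- an element of twist one
  have hone : ∀ r ∈ R, ∀ g ∈ R, (r : Matrix ι ι F) * g ≠ g * r →
      ∃ m : ℕ, Twist κ (r : Matrix ι ι F) ((g : Matrix ι ι F) ^ m) 1 := fun r hr g hg hne => by
    obtain ⟨n, hn⟩ := htw r hr g hg
    refine ⟨n % 3, (hn.pow (n % 3)).congr ?_⟩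
    have h0 : n % 3 ≠ 0 := fun h => hne (hn.comm h)
    have : n % 3 < 3 := Nat.mod_lt _ (by norm_num)
    rw [Nat.mul_mod, Nat.mod_mod]
    interval_cases n % 3 <;> simp at h0 ⊢
  obtain ⟨x, hx, g₀, hg₀, hne⟩ :
      ∃ x ∈ R, ∃ g ∈ R, (x : Matrix ι ι F) * g ≠ g * x := by
    by_contra! hh
    obtain ⟨i, j, hij⟩ : ∃ i j : ι, i ≠ j := Fintype.exists_pair_of_one_lt_card (by omega)
    obtain ⟨c, hc⟩ := hirr.2 (Matrix.single i j 1) (by
      rintro _ ⟨s, hs, rfl⟩
      obtain ⟨c, hc⟩ := hscal s fun t ht => hh s hs t ht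
      show _ * (s : Matrix ι ι F) = (s : Matrix ι ι F) * _
      rw [hc, mul_smul_comm, smul_mul_assoc, mul_one, one_mul])
    simpa [hij] using congrFun (congrFun hc i) j
  obtain ⟨m₀, hXY⟩ := hone x hx g₀ hg₀ hne
  set y := g₀ ^ m₀
  have hy : y ∈ R := pow_mem hg₀ _
  set X := (x : Matrix ι ι F)
  set Y := (y : Matrix ι ι F)
  rw [← Units.val_pow_eq_pow_val] at hXY
  change Twist κ X Y 1 at hXY
  have hYX : Twist κ Y X 2 := hXY.symm
  -- moving into the centraliser of the first pair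
  have hadj : ∀ g ∈ R, ∃ a b : ℕ, X * ((g * y ^ a * x ^ b : GL ι F) : Matrix ι ι F) =
      ((g * y ^ a * x ^ b : GL ι F) : Matrix ι ι F) * X ∧
      Y * ((g * y ^ a * x ^ b : GL ι F) : Matrix ι ι F) =
      ((g * y ^ a * x ^ b : GL ι F) : Matrix ι ι F) * Y := fun g hg => by
    obtain ⟨n, hn⟩ := htw x hx g hg
    obtain ⟨m, hm⟩ := htw y hy g hg
    refine ⟨2 * n, m, ?_, ?_⟩
    all_goals simp only [Units.val_mul, Units.val_pow_eq_pow_val]
    · exact ((hn.mul (hXY.pow _)).mul ((Twist.of_comm rfl).pow _)).comm (by omega)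
    · exact ((hm.mul ((Twist.of_comm rfl).pow _)).mul (hYX.pow _)).comm (by omega)
  have hne' : X * Y ≠ Y * X := fun h => by
    have h1 : Y * X ≠ 0 := fun h0 => Units.ne_zero (y * x) (by rwa [Units.val_mul])
    have h2 : ((1 : F) - κ.ω) • (Y * X) = 0 := by
      have := hXY; rw [Twist, pow_one, h] at this
      rw [sub_smul, one_smul, ← this, sub_self]
    exact sub_ne_zero.2 κ.ω_ne_one.symm ((smul_eq_zero.1 h2).resolve_right h1)
  obtain ⟨u, hu, hXu, hYu, hus⟩ : ∃ u ∈ R, X * (u : Matrix ι ι F) = u * X ∧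
      Y * (u : Matrix ι ι F) = u * Y ∧ ∀ c : F, (u : Matrix ι ι F) ≠ c • 1 := by
    by_contra! hh
    -- otherwise three vectors span an invariant subspace
    obtain ⟨e₁, he₁⟩ := exists_ne (0 : ι → F)
    obtain ⟨c, a, b, hw0, hXw⟩ := exists_eig (κ := κ) (hcube x hx) he₁
    set w := e₁ + a • (X *ᵥ e₁) + b • (X *ᵥ (X *ᵥ e₁))
    set v : Fin 3 → ι → F := fun i => (Y ^ (i : ℕ)) *ᵥ w
    set W := Submodule.span F (Set.range v)
    have hYW : ∀ z ∈ W, Y *ᵥ z ∈ W := fun z hz => by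
      induction hz using Submodule.span_induction with
      | mem z hz =>
        obtain ⟨i, rfl⟩ := hz
        refine Submodule.subset_span ⟨i + 1, ?_⟩
        show Y ^ ((i + 1 : Fin 3) : ℕ) *ᵥ w = Y *ᵥ (Y ^ (i : ℕ) *ᵥ w)
        rw [Matrix.mulVec_mulVec, ← pow_succ', Fin.val_add, ← pow_eq_pow_mod _ (hcube y hy)]
        rfl
      | zero => rw [Matrix.mulVec_zero]; exact Submodule.zero_mem _
      | add p q _ _ h1 h2 => rw [Matrix.mulVec_add]; exact Submodule.add_mem _ h1 h2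
      | smul r p _ h1 => rw [Matrix.mulVec_smul]; exact Submodule.smul_mem _ r h1
    have hXW : ∀ z ∈ W, X *ᵥ z ∈ W := fun z hz => by
      induction hz using Submodule.span_induction with
      | mem z hz =>
        obtain ⟨i, rfl⟩ := hz
        show X *ᵥ ((Y ^ (i : ℕ)) *ᵥ w) ∈ W
        rw [Matrix.mulVec_mulVec, hXY.pow _, Matrix.smul_mulVec, ← Matrix.mulVec_mulVec, hXw,
          Matrix.mulVec_smul]
        exact Submodule.smul_mem _ _ (Submodule.smul_mem _ _ (Submodule.subset_span ⟨i, rfl⟩))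
      | zero => rw [Matrix.mulVec_zero]; exact Submodule.zero_mem _
      | add p q _ _ h1 h2 => rw [Matrix.mulVec_add]; exact Submodule.add_mem _ h1 h2
      | smul r p _ h1 => rw [Matrix.mulVec_smul]; exact Submodule.smul_mem _ r h1
    have hpW : ∀ (A : Matrix ι ι F) (l : ℕ), (∀ z ∈ W, A *ᵥ z ∈ W) → ∀ z ∈ W, (A ^ l) *ᵥ z ∈ W := by
      intro A l hA
      induction l with
      | zero => simp
      | succ l ih =>
        intro z hz
        rw [pow_succ', ← Matrix.mulVec_mulVec]; exact hA _ (ih z hz)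
    have hinv : ∀ s ∈ Cfsg.Geo.matrixSet R, W.map (Matrix.toLin' s) ≤ W := by
      rintro _ ⟨g, hg, rfl⟩ _ ⟨z, hz, rfl⟩
      obtain ⟨n, m, h1, h2⟩ := hadj g hg
      obtain ⟨c, hc⟩ := hh _ (mul_mem (mul_mem hg (pow_mem hy n)) (pow_mem hx m)) h1 h2
      have hg' : (g : Matrix ι ι F) = c • (X ^ (2 * m) * Y ^ (2 * n)) := by
        have e : g = g * y ^ n * x ^ m * (x ^ (2 * m) * y ^ (2 * n)) := by
          rw [show g * y ^ n * x ^ m * (x ^ (2 * m) * y ^ (2 * n)) =
            g * y ^ n * (x ^ m * x ^ (2 * m)) * y ^ (2 * n) by simp only [mul_assoc],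
            ← pow_add, show m + 2 * m = 3 * m by ring, pow_mul, hexp x hx, one_pow, mul_one, mul_assoc,
            ← pow_add, show n + 2 * n = 3 * n by ring, pow_mul, hexp y hy, one_pow, mul_one]
        conv_lhs => rw [e]
        rw [Units.val_mul _ (x ^ (2 * m) * y ^ (2 * n)), hc, smul_mul_assoc, one_mul, Units.val_mul,
          Units.val_pow_eq_pow_val, Units.val_pow_eq_pow_val]
      show Matrix.toLin' (g : Matrix ι ι F) z ∈ W
      rw [Matrix.toLin'_apply, hg', Matrix.smul_mulVec, ← Matrix.mulVec_mulVec]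
      exact Submodule.smul_mem _ _ (hpW X _ hXW _ (hpW Y _ hYW z hz))
    rcases hirr.1 W hinv with hW | hW
    · exact hw0 (by
        have : v 0 ∈ W := Submodule.subset_span ⟨0, rfl⟩
        rw [hW, Submodule.mem_bot] at this
        simpa [v] using this)
    · have hd := finrank_range_le_card (R := F) v
      rw [Set.finrank, show Submodule.span F (Set.range v) = W from rfl, hW, finrank_top,
        Module.finrank_fintype_fun_eq_card, hι, Fintype.card_fin] at hd
      omega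
  obtain ⟨g₁, hg₁, hug⟩ : ∃ g ∈ R, (u : Matrix ι ι F) * g ≠ g * u := by
    by_contra! hcu
    obtain ⟨c, hc⟩ := hscal u hcu
    exact hus c hc
  set U := (u : Matrix ι ι F)
  obtain ⟨g₂, hg₂, hXg, hYg, hUg⟩ : ∃ g ∈ R, X * (g : Matrix ι ι F) = g * X ∧
      Y * (g : Matrix ι ι F) = g * Y ∧ U * g ≠ g * U := by
    obtain ⟨a, b, h1, h2⟩ := hadj g₁ hg₁
    refine ⟨_, mul_mem (mul_mem hg₁ (pow_mem hy a)) (pow_mem hx b), h1, h2, fun h => hug ?_⟩
    have hP : Commute U ((y ^ a * x ^ b : GL ι F) : Matrix ι ι F) := by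
      rw [Units.val_mul, Units.val_pow_eq_pow_val, Units.val_pow_eq_pow_val]
      exact (Commute.pow_right (hYu.symm : Commute U Y) a).mul_right
        (Commute.pow_right (hXu.symm : Commute U X) b)
    rw [mul_assoc g₁, Units.val_mul, ← mul_assoc, mul_assoc (g₁ : Matrix ι ι F) _ U, ← hP.eq,
      ← mul_assoc] at h
    exact (Units.isUnit (y ^ a * x ^ b)).mul_right_cancel h
  obtain ⟨m₁, hUV⟩ := hone u hu g₂ hg₂ hUg
  set v := g₂ ^ m₁
  have hv : v ∈ R := pow_mem hg₂ _
  set V := (v : Matrix ι ι F)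
  rw [← Units.val_pow_eq_pow_val] at hUV
  change Twist κ U V 1 at hUV
  have hVU : Twist κ V U 2 := hUV.symm
  have hXV : X * V = V * X := by
    show X * ((g₂ ^ m₁ : GL ι F) : Matrix ι ι F) = ((g₂ ^ m₁ : GL ι F) : Matrix ι ι F) * X
    rw [Units.val_pow_eq_pow_val]
    exact Commute.pow_right hXg m₁
  have hYV : Y * V = V * Y := by
    show Y * ((g₂ ^ m₁ : GL ι F) : Matrix ι ι F) = ((g₂ ^ m₁ : GL ι F) : Matrix ι ι F) * Y
    rw [Units.val_pow_eq_pow_val]
    exact Commute.pow_right hYg m₁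
  -- the basis
  obtain ⟨w, hw0, hXw, hUw⟩ := exists_fixed (κ := κ) (hcube x hx) (hcube u hu) (hcube y hy) (hcube v hv)
    hXu hXY hUV hXV hYu.symm
  set bs : I9 → ι → F := fun p => (Y ^ (p.1 : ℕ) * V ^ (p.2 : ℕ)) *ᵥ w with hbs
  have hXb : ∀ p, X *ᵥ bs p = κ.ω ^ (p.1 : ℕ) • bs p := fun p => by
    show X *ᵥ (_ *ᵥ w) = _
    rw [Matrix.mulVec_mulVec, (hXY.pow _).mul ((Twist.of_comm hXV).pow _), Matrix.smul_mulVec,
      ← Matrix.mulVec_mulVec, hXw, one_mul, zero_mul, add_zero]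
  have hUb : ∀ p, U *ᵥ bs p = κ.ω ^ (p.2 : ℕ) • bs p := fun p => by
    show U *ᵥ (_ *ᵥ w) = _
    rw [Matrix.mulVec_mulVec, ((Twist.of_comm hYu.symm).pow _).mul (hUV.pow _), Matrix.smul_mulVec,
      ← Matrix.mulVec_mulVec, hUw, zero_mul, zero_add, one_mul]
  have hYb : ∀ p, Y *ᵥ bs p = bs (p.1 + 1, p.2) := fun p => by
    show Y *ᵥ (_ *ᵥ w) = _
    rw [Matrix.mulVec_mulVec, ← mul_assoc, ← pow_succ']
    show _ = (Y ^ ((p.1 + 1 : Fin 3) : ℕ) * _) *ᵥ w
    rw [Fin.val_add, ← pow_eq_pow_mod _ (hcube y hy)]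
    rfl
  have hVb : ∀ p, V *ᵥ bs p = bs (p.1, p.2 + 1) := fun p => by
    show V *ᵥ (_ *ᵥ w) = _
    rw [Matrix.mulVec_mulVec, ← mul_assoc, (Commute.pow_right (hYV.symm : Commute V Y) _).eq, mul_assoc,
      ← pow_succ']
    show _ = (_ * V ^ ((p.2 + 1 : Fin 3) : ℕ)) *ᵥ w
    rw [Fin.val_add, ← pow_eq_pow_mod _ (hcube v hv)]
    rfl
  have hb0 : ∀ p, bs p ≠ 0 := fun p h => hw0 (by
    have hunit : IsUnit (Y ^ (p.1 : ℕ) * V ^ (p.2 : ℕ)) := (y.isUnit.pow _).mul (v.isUnit.pow _)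
    exact Matrix.mulVec_injective_iff_isUnit.2 hunit (h.trans (Matrix.mulVec_zero _).symm))
  let e : I9 ≃ ι := Fintype.equivOfCardEq (by simp [hι])
  set B0 : Matrix ι ι F := Matrix.of fun i j => bs (e.symm j) i with hB0
  have hmv : ∀ a : ι → F, B0 *ᵥ a = ∑ p, a (e p) • bs p := fun a => by
    ext i
    rw [Finset.sum_apply]
    simp only [hB0, Matrix.mulVec, dotProduct, Matrix.of_apply, Pi.smul_apply, smul_eq_mul]
    rw [← Equiv.sum_comp e]
    exact Finset.sum_congr rfl fun p _ => by rw [e.symm_apply_apply, mul_comm]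
  have hunit : IsUnit B0 := by
    rw [← Matrix.mulVec_injective_iff_isUnit, ← Matrix.coe_mulVecLin, ← LinearMap.ker_eq_bot,
      LinearMap.ker_eq_bot']
    intro a ha
    rw [Matrix.mulVecLin_apply, hmv] at ha
    funext j
    obtain ⟨p, rfl⟩ := e.surjective j
    -- projectors on the joint eigenspaces
    let Q : (Matrix ι ι F) → ℕ → (ι → F) →ₗ[F] (ι → F) := fun A i =>
      Matrix.mulVecLin (1 + κ.ω ^ (2 * i) • A + κ.ω ^ i • (A * A))
    have hQ : ∀ (A : Matrix ι ι F) (z : ι → F) (i l : Fin 3), A *ᵥ z = κ.ω ^ (l : ℕ) • z →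
        Q A i z = (if l = i then (3 : F) else 0) • z := fun A z i l hz => by
      simp only [Q, Matrix.mulVecLin_apply, Matrix.add_mulVec, Matrix.one_mulVec, Matrix.smul_mulVec,
        ← Matrix.mulVec_mulVec, hz, Matrix.mulVec_smul, smul_smul]
      have := κ.rel; have := κ.cube
      fin_cases i <;> fin_cases l <;> simp <;> match_scalars <;> grind
    have h9 := congrArg (fun z => Q U (p.2 : ℕ) (Q X (p.1 : ℕ) z)) ha
    simp only [map_sum, map_smul, map_zero] at h9
    rw [Finset.sum_eq_single p] at h9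
    · rw [hQ X _ p.1 p.1 (hXb p), map_smul, hQ U _ p.2 p.2 (hUb p), if_pos rfl, if_pos rfl, smul_smul,
        smul_smul] at h9
      simpa [hb0 p, κ.three] using h9
    · intro q _ hq
      rw [hQ X _ p.1 q.1 (hXb q), map_smul, hQ U _ p.2 q.2 (hUb q)]
      by_cases h1 : q.1 = p.1
      · have h2 : q.2 ≠ p.2 := fun h2 => hq (Prod.ext h1 h2)
        simp [h2]
      · simp [h1]
    · simp
  obtain ⟨B, hBv⟩ : ∃ B : GL ι F, (B : Matrix ι ι F) = B0 := ⟨hunit.unit, hunit.unit_spec⟩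
  refine ⟨e, B, ?_⟩
  set φ := stdMap e B
  have hcol : ∀ (g : GL ι F) (N : GL I9 F),
      (∀ p, (g : Matrix ι ι F) *ᵥ bs p = ∑ q, (N : Matrix I9 I9 F) q p • bs q) → φ N = g := by
    intro g N h
    rw [stdMap_apply, mul_inv_eq_iff_eq_mul]
    apply Units.ext
    rw [Units.val_mul, Units.val_mul, hBv, glReindex_val]
    ext i j
    have h' := congrFun (h (e.symm j)) i
    simp only [Matrix.mulVec, dotProduct, Finset.sum_apply, Pi.smul_apply, smul_eq_mul] at h'
    simp only [hB0, Matrix.mul_apply, Matrix.of_apply, Matrix.submatrix_apply]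
    rw [h', ← Equiv.sum_comp e]
    exact Finset.sum_congr rfl fun q _ => by rw [e.symm_apply_apply, mul_comm]
  have gx : φ (kr κ.gZ 1) = x := hcol _ _ fun p => by
    rw [hXb, Finset.sum_eq_single p]
    · simp [kr_val, Cub.gZ, dgl, Cub.w_val]
    · rintro ⟨i, k⟩ - hq
      obtain ⟨j, l⟩ := p
      by_cases hi : i = j
      · subst hi
        have : k ≠ l := fun h => hq (by rw [h])
        simp [kr_val, Matrix.one_apply, this]
      · simp [kr_val, Cub.gZ, dgl, hi]
    · simp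
  have gu : φ (kr 1 κ.gZ) = u := hcol _ _ fun p => by
    rw [hUb, Finset.sum_eq_single p]
    · simp [kr_val, Cub.gZ, dgl, Cub.w_val]
    · rintro ⟨i, k⟩ - hq
      obtain ⟨j, l⟩ := p
      by_cases hi : i = j
      · subst hi
        have : k ≠ l := fun h => hq (by rw [h])
        simp [kr_val, Cub.gZ, dgl, this]
      · simp [kr_val, Matrix.one_apply, hi]
    · simp
  have gy : φ (kr gX 1) = y := hcol _ _ fun p => by
    rw [hYb, Finset.sum_eq_single (p.1 + 1, p.2)]
    · simp [kr_val, gX]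
    · rintro ⟨i, k⟩ - hq
      obtain ⟨j, l⟩ := p
      by_cases hi : i = j + 1
      · subst hi
        have : k ≠ l := fun h => hq (by rw [h])
        simp [kr_val, Matrix.one_apply, this]
      · simp [kr_val, gX, hi]
    · simp
  have gv : φ (kr 1 gX) = v := hcol _ _ fun p => by
    rw [hVb, Finset.sum_eq_single (p.1, p.2 + 1)]
    · simp [kr_val, gX]
    · rintro ⟨i, k⟩ - hq
      obtain ⟨j, l⟩ := p
      by_cases hi : i = j
      · subst hi
        have : k ≠ l + 1 := fun h => hq (by rw [h])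
        simp [kr_val, gX, this]
      · simp [kr_val, Matrix.one_apply, hi]
    · simp
  have mX : kr gX 1 ∈ R9w κ := Subgroup.subset_closure (by simp)
  have mZ : kr κ.gZ 1 ∈ R9w κ := Subgroup.subset_closure (by simp)
  have mX' : kr 1 gX ∈ R9w κ := Subgroup.subset_closure (by simp)
  have mZ' : kr 1 κ.gZ ∈ R9w κ := Subgroup.subset_closure (by simp)
  apply le_antisymm
  · intro g hg
    obtain ⟨n, hn⟩ := htw x hx g hg
    obtain ⟨m, hm⟩ := htw y hy g hg
    obtain ⟨n', hn'⟩ := htw u hu g hg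
    obtain ⟨m', hm'⟩ := htw v hv g hg
    set g' := g * y ^ (2 * n) * x ^ m * v ^ (2 * n') * u ^ m' with hg'
    have hg'R : g' ∈ R :=
      mul_mem (mul_mem (mul_mem (mul_mem hg (pow_mem hy _)) (pow_mem hx _)) (pow_mem hv _)) (pow_mem hu _)
    have c0 : ∀ A : Matrix ι ι F, Twist κ A A 0 := fun A => Twist.of_comm rfl
    have cXU : Twist κ X U 0 := Twist.of_comm hXu
    have cXV : Twist κ X V 0 := Twist.of_comm hXV
    have cYU : Twist κ Y U 0 := Twist.of_comm hYu
    have cYV : Twist κ Y V 0 := Twist.of_comm hYV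
    have hval : (g' : Matrix ι ι F) = (g : Matrix ι ι F) * Y ^ (2 * n) * X ^ m * V ^ (2 * n') * U ^ m' := by
      simp only [hg', Units.val_mul, Units.val_pow_eq_pow_val]
      rfl
    have e1 : X * (g' : Matrix ι ι F) = g' * X := by
      rw [hval]
      exact ((((hn.mul (hXY.pow _)).mul ((c0 X).pow _)).mul (cXV.pow _)).mul (cXU.pow _)).comm (by omega)
    have e2 : Y * (g' : Matrix ι ι F) = g' * Y := by
      rw [hval]
      exact ((((hm.mul ((c0 Y).pow _)).mul (hYX.pow _)).mul (cYV.pow _)).mul (cYU.pow _)).comm (by omega)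
    have e3 : U * (g' : Matrix ι ι F) = g' * U := by
      rw [hval]
      exact ((((hn'.mul ((Twist.of_comm hYu.symm).pow _)).mul ((Twist.of_comm hXu.symm).pow _)).mul
        (hUV.pow _)).mul ((c0 U).pow _)).comm (by omega)
    have e4 : V * (g' : Matrix ι ι F) = g' * V := by
      rw [hval]
      exact ((((hm'.mul ((Twist.of_comm hYV.symm).pow _)).mul ((Twist.of_comm hXV.symm).pow _)).mul
        ((c0 V).pow _)).mul (hVU.pow _)).comm (by omega)
    clear_value g'
    have hN : ∀ (h : GL I9 F) (z : GL ι F), φ h = z → (z : Matrix ι ι F) * g' = g' * z →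
        ((φ.symm g' : GL I9 F) : Matrix I9 I9 F) * (h : Matrix I9 I9 F) =
          (h : Matrix I9 I9 F) * (φ.symm g' : GL I9 F) := fun h z hz hc => by
      rw [← Units.val_mul, ← Units.val_mul]
      congr 1
      apply φ.injective
      rw [map_mul, map_mul, φ.apply_symm_apply, hz]
      exact Units.ext (by rw [Units.val_mul, Units.val_mul, hc])
    obtain ⟨c, hc⟩ := scal_of_comm_R9 (hN _ _ gx e1) (hN _ _ gu e3) (hN _ _ gy e2) (hN _ _ gv e4)
    have hc3 : c ^ 3 = 1 := by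
      have h : ((φ.symm g') ^ 3 : GL I9 F) = 1 := by rw [← map_pow, hexp g' hg'R, map_one]
      have := congrArg (fun k : GL I9 F => (k : Matrix I9 I9 F) (0, 0) (0, 0)) h
      simpa [Units.val_pow_eq_pow_val, hc, smul_pow] using this
    obtain ⟨l, hl⟩ := cube_eq_pow (κ := κ) hc3
    have mx : x ∈ (R9w κ).map φ.toMonoidHom := ⟨_, mZ, gx⟩
    have my : y ∈ (R9w κ).map φ.toMonoidHom := ⟨_, mX, gy⟩
    have mu : u ∈ (R9w κ).map φ.toMonoidHom := ⟨_, mZ', gu⟩
    have mv : v ∈ (R9w κ).map φ.toMonoidHom := ⟨_, mX', gv⟩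
    have hxy : ((x * y * x⁻¹ * y⁻¹ : GL ι F) : Matrix ι ι F) = κ.ω • 1 := by
      have h : X * Y = κ.ω • (Y * X) := by simpa [Twist] using hXY
      rw [Units.val_mul, Units.val_mul, Units.val_mul, h, smul_mul_assoc, smul_mul_assoc]
      congr 1
      rw [← Units.val_mul, ← Units.val_mul, ← Units.val_mul, mul_inv_cancel_right, mul_inv_cancel,
        Units.val_one]
    have hg'v : (g' : Matrix ι ι F) = c • 1 := by
      rw [← φ.apply_symm_apply g', stdMap_apply, Units.val_mul, Units.val_mul, glReindex_val, hc,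
        show (c • (1 : Matrix I9 I9 F)).submatrix e.symm e.symm = c • (1 : Matrix ι ι F) by
          ext i j; simp [Matrix.one_apply],
        mul_smul_comm, mul_one,
        smul_mul_assoc, ← Units.val_mul, mul_inv_cancel, Units.val_one]
    have hg'9 : g' ∈ (R9w κ).map φ.toMonoidHom := by
      rw [show g' = (x * y * x⁻¹ * y⁻¹) ^ l from Units.ext (by
        rw [Units.val_pow_eq_pow_val, hxy, hg'v, hl, smul_pow, one_pow])]
      exact pow_mem (mul_mem (mul_mem (mul_mem mx my) (inv_mem mx)) (inv_mem my)) l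
    rw [show g = g' * (u ^ m')⁻¹ * (v ^ (2 * n'))⁻¹ * (x ^ m)⁻¹ * (y ^ (2 * n))⁻¹ by rw [hg']; group]
    exact mul_mem (mul_mem (mul_mem (mul_mem hg'9 (inv_mem (pow_mem mu _))) (inv_mem (pow_mem mv _)))
      (inv_mem (pow_mem mx _))) (inv_mem (pow_mem my _))
  · rw [Subgroup.map_le_iff_le_comap, R9w, Subgroup.closure_le]
    simp only [Set.insert_subset_iff, Set.singleton_subset_iff, SetLike.mem_coe, Subgroup.mem_comap,
      MulEquiv.coe_toMonoidHom, gy, gx, gv, gu]
    exact ⟨hy, hx, hv, hu⟩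

end Cfsg.Agent.C6Three
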