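/-
A proper overgroup of the known normalising elements contains no transvection.
Main results: `Ovr.noTv`, `Ovr.elem_spread`.
-/
import Cfsg.Agent.Lib.C6Three.Model

set_option autoImplicit false
set_option linter.unusedSectionVars false

namespace Cfsg.Agent.C6Three

open Matrix Cfsg.Agent.Transvect
open scoped Matrix Kronecker

variable {F : Type*} [Field F] [Fintype F]

/-- The six functions cutting out pairs of points. -/
def sixLines : Fin 6 → I9 → Fin 3 := fun a p =>
  bif ![decide (p.1 = 0), decide (p.1 = 1), decide (p.2 = 0), decide (p.2 = 1),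
    decide (p.1 + p.2 = 0), decide (p.1 = p.2)] a then 1 else 0

theorem six_sep : ∀ p q p' q' : I9, p ≠ q → p' ≠ q' →
    (∀ a, sixLines a p - sixLines a q = sixLines a p' - sixLines a q') → p = p' ∧ q = q' := by
  decide +kernel

variable (κ : Fld F)
include κ

theorem three_smul_avg {e : Fin 3} : (1 : F) + κ.ω ^ (e : ℕ) + κ.ω ^ (2 * (e : ℕ)) = if e = 0 then 3 else 0 := by
  have hω := κ.cube
  have rel := κ.rel
  fin_cases e <;> simp <;> grind

theorem sixLines_mem {H : Subgroup (GL I9 F)} (O : Ovr κ H) (a : Fin 6) :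
    (dgl fun p => κ.w ^ (sixLines a p : ℕ)) ∈ H := by
  obtain ⟨hh, hh', -, -, hd1, hd2⟩ := base_gens κ
  have conv : ∀ {P : I9 → Prop} [DecidablePred P] {g : GL I9 F}, g ∈ Base κ →
      g = dgl (fun p => if P p then κ.w else 1) → (∀ p, sixLines a p = if P p then 1 else 0) →
      (dgl fun p => κ.w ^ (sixLines a p : ℕ)) ∈ H := by
    intro P _ g hg he hs
    refine O.base ?_
    convert hg using 1
    rw [he]
    congr 1
    funext p
    rw [hs]
    split_ifs <;> simp
  have hk : ∀ k, kr (gh κ k) 1 = dgl fun p : I9 => if p.1 = k then κ.w else 1 := fun k => by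
    apply Units.ext
    ext p q
    rw [kr_val]
    obtain ⟨i, j⟩ := p
    obtain ⟨i', j'⟩ := q
    simp only [gh, dgl, Units.val_one, Matrix.diagonal_apply, Matrix.one_apply, Prod.mk.injEq]
    by_cases hi : i = i' <;> by_cases hj : j = j' <;> simp [hi, hj]
  have hk' : ∀ k, kr 1 (gh κ k) = dgl fun p : I9 => if p.2 = k then κ.w else 1 := fun k => by
    apply Units.ext
    ext p q
    rw [kr_val]
    obtain ⟨i, j⟩ := p
    obtain ⟨i', j'⟩ := q
    simp only [gh, dgl, Units.val_one, Matrix.diagonal_apply, Matrix.one_apply, Prod.mk.injEq]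
    by_cases hi : i = i' <;> by_cases hj : j = j' <;> simp [hi, hj]
  fin_cases a
  · exact conv (hh 0) (hk 0) (fun p => by simp [sixLines])
  · exact conv (hh 1) (hk 1) (fun p => by simp [sixLines])
  · exact conv (hh' 0) (hk' 0) (fun p => by simp [sixLines])
  · exact conv (hh' 1) (hk' 1) (fun p => by simp [sixLines])
  · exact conv hd1 rfl (fun p => by simp [sixLines])
  · exact conv hd2 rfl (fun p => by simp [sixLines])

omit κ in
/-- The additive set of matrices supported on a product of disjoint sets inside a group. -/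
def Mset (H : Subgroup (GL I9 F)) (S T : I9 → Prop) : Set (Matrix I9 I9 F) :=
  {M | (∀ p q, M p q ≠ 0 → S p ∧ T q) ∧ ∃ g ∈ H, (g : Matrix I9 I9 F) = 1 + M}

omit κ in
theorem Mset_add {H : Subgroup (GL I9 F)} {S T : I9 → Prop} (hd : ∀ p, S p → ¬ T p)
    {M N : Matrix I9 I9 F} (hM : M ∈ Mset H S T) (hN : N ∈ Mset H S T) : M + N ∈ Mset H S T := by
  obtain ⟨sM, g, hg, eg⟩ := hM
  obtain ⟨sN, h, hh, eh⟩ := hN
  refine ⟨fun p q hpq => ?_, g * h, mul_mem hg hh, ?_⟩
  · by_cases h1 : M p q = 0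
    · exact sN p q (by simpa [h1] using hpq)
    · exact sM p q h1
  · have : M * N = 0 := by
      ext p q
      rw [Matrix.mul_apply]
      refine Finset.sum_eq_zero fun r _ => ?_
      by_cases h1 : M p r = 0
      · simp [h1]
      by_cases h2 : N r q = 0
      · simp [h2]
      exact absurd (sM p r h1).2 (hd r (sN r q h2).1)
    rw [Units.val_mul, eg, eh, Matrix.add_mul, Matrix.mul_add, Matrix.mul_add, one_mul, one_mul,
      mul_one, this]
    abel

theorem Mset_smul {H : Subgroup (GL I9 F)} {S T : I9 → Prop} (hd : ∀ p, S p → ¬ T p)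
    {M : Matrix I9 I9 F} (hM : M ∈ Mset H S T) (c : F) : c • M ∈ Mset H S T := by
  haveI : Fact (Fintype.card F).Prime := ⟨κ.prime⟩
  have := C6Two.charP_of_card (F := F) (p := Fintype.card F) rfl
  obtain ⟨n, rfl⟩ : ∃ n : ℕ, (n : F) = c := by
    obtain ⟨i, hi⟩ := (ZMod.castHom_bijective F (rfl : Fintype.card F = _)).2 c
    exact ⟨i.val, hi ▸ (ZMod.natCast_val i)⟩
  induction n with
  | zero => exact ⟨fun p q h => by simp at h, 1, one_mem _, by simp⟩
  | succ n ih => rw [Nat.cast_succ, add_smul, one_smul]; exact Mset_add hd ih hM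

theorem Mset_conj {H : Subgroup (GL I9 F)} {S T : I9 → Prop} {M : Matrix I9 I9 F}
    (hM : M ∈ Mset H S T) {d : I9 → Fˣ} (hdH : dgl d ∈ H) :
    Matrix.of (fun p q => (d p : F) * M p q * ((d q)⁻¹ : Fˣ)) ∈ Mset H S T := by
  obtain ⟨sM, g, hg, eg⟩ := hM
  refine ⟨fun p q hpq => sM p q fun e => hpq (by simp [e]), dgl d * g * (dgl d)⁻¹,
    mul_mem (mul_mem hdH hg) (inv_mem hdH), ?_⟩
  rw [dgl_inv, Units.val_mul, Units.val_mul, eg]
  show Matrix.diagonal (fun i => (d i : F)) * (1 + M) * Matrix.diagonal (fun i => ((d⁻¹ i : Fˣ) : F)) = _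
  ext p q
  rw [Matrix.mul_diagonal, Matrix.diagonal_mul]
  simp only [Matrix.add_apply, Matrix.of_apply, Matrix.one_apply, Pi.inv_apply, mul_add, add_mul]
  split_ifs with h
  · subst h; simp
  · simp

/-- Project on one entry. -/
theorem exists_entry {H : Subgroup (GL I9 F)} (O : Ovr κ H) {S T : I9 → Prop}
    (hd : ∀ p, S p → ¬ T p) {M : Matrix I9 I9 F} (hM : M ∈ Mset H S T) {p q : I9}
    (hpq : M p q ≠ 0) : ∀ c : F, elem p q c ∈ H := by
  have hne : p ≠ q := fun e => hd p (hM.1 p q hpq).1 (e ▸ (hM.1 p q hpq).2)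
  have key : ∀ s : Finset (Fin 6), ∃ N ∈ Mset H S T, N p q ≠ 0 ∧ ∀ p' q', N p' q' ≠ 0 →
      ∀ a ∈ s, sixLines a p' - sixLines a q' = sixLines a p - sixLines a q := by
    intro s
    induction s using Finset.induction with
    | empty => exact ⟨M, hM, hpq, fun _ _ _ a ha => absurd ha (Finset.notMem_empty a)⟩
    | @insert a s _ ih =>
      obtain ⟨N, hN, hNpq, hNs⟩ := ih
      set d : I9 → Fˣ := fun r => κ.w ^ (sixLines a r : ℕ) with hdd
      have hdH : dgl d ∈ H := sixLines_mem κ O a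
      set e := sixLines a p - sixLines a q with he
      set N1 := Matrix.of (fun r t => (d r : F) * N r t * ((d t)⁻¹ : Fˣ)) with hN1
      set N2 := Matrix.of (fun r t => (d r : F) * N1 r t * ((d t)⁻¹ : Fˣ)) with hN2
      have m1 := Mset_conj κ hN hdH
      have m2 := Mset_conj κ m1 hdH
      set K := N + κ.ω ^ (2 * (e : ℕ)) • N1 + κ.ω ^ (e : ℕ) • N2 with hK
      have hKm : K ∈ Mset H S T :=
        Mset_add hd (Mset_add hd hN (Mset_smul κ hd m1 _)) (Mset_smul κ hd m2 _)
      have sub : ∀ x y : Fin 3, κ.ω ^ ((x - y : Fin 3) : ℕ) = κ.ω ^ (x : ℕ) * κ.ω ^ (2 * (y : ℕ)) := by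
        intro x y
        have pm : ∀ n : ℕ, κ.ω ^ n = κ.ω ^ (n % 3) := fun n => by
          conv_lhs => rw [← Nat.mod_add_div n 3, pow_add, pow_mul, κ.cube, one_pow, mul_one]
        rw [← pow_add, Fin.val_sub, ← pm, pm ((x : ℕ) + 2 * y), pm (3 - (y : ℕ) + x)]
        congr 1
        omega
      have val : ∀ r t, K r t = N r t *
          if sixLines a r - sixLines a t - e = 0 then 3 else 0 := by
        intro r t
        rw [← three_smul_avg κ, sub, sub, pow_mul' κ.ω 2 ((sixLines a r - sixLines a t - e : Fin 3) : ℕ),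
          sub, sub]
        have hinv : ∀ n : ℕ, (((κ.w ^ n)⁻¹ : Fˣ) : F) = κ.ω ^ (2 * n) := fun n => by
          rw [Units.val_inv_eq_inv_val, Units.val_pow_eq_pow_val, Fld.w_val]
          exact inv_eq_of_mul_eq_one_right (by rw [mul_comm, inv_pow κ])
        simp only [hK, hN2, hN1, Matrix.add_apply, Matrix.smul_apply, Matrix.of_apply, smul_eq_mul,
          hdd, hinv, Units.val_pow_eq_pow_val, Fld.w_val, pow_mul' κ.ω 2]
        have he3 : (κ.ω ^ (e : ℕ)) ^ 3 = 1 := by rw [← pow_mul, mul_comm, pow_mul, κ.cube, one_pow]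
        linear_combination -(N r t * κ.ω ^ (e : ℕ) *
          (κ.ω ^ (sixLines a r : ℕ) * (κ.ω ^ (sixLines a t : ℕ)) ^ 2) ^ 2) * he3
      refine ⟨K, hKm, ?_, fun p' q' h => ?_⟩
      · rw [val, if_pos (by rw [he, sub_self])]
        exact mul_ne_zero hNpq κ.three
      · rw [val] at h
        have h1 : N p' q' ≠ 0 := fun e0 => h (by rw [e0, zero_mul])
        intro b hb
        rcases Finset.mem_insert.1 hb with rfl | hb
        · by_contra hc
          apply h
          rw [if_neg (sub_ne_zero.2 (fun e0 => hc (by rw [e0]))), mul_zero]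
        · exact hNs p' q' h1 b hb
  obtain ⟨N, hN, hNpq, hNs⟩ := key Finset.univ
  have hsupp : ∀ r t, N r t ≠ 0 → r = p ∧ t = q := fun r t h => by
    have hrt : r ≠ t := fun e => hd r (hN.1 r t h).1 (e ▸ (hN.1 r t h).2)
    exact six_sep r t p q hrt hne fun a => hNs r t h a (Finset.mem_univ a)
  obtain ⟨-, g, hg, eg⟩ := Mset_smul κ hd hN (N p q)⁻¹
  have e1 : g = elem p q 1 := by
    apply Units.ext
    rw [eg, elem_val hne, Matrix.transvection]
    congr 1
    ext r t
    rw [Matrix.smul_apply, smul_eq_mul, Matrix.single_apply]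
    split_ifs with h
    · obtain ⟨rfl, rfl⟩ := h; exact inv_mul_cancel₀ hNpq
    · by_cases h0 : N r t = 0
      · simp [h0]
      · exact absurd ⟨(hsupp r t h0).1.symm, (hsupp r t h0).2.symm⟩ h
  intro c
  have h0 : ((1 : F) • LinearMap.proj q : (I9 → F) →ₗ[F] F) (Pi.single p 1) = 0 := by
    simp [hne.symm]
  have := (mem_axes_of_tv κ (B := H) h0 (show elem p q 1 ∈ H by rw [← e1]; exact hg)).2 c
  rw [one_smul] at this
  exact this

theorem tvMat_mem {H : Subgroup (GL I9 F)} {S T : I9 → Prop} {v : I9 → F}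
    {φ : (I9 → F) →ₗ[F] F} (h0 : φ v = 0) (hS : ∀ p, v p ≠ 0 → S p)
    (hT : ∀ q, φ (Pi.single q 1) ≠ 0 → T q) (hm : tv v φ ∈ H) :
    Matrix.vecMulVec v (fun j => φ (Pi.single j 1)) ∈ Mset H S T :=
  ⟨fun p q h => by
    rw [Matrix.vecMulVec_apply] at h
    exact ⟨hS p (left_ne_zero_of_mul h), hT q (right_ne_zero_of_mul h)⟩,
    tv v φ, hm, by rw [tv_val h0]; rfl⟩

/-- Spreading one root group to all. -/
theorem Ovr.false_of_elem {H : Subgroup (GL I9 F)} (O : Ovr κ H) {p q : I9} (hpq : p ≠ q)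
    (h : ∀ c : F, elem p q c ∈ H) : False := by
  classical
  obtain ⟨hh, hh', hq, hq', -, -⟩ := base_gens κ
  have hn : ∀ i j, (gq κ : Matrix (Fin 3) (Fin 3) F) i j ≠ 0 ∧
      ((gq κ)⁻¹ : GL (Fin 3) F).val i j ≠ 0 := by
    intro i j
    constructor
    · show ((κ.ω - κ.ω ^ 2)⁻¹ • Matrix.of fun a b : Fin 3 => κ.ω ^ ((a : ℕ) * b)) i j ≠ 0
      rw [Matrix.smul_apply, Matrix.of_apply, smul_eq_mul]
      refine mul_ne_zero (inv_ne_zero ?_) (pow_ne_zero _ κ.ω_ne)
      rw [show κ.ω - κ.ω ^ 2 = κ.ω * (1 - κ.ω) by ring]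
      exact mul_ne_zero κ.ω_ne (sub_ne_zero.2 κ.ω_ne_one.symm)
    · show ((κ.ω ^ 2 - κ.ω)⁻¹ • Matrix.of fun a b : Fin 3 => κ.ω ^ (2 * ((a : ℕ) * b))) i j ≠ 0
      rw [Matrix.smul_apply, Matrix.of_apply, smul_eq_mul]
      refine mul_ne_zero (inv_ne_zero ?_) (pow_ne_zero _ κ.ω_ne)
      rw [show κ.ω ^ 2 - κ.ω = κ.ω * (κ.ω - 1) by ring]
      exact mul_ne_zero κ.ω_ne κ.d1
  have move : ∀ (g : GL I9 F) (p q : I9) (S T : I9 → Prop), p ≠ q → g ∈ H → (∀ c, elem p q c ∈ H) →
      (∀ r, S r → ¬ T r) → (∀ r, (g : Matrix I9 I9 F) r p ≠ 0 → S r) →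
      (∀ t, ((g⁻¹ : GL I9 F) : Matrix I9 I9 F) q t ≠ 0 → T t) →
      ∀ r t, (g : Matrix I9 I9 F) r p ≠ 0 → ((g⁻¹ : GL I9 F) : Matrix I9 I9 F) q t ≠ 0 →
        ∀ c, elem r t c ∈ H := by
    intro g p q S T hpq hg hel hd hS hT r t hr ht
    have h0 : ((1 : F) • LinearMap.proj q : (I9 → F) →ₗ[F] F) (Pi.single p 1) = 0 := by
      simp [hpq.symm]
    have hm := mul_mem (mul_mem hg (hel 1)) (inv_mem hg)
    rw [elem, tv_conj h0] at hm
    have ev : app g (Pi.single p 1) = fun r => (g : Matrix I9 I9 F) r p := by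
      funext r; rw [app_apply, Matrix.mulVec_single_one]; rfl
    have eφ : ∀ t, (((1 : F) • LinearMap.proj q : (I9 → F) →ₗ[F] F) ∘ₗ (app g⁻¹).toLinearMap)
        (Pi.single t 1) = ((g⁻¹ : GL I9 F) : Matrix I9 I9 F) q t := fun t => by
      simp only [LinearMap.comp_apply, LinearEquiv.coe_coe, one_smul, LinearMap.proj_apply,
        app_apply, Matrix.mulVec_single_one]
      rfl
    refine exists_entry κ O hd (tvMat_mem κ (S := S) (T := T) ?_ ?_ ?_ hm) (p := r) (q := t) ?_
    · simp only [LinearMap.comp_apply, LinearEquiv.coe_coe, app_inv_app, h0]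
    · intro r' h'; rw [ev] at h'; exact hS r' h'
    · intro t' h'; rw [eφ] at h'; exact hT t' h'
    · rw [Matrix.vecMulVec_apply, ev, eφ]; exact mul_ne_zero hr ht
  have rule1 : ∀ i k j l, i ≠ j → (∀ c, elem ((i, k) : I9) (j, l) c ∈ H) →
      ∀ k' l', ∀ c, elem ((i, k') : I9) (j, l') c ∈ H := by
    intro i k j l hij hel k' l'
    refine move (kr 1 (gq κ)) (i, k) (j, l) (fun r => r.1 = i) (fun r => r.1 = j)
      (fun e => hij (congrArg Prod.fst e)) (O.base hq') hel (fun r h1 h2 => hij (h1.symm.trans h2))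
      (fun r hr => ?_) (fun t ht => ?_) (i, k') (j, l') ?_ ?_
    · rw [kr_val] at hr
      by_contra hne
      exact hr (by simp [Matrix.one_apply, hne])
    · rw [show (kr 1 (gq κ))⁻¹ = kr 1 (gq κ)⁻¹ from Units.ext rfl, kr_val] at ht
      by_contra hne
      exact ht (by simp [Matrix.one_apply, Ne.symm hne])
    · rw [kr_val]; simpa using (hn k' k).1
    · rw [show (kr 1 (gq κ))⁻¹ = kr 1 (gq κ)⁻¹ from Units.ext rfl, kr_val]; simpa using (hn l l').2
  have rule2 : ∀ i k j l, k ≠ l → (∀ c, elem ((i, k) : I9) (j, l) c ∈ H) →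
      ∀ i' j', ∀ c, elem ((i', k) : I9) (j', l) c ∈ H := by
    intro i k j l hkl hel i' j'
    refine move (kr (gq κ) 1) (i, k) (j, l) (fun r => r.2 = k) (fun r => r.2 = l)
      (fun e => hkl (congrArg Prod.snd e)) (O.base hq) hel (fun r h1 h2 => hkl (h1.symm.trans h2))
      (fun r hr => ?_) (fun t ht => ?_) (i', k) (j', l) ?_ ?_
    · rw [kr_val] at hr
      by_contra hne
      exact hr (by simp [Matrix.one_apply, hne])
    · rw [show (kr (gq κ) 1)⁻¹ = kr (gq κ)⁻¹ 1 from Units.ext rfl, kr_val] at ht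
      by_contra hne
      exact ht (by simp [Matrix.one_apply, Ne.symm hne])
    · rw [kr_val]; simpa using (hn i' i).1
    · rw [show (kr (gq κ) 1)⁻¹ = kr (gq κ)⁻¹ 1 from Units.ext rfl, kr_val]; simpa using (hn j j').2
  obtain ⟨i, k⟩ := p
  obtain ⟨j, l⟩ := q
  have h01 : ∀ i' j', ∀ c, elem ((i', 0) : I9) (j', 1) c ∈ H := by
    by_cases hij : i = j
    · have hkl : k ≠ l := fun e => hpq (by rw [hij, e])
      exact rule2 0 0 1 1 (by decide) (rule1 0 k 1 l (by decide) (rule2 i k j l hkl h 0 1) 0 1)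
    · exact rule2 i 0 j 1 (by decide) (rule1 i k j l hij h 0 1)
  refine O.proper (sl_le_of_elem H ?_)
  rintro ⟨i', k'⟩ ⟨j', l'⟩ hne c
  by_cases hij : i' = j'
  · have hkl : k' ≠ l' := fun e => hne (by rw [hij, e])
    exact rule2 0 k' 1 l' hkl (rule1 0 0 1 1 (by decide) (h01 0 1) k' l') i' j' c
  · exact rule1 i' 0 j' 1 hij (h01 i' j') k' l' c

/-- No transvections. -/
theorem Ovr.noTv {H : Subgroup (GL I9 F)} (O : Ovr κ H) : NoTv H := by
  classical
  intro v φ h0 hm
  by_contra hne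
  have hdis : ∀ (v : I9 → F) (φ : (I9 → F) →ₗ[F] F), φ v = 0 → tv v φ ∈ H → tv v φ ≠ 1 →
      (∀ p, v p * φ (Pi.single p 1) = 0) → False := by
    intro v φ h0 hm hne hz
    have hne' : ∃ p q, v p * φ (Pi.single q 1) ≠ 0 := by
      by_contra hc
      push Not at hc
      apply hne
      apply Units.ext
      rw [tv_val h0, tmat, Units.val_one, add_eq_left]
      ext p q
      rw [Matrix.vecMulVec_apply, Matrix.zero_apply, hc]
    obtain ⟨p, q, hpq⟩ := hne'
    have hd : ∀ r, v r ≠ 0 → ¬ (φ (Pi.single r 1) ≠ 0) := fun r h1 h2 => mul_ne_zero h1 h2 (hz r)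
    refine O.false_of_elem κ (p := p) (q := q) (fun e => hpq (e ▸ hz q)) ?_
    exact exists_entry κ O (S := fun r => v r ≠ 0) (T := fun r => φ (Pi.single r 1) ≠ 0) hd
      (tvMat_mem κ h0 (fun _ h => h) (fun _ h => h) hm) (by rw [Matrix.vecMulVec_apply]; exact hpq)
  set τ : I9 → F := fun p => v p * φ (Pi.single p 1) with hτ
  have hsum : ∀ x : I9 → F, φ x = ∑ p, x p * φ (Pi.single p 1) := fun x => by
    conv_lhs => rw [pi_eq_sum_univ' x, map_sum]
    simp
  by_cases hz : ∀ p, τ p = 0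
  · exact hdis v φ h0 hm hne hz
  push Not at hz
  -- a line with non-zero sum
  obtain ⟨P, hP, hc⟩ : ∃ P : I9 → Prop, ∃ _ : DecidablePred P, (dgl fun p => if P p then κ.w else 1) ∈ H ∧
      (∑ p, if P p then τ p else 0) ≠ 0 := by
    by_contra hcon
    push Not at hcon
    obtain ⟨hh, hh', hq, hq', hd1, hd2⟩ := base_gens κ
    have hk : ∀ k, (dgl fun p : I9 => if p.1 = k then κ.w else 1) ∈ H := fun k => by
      convert O.base (hh k) using 1
      apply Units.ext
      ext p q
      rw [kr_val]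
      obtain ⟨i, j⟩ := p
      obtain ⟨i', j'⟩ := q
      simp only [gh, dgl, Units.val_one, Matrix.diagonal_apply, Matrix.one_apply, Prod.mk.injEq]
      by_cases hi : i = i' <;> by_cases hj : j = j' <;> simp [hi, hj]
    have hk' : ∀ k, (dgl fun p : I9 => if p.2 = k then κ.w else 1) ∈ H := fun k => by
      convert O.base (hh' k) using 1
      apply Units.ext
      ext p q
      rw [kr_val]
      obtain ⟨i, j⟩ := p
      obtain ⟨i', j'⟩ := q
      simp only [gh, dgl, Units.val_one, Matrix.diagonal_apply, Matrix.one_apply, Prod.mk.injEq]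
      by_cases hi : i = i' <;> by_cases hj : j = j' <;> simp [hi, hj]
    have hX : kr (gX : GL (Fin 3) F) 1 ∈ H :=
      O.base (R9_le_base κ (mem_R9_gens κ).1)
    have shift : ∀ d : I9 → Fˣ, dgl d ∈ H → (dgl fun p => d (p.1 - 1, p.2)) ∈ H := fun d hd => by
      convert mul_mem (mul_mem hX hd) (inv_mem hX) using 1
      rw [eq_mul_inv_iff_mul_eq]
      apply Units.ext
      ext p q
      simp only [Units.val_mul]
      show (Matrix.diagonal (fun p : I9 => (d (p.1 - 1, p.2) : F)) *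
        ((kr (gX : GL (Fin 3) F) 1 : GL I9 F) : Matrix I9 I9 F)) p q =
        (((kr (gX : GL (Fin 3) F) 1 : GL I9 F) : Matrix I9 I9 F) * Matrix.diagonal (fun i => (d i : F))) p q
      rw [Matrix.diagonal_mul, Matrix.mul_diagonal, kr_val]
      obtain ⟨i, j⟩ := p
      obtain ⟨i', j'⟩ := q
      simp only [gX, Units.val_one, Matrix.of_apply, Matrix.one_apply]
      by_cases hi : i = i' + 1 <;> by_cases hj : j = j' <;> simp [hi, hj, mul_comm]
    have e1 : (dgl fun p : I9 => if p.1 + p.2 = 1 then κ.w else 1) ∈ H := by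
      convert shift _ (O.base hd1) using 2
      funext ⟨i, k⟩; fin_cases i <;> fin_cases k <;> rfl
    have e2 : (dgl fun p : I9 => if p.1 + p.2 = 2 then κ.w else 1) ∈ H := by
      convert shift _ e1 using 2
      funext ⟨i, k⟩; fin_cases i <;> fin_cases k <;> rfl
    have f1 : (dgl fun p : I9 => if p.1 = p.2 + 1 then κ.w else 1) ∈ H := by
      convert shift _ (O.base hd2) using 2
      funext ⟨i, k⟩; fin_cases i <;> fin_cases k <;> rfl
    have f2 : (dgl fun p : I9 => if p.1 = p.2 + 2 then κ.w else 1) ∈ H := by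
      convert shift _ f1 using 2
      funext ⟨i, k⟩; fin_cases i <;> fin_cases k <;> rfl
    have l1 := fun k => hcon (fun p => p.1 = k) inferInstance (hk k)
    have l2 := fun k => hcon (fun p => p.2 = k) inferInstance (hk' k)
    have l3 := hcon (fun p => p.1 + p.2 = 0) inferInstance (O.base hd1)
    have l4 := hcon (fun p => p.1 + p.2 = 1) inferInstance e1
    have l5 := hcon (fun p => p.1 + p.2 = 2) inferInstance e2
    have l6 := hcon (fun p => p.1 = p.2) inferInstance (O.base hd2)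
    have l7 := hcon (fun p => p.1 = p.2 + 1) inferInstance f1
    have l8 := hcon (fun p => p.1 = p.2 + 2) inferInstance f2
    have r0 := l1 0; have r1 := l1 1; have r2 := l1 2
    have c0 := l2 0; have c1 := l2 1; have c2 := l2 2
    simp [Fintype.sum_prod_type, Fin.sum_univ_three] at r0 r1 r2 c0 c1 c2 l3 l4 l5 l6 l7 l8
    have h3 := κ.three
    obtain ⟨⟨i, k⟩, hp⟩ := hz
    apply hp
    fin_cases i <;> fin_cases k <;> simp <;> refine mul_left_cancel₀ h3 ?_ <;> grind
  obtain ⟨hdec, hPH, hcne⟩ := hP, hc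
  set h := dgl fun p => if P p then κ.w else 1 with hh
  set a : I9 → F := fun p => if P p then v p else 0 with ha
  set b : I9 → F := fun p => if P p then 0 else v p with hb
  set c := φ a with hcdef
  have hc0 : c ≠ 0 := by
    rw [hcdef, hsum]
    intro e
    apply hcne
    refine (Finset.sum_congr rfl fun p _ => ?_).trans e
    simp [ha, hτ, ite_mul]
  set prj : (I9 → F) →ₗ[F] (I9 → F) :=
    { toFun := fun x p => if P p then x p else 0
      map_add' := fun x y => by funext p; by_cases hp : P p <;> simp [hp]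
      map_smul' := fun t x => by funext p; by_cases hp : P p <;> simp [hp] } with hprj
  set α := c⁻¹ • (φ ∘ₗ prj) with hα
  set β := (-c)⁻¹ • (φ - φ ∘ₗ prj) with hβ
  have hab : a + b = v := by funext p; by_cases hp : P p <;> simp [ha, hb, hp]
  have hb' : φ b = -c := by
    rw [show b = v - a by rw [← hab]; abel, map_sub, h0, zero_sub, hcdef]
  have pa : prj a = a := by funext p; by_cases hp : P p <;> simp [hprj, ha, hp]
  have pb : prj b = 0 := by funext p; by_cases hp : P p <;> simp [hprj, hb, hp]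
  have hd2 : ∀ i j, (![α, β] : Fin 2 → _) i ((![a, b] : Fin 2 → _) j) = if i = j then 1 else 0 := by
    intro i j
    fin_cases i <;> fin_cases j <;> simp [hα, hβ, pa, pb, hb', ← hcdef, hc0]
  set E := emb ![a, b] ![α, β] hd2 with hE
  set L := H.comap E with hL
  have hφ : ∀ x, φ x = c * α x - c * β x := fun x => by
    simp [hα, hβ]; field_simp; ring
  let Gm : GL (Fin 2) F := GeneralLinearGroup.mkOfDetNeZero !![1, κ.ω; 1, 1]
    (by rw [Matrix.det_fin_two_of]; exact fun e => κ.ω_ne_one (by linear_combination -e))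
  let Mx : GL (Fin 2) F := GeneralLinearGroup.mkOfDetNeZero !![1 + c, -c; c, 1 - c]
    (by rw [Matrix.det_fin_two_of]; ring_nf; exact one_ne_zero)
  let My : GL (Fin 2) F := GeneralLinearGroup.mkOfDetNeZero !![1 + c, -(c * κ.ω); c * κ.ω ^ 2, 1 - c]
    (by
      rw [Matrix.det_fin_two_of, show (1 + c) * (1 - c) - -(c * κ.ω) * (c * κ.ω ^ 2) = 1 by
        linear_combination c ^ 2 * κ.cube]
      exact one_ne_zero)
  have eMx : Gm * elem 0 1 (-(c * (1 - κ.ω))) * Gm⁻¹ = Mx := by
    rw [mul_inv_eq_iff_eq_mul]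
    apply Units.ext
    rw [Units.val_mul, Units.val_mul, elem_val (by decide)]
    ext i j
    fin_cases i <;> fin_cases j <;>
      simp [Gm, Mx, Matrix.transvection, Matrix.mul_apply, Fin.sum_univ_two] <;> ring
  have eMy : Gm * elem 1 0 (c * κ.ω ^ 2 * (1 - κ.ω)) * Gm⁻¹ = My := by
    rw [mul_inv_eq_iff_eq_mul]
    apply Units.ext
    rw [Units.val_mul, Units.val_mul, elem_val (by decide)]
    have hω := κ.cube
    ext i j
    fin_cases i <;> fin_cases j <;>
      simp [Gm, My, Matrix.transvection, Matrix.mul_apply, Fin.sum_univ_two] <;> grind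
  have ex : E (Gm * elem 0 1 (-(c * (1 - κ.ω))) * Gm⁻¹) = tv v φ := by
    rw [eMx]
    refine gl_ext fun x => ?_
    rw [hE, emb_apply, tv_apply h0, hφ, ← hab]
    simp [Mx, Fin.sum_univ_two]
    module
  have ey : E (Gm * elem 1 0 (c * κ.ω ^ 2 * (1 - κ.ω)) * Gm⁻¹) = h * tv v φ * h⁻¹ := by
    rw [eMy]
    refine gl_ext fun x => ?_
    rw [hE, emb_apply, tv_conj h0, tv_apply (by
        simp only [LinearMap.comp_apply, LinearEquiv.coe_coe, app_inv_app, h0])]
    have e1 : app h v = κ.ω • a + b := by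
      funext p
      rw [hh, app_dgl]
      by_cases hp : P p <;> simp [ha, hb, hp, Fld.w_val]
    have e2 : app h⁻¹ x = x + (κ.ω ^ 2 - 1) • prj x := by
      apply (app h).injective
      rw [app_app_inv]
      funext p
      rw [hh, app_dgl]
      by_cases hp : P p <;> simp [hprj, hp, Fld.w_val] <;> linear_combination -(x p) * κ.cube
    have e3 : φ (prj x) = c * α x := by simp [hα]; field_simp
    rw [e1]
    simp only [LinearMap.comp_apply, LinearEquiv.coe_coe, e2, map_add, map_smul, smul_eq_mul]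
    rw [e3, hφ]
    simp [My, Fin.sum_univ_two]
    match_scalars <;> first | ring1 | linear_combination (c * α x) * κ.cube | linear_combination -(c * α x) * κ.cube
  have hs01 : -(c * (1 - κ.ω)) ≠ 0 :=
    neg_ne_zero.2 (mul_ne_zero hc0 (sub_ne_zero.2 κ.ω_ne_one.symm))
  have hs10 : c * κ.ω ^ 2 * (1 - κ.ω) ≠ 0 :=
    mul_ne_zero (mul_ne_zero hc0 (pow_ne_zero _ κ.ω_ne)) (sub_ne_zero.2 κ.ω_ne_one.symm)
  set L' := L.comap (MulAut.conj Gm).toMonoidHom with hL'
  have g01 : elem 0 1 (-(c * (1 - κ.ω))) ∈ L' := by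
    show E (Gm * _ * Gm⁻¹) ∈ H
    rw [ex]; exact hm
  have g10 : elem 1 0 (c * κ.ω ^ 2 * (1 - κ.ω)) ∈ L' := by
    show E (Gm * _ * Gm⁻¹) ∈ H
    rw [ey]; exact mul_mem (mul_mem hPH hm) (inv_mem hPH)
  have all : ∀ (i j : Fin 2) (s : F), i ≠ j → s ≠ 0 → elem i j s ∈ L' → ∀ t, elem i j t ∈ L' := by
    intro i j s hij hs hel t
    have h0' : (s • LinearMap.proj j : (Fin 2 → F) →ₗ[F] F) (Pi.single i 1) = 0 := by
      simp [hij.symm]
    have := (mem_axes_of_tv κ h0' hel).2 (t / s)
    rwa [smul_smul, div_mul_cancel₀ _ hs] at this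
  have hsl := sl_le_of_elem L' (fun i j hij t => by
    fin_cases i <;> fin_cases j
    · exact absurd rfl hij
    · exact all 0 1 _ (by decide) hs01 g01 t
    · exact all 1 0 _ (by decide) hs10 g10 t
    · exact absurd rfl hij)
  have hn : elem (0 : Fin 2) 1 (1 : F) ∈ L := by
    have hz : Gm⁻¹ * elem 0 1 1 * Gm ∈ Cfsg.Geo.specialLinear (Fin 2) F := by
      rw [mem_sl_iff, Units.val_mul, Units.val_mul, Matrix.det_mul, Matrix.det_mul]
      have h1 : ((Gm⁻¹ : GL (Fin 2) F) : Matrix (Fin 2) (Fin 2) F).det *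
          (Gm : Matrix (Fin 2) (Fin 2) F).det = 1 := by
        rw [← Matrix.det_mul, ← Units.val_mul, inv_mul_cancel, Units.val_one, Matrix.det_one]
      rw [elem_val (by decide), Matrix.det_transvection_of_ne _ _ (by decide), mul_one, h1]
    have := hsl hz
    rw [hL', Subgroup.mem_comap, MulEquiv.coe_toMonoidHom, MulAut.conj_apply] at this
    simpa [mul_assoc] using this
  have h01 : β a = 0 := hd2 1 0
  have he : E (elem 0 1 1) = tv a β := by
    refine gl_ext fun x => ?_
    rw [hE, emb_apply, tv_apply h01, elem_val (by decide)]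
    simp [Fin.sum_univ_two, Matrix.transvection]
  refine hdis a β h01 (he ▸ hn) (fun e => ?_) (fun p => ?_)
  · have h2 := (tv_eq_one_iff h01).1 e b
    rw [show β b = 1 from hd2 1 1, one_smul] at h2
    rw [hcdef, h2, map_zero] at hc0
    exact hc0 rfl
  · by_cases hp : P p
    · have : prj (Pi.single p 1) = Pi.single p 1 := by
        funext q
        by_cases hq : q = p
        · subst hq; simp [hprj, hp]
        · simp [hprj, hq]
      simp [hβ, this]
    · simp [ha, hp]

end Cfsg.Agent.C6Three
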