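/-
The centraliser of 1 ⊗ Z acts on each block without transvections.
Main results: `bl`, `Ablk`, `Ablk_noTv`, `std_tri`, `Twelve`, `twelve_map`.
-/
import Cfsg.Agent.Lib.C6Three.Tv9

set_option autoImplicit false
set_option linter.unusedSectionVars false
set_option linter.unusedSimpArgs false

namespace Cfsg.Agent.C6Three

open Matrix Cfsg.Agent.Transvect
open scoped Matrix Kronecker commutatorElement

variable {F : Type*} [Field F] [Fintype F] (κ : Fld F)

/-- The standard basis vectors. -/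
def se {n : Type} [Fintype n] [DecidableEq n] (i : n) : n → F := Pi.single i 1

/-- The standard dual vectors. -/
def sf {n : Type} [Fintype n] [DecidableEq n] (i : n) : (n → F) →ₗ[F] F := LinearMap.proj i

theorem std_dual {n : Type} [Fintype n] [DecidableEq n] (i j : n) :
    (sf i : (n → F) →ₗ[F] F) (se j) = if i = j then 1 else 0 := by
  simp [sf, se, Pi.single_apply]

theorem std_vec {n : Type} [Fintype n] [DecidableEq n] (v : n → F) : v = ∑ i, sf i v • se i :=
  pi_eq_sum_univ' v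

theorem std_fun {n : Type} [Fintype n] [DecidableEq n] (φ : (n → F) →ₗ[F] F) (y : n → F) :
    φ y = ∑ i, φ (se i) * sf i y := by
  conv_lhs => rw [std_vec y, map_sum]
  exact Finset.sum_congr rfl fun i _ => by rw [map_smul, smul_eq_mul, mul_comm]

theorem gh_eq_hom (k : Fin 3) : gh κ k = hom κ.ω (se k) (sf k) := by
  refine gl_ext fun x => ?_
  rw [hom_apply (by simp [std_dual]) κ.ω_ne]
  funext i
  rw [gh, app_dgl]
  by_cases hi : i = k
  · subst hi; simp [sf, se, Fld.w_val]; ring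
  · simp [sf, se, hi]

theorem gq_conj_gh : gq κ * gh κ 0 * (gq κ)⁻¹ =
    hom κ.ω (se 0 + se 1 + se 2) ((3 : F)⁻¹ • (sf 0 + sf 1 + sf 2)) := by
  have h3 := κ.three
  have h1 : κ.ω - κ.ω ^ 2 ≠ 0 := by
    rw [show κ.ω - κ.ω ^ 2 = κ.ω * (1 - κ.ω) by ring]
    exact mul_ne_zero κ.ω_ne (sub_ne_zero.2 κ.ω_ne_one.symm)
  have hv : app (gq κ) (se 0) = (κ.ω - κ.ω ^ 2)⁻¹ • (se 0 + se 1 + se 2) := by
    rw [app_apply, se, Matrix.mulVec_single_one]
    funext i
    fin_cases i <;> simp [gq, se]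
  have hd : (sf 0 : (Fin 3 → F) →ₗ[F] F) ∘ₗ (app (gq κ)⁻¹).toLinearMap =
      (κ.ω - κ.ω ^ 2) • ((3 : F)⁻¹ • (sf 0 + sf 1 + sf 2)) := by
    refine LinearMap.ext fun y => ?_
    simp only [LinearMap.comp_apply, LinearEquiv.coe_coe, sf, LinearMap.proj_apply, app_apply,
      LinearMap.smul_apply, LinearMap.add_apply, smul_eq_mul]
    show (((κ.ω ^ 2 - κ.ω)⁻¹ • Matrix.of fun i j : Fin 3 => κ.ω ^ (2 * ((i : ℕ) * j))) *ᵥ y) 0 = _
    simp [Matrix.mulVec, dotProduct, Fin.sum_univ_three]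
    have h2 : κ.ω ^ 2 - κ.ω ≠ 0 := fun e => h1 (by linear_combination -e)
    have hω := κ.cube
    have rel := κ.rel
    field_simp
    grind
  rw [gh_eq_hom, hom_conj (by simp [std_dual]) κ.ω_ne, hv, hd]
  have := hom_smul (a := κ.ω) (u := (se 0 + se 1 + se 2 : Fin 3 → F))
    (φ := (3 : F)⁻¹ • ((sf 0 + sf 1 + sf 2 : (Fin 3 → F) →ₗ[F] F))) (by simp [std_dual]; field_simp; norm_num) κ.ω_ne
    (inv_ne_zero h1)
  rwa [inv_inv] at this

/-- The standard configuration in a group containing the frame homologies and the Fourier matrix. -/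
theorem std_tri {A : Subgroup (GL (Fin 3) F)} (hh : ∀ k, gh κ k ∈ A) (hq : gq κ ∈ A) :
    Tri κ A (se : Fin 3 → _) sf :=
  ⟨std_dual, fun k => gh_eq_hom κ k ▸ hh k,
    gq_conj_gh κ ▸ mul_mem (mul_mem hq (hh 0)) (inv_mem hq)⟩

/-- The standard configuration normalises. -/
theorem std_cfg {B : Subgroup (GL (Fin 3) F)} (hh : ∀ k, Norm B (gh κ k)) (hq : Norm B (gq κ))
    (hq' : Norm B (gq κ)⁻¹) : Cfg3 κ B (se : Fin 3 → _) sf := by
  refine ⟨std_dual, fun k => gh_eq_hom κ k ▸ hh k, gq_conj_gh κ ▸ fun b hb => ?_⟩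
  have := hq _ (hh 0 _ (hq' b hb))
  simpa [mul_assoc] using this

/-- A normalised subgroup with a transvection contains every elementary transvection. -/
theorem std_spread {B : Subgroup (GL (Fin 3) F)} (hh : ∀ k, Norm B (gh κ k)) (hq : Norm B (gq κ))
    (hq' : Norm B (gq κ)⁻¹) {v : Fin 3 → F} {φ : (Fin 3 → F) →ₗ[F] F} (h0 : φ v = 0)
    (hne : tv v φ ≠ 1) (hm : tv v φ ∈ B) (i j : Fin 3) (hij : i ≠ j) (c : F) : elem i j c ∈ B :=
  ((std_cfg κ hh hq hq').roots κ (std_vec v) (std_fun φ) h0 hne hm i j hij).2 c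

/-- One of the twelve projections. -/
def Twelve (u : Fin 3 → F) (φ : (Fin 3 → F) →ₗ[F] F) : Prop :=
  (∃ i, Same u φ (se i) (sf i)) ∨ ∃ s t, Same u φ (pV κ se s t) (pD κ sf s t)

/-- A group without transvections permutes the twelve points. -/
theorem twelve_map {A : Subgroup (GL (Fin 3) F)} (hA : NoTv A) (hh : ∀ k, gh κ k ∈ A)
    (hq : gq κ ∈ A) {g : GL (Fin 3) F} (hg : g ∈ A) {u : Fin 3 → F}
    {φ : (Fin 3 → F) →ₗ[F] F} (h1 : φ u = 1) (hm : hom κ.ω u φ ∈ A) :
    Twelve κ (app g u) (φ ∘ₗ (app g⁻¹).toLinearMap) := by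
  refine hessian κ hA (std_tri κ hh hq) (std_vec _) (std_fun _) ?_ ?_
  · simp only [LinearMap.comp_apply, LinearEquiv.coe_coe, app_inv_app, h1]
  · rw [← hom_conj h1 κ.ω_ne]; exact mul_mem (mul_mem hg hm) (inv_mem hg)

/-- The elements of H commuting with 1 ⊗ Z. -/
def CB (H : Subgroup (GL I9 F)) : Subgroup (GL I9 F) :=
  H ⊓ Subgroup.centralizer {kr 1 (gZ κ)}

theorem CB_off {H : Subgroup (GL I9 F)} {g : GL I9 F} (hg : g ∈ CB κ H) {i j k l : Fin 3}
    (hkl : k ≠ l) : (g : Matrix I9 I9 F) (i, k) (j, l) = 0 := by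
  have h := congrArg Units.val (Subgroup.mem_centralizer_singleton_iff.1 hg.2)
  have hv : (kr 1 (gZ κ) : Matrix I9 I9 F) = Matrix.diagonal fun p => κ.ω ^ (p.2 : ℕ) := by
    ext ⟨a, b⟩ ⟨c, d⟩
    rw [kr_val]
    simp only [gZ, dgl, Units.val_one, Matrix.diagonal_apply, Matrix.one_apply, Prod.mk.injEq]
    by_cases ha : a = c <;> by_cases hb : b = d <;> simp [ha, hb, Fld.w_val]
  rw [Units.val_mul, Units.val_mul, hv] at h
  have h2 := congrFun (congrFun h (i, k)) (j, l)
  rw [Matrix.diagonal_mul, Matrix.mul_diagonal] at h2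
  have hne : κ.ω ^ (k : ℕ) ≠ κ.ω ^ (l : ℕ) := by
    have h1 := κ.ω_ne_one
    have h2 := κ.sq_ne_one
    have rel := κ.rel
    fin_cases k <;> fin_cases l <;> simp at * <;> grind
  have h3 : (κ.ω ^ (k : ℕ) - κ.ω ^ (l : ℕ)) * (g : Matrix I9 I9 F) (i, k) (j, l) = 0 := by
    simp only [mul_comm] at h2
    first
    | linear_combination h2
    | linear_combination -h2
  first
  | exact (mul_eq_zero.1 h3).resolve_left (sub_ne_zero.2 hne)
  | exact (mul_eq_zero.1 h3).resolve_left (sub_ne_zero.2 hne.symm)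

/-- The action on the k-th block. -/
def bl (H : Subgroup (GL I9 F)) (k : Fin 3) : CB κ H →* GL (Fin 3) F :=
  MonoidHom.toHomUnits
    { toFun := fun g => Matrix.of fun i j => (g.1 : Matrix I9 I9 F) (i, k) (j, k)
      map_one' := by ext i j; simp [Matrix.one_apply]
      map_mul' := fun g h => by
        ext i j
        simp only [Subgroup.coe_mul, Units.val_mul, Matrix.of_apply, Matrix.mul_apply,
          Fintype.sum_prod_type]
        refine Finset.sum_congr rfl fun a _ => ?_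
        rw [Finset.sum_eq_single k (fun b _ hb => by rw [CB_off κ g.2 hb.symm, zero_mul])
          (fun h => absurd (Finset.mem_univ k) h)] }

theorem bl_val (H : Subgroup (GL I9 F)) (k : Fin 3) (g : CB κ H) (i j : Fin 3) :
    (bl κ H k g : Matrix (Fin 3) (Fin 3) F) i j = (g.1 : Matrix I9 I9 F) (i, k) (j, k) := rfl

/-- The image on the k-th block. -/
def Ablk (H : Subgroup (GL I9 F)) (k : Fin 3) : Subgroup (GL (Fin 3) F) := (bl κ H k).range

theorem krL_mem_CB {H : Subgroup (GL I9 F)} {A : GL (Fin 3) F} (h : kr A 1 ∈ H) :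
    kr A 1 ∈ CB κ H :=
  ⟨h, Subgroup.mem_centralizer_singleton_iff.2 (by rw [kr_mul, kr_mul, one_mul, mul_one, one_mul, mul_one])⟩

theorem bl_krL {H : Subgroup (GL I9 F)} {A : GL (Fin 3) F} (h : kr A 1 ∈ CB κ H) (k : Fin 3) :
    bl κ H k ⟨kr A 1, h⟩ = A := by
  apply Units.ext; ext i j; simp [bl_val, kr_val]

theorem Ablk_gens {H : Subgroup (GL I9 F)} (O : Ovr κ H) (k : Fin 3) :
    (∀ j, gh κ j ∈ Ablk κ H k) ∧ gq κ ∈ Ablk κ H k := by
  obtain ⟨hh, -, hq, -, -, -⟩ := base_gens κ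
  exact ⟨fun j => ⟨⟨_, krL_mem_CB κ (O.base (hh j))⟩, bl_krL κ _ k⟩,
    ⟨⟨_, krL_mem_CB κ (O.base hq)⟩, bl_krL κ _ k⟩⟩

/-- The blocks contain no transvection. -/
theorem Ablk_noTv {H : Subgroup (GL I9 F)} (O : Ovr κ H) (k : Fin 3) : NoTv (Ablk κ H k) := by
  classical
  intro v φ h0 hm
  by_contra hne
  obtain ⟨-, hh', -, -, hd1, -⟩ := base_gens κ
  obtain ⟨hh, -, -, -, -, -⟩ := base_gens κ
  obtain ⟨-, -, hX', -⟩ := mem_R9_gens κ
  have hXH : kr (1 : GL (Fin 3) F) gX ∈ H := O.base (R9_le_base κ hX')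
  -- shifting the blocks
  have shift : ∀ g : CB κ H, ∃ g' : CB κ H, ∀ m, bl κ H (m + 1) g' = bl κ H m g := fun g => by
    set x := kr (1 : GL (Fin 3) F) gX with hx
    have hval : ∀ i j a b, ((x * g.1 * x⁻¹ : GL I9 F) : Matrix I9 I9 F) (i, a + 1) (j, b + 1) =
        (g.1 : Matrix I9 I9 F) (i, a) (j, b) := by
      intro i j a b
      rw [Units.val_mul, Units.val_mul, Matrix.mul_apply]
      rw [Finset.sum_eq_single (j, b)]
      · rw [Matrix.mul_apply, Finset.sum_eq_single (i, a)]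
        · simp [hx, kr, gX, Matrix.kroneckerMap_apply]
        · rintro ⟨c, d⟩ - hne
          simp only [hx, kr, gX, Matrix.kroneckerMap_apply, Units.val_one, Matrix.one_apply,
            Matrix.of_apply]
          by_cases hc : i = c <;> by_cases hd : a = d <;> simp_all
        · simp
      · rintro ⟨c, d⟩ - hne
        simp only [hx, kr, gX, Matrix.kroneckerMap_apply, inv_one, Units.val_one, Matrix.one_apply,
          Units.inv_mk, Matrix.of_apply]
        by_cases hc : c = j <;> by_cases hd : b = d <;> simp_all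
      · simp
    have hmem : x * g.1 * x⁻¹ ∈ CB κ H := by
      refine Subgroup.mem_inf.2 ⟨mul_mem (mul_mem hXH (Subgroup.mem_inf.1 g.2).1) (inv_mem hXH),
        Subgroup.mem_centralizer_singleton_iff.2 ?_⟩
      apply Units.ext
      have hv : (kr 1 (gZ κ) : Matrix I9 I9 F) = Matrix.diagonal fun p => κ.ω ^ (p.2 : ℕ) := by
        ext ⟨a, b⟩ ⟨c, d⟩
        rw [kr_val]
        simp only [gZ, dgl, Units.val_one, Matrix.diagonal_apply, Matrix.one_apply, Prod.mk.injEq]
        by_cases ha : a = c <;> by_cases hb : b = d <;> simp [ha, hb, Fld.w_val]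
      rw [Units.val_mul _ (kr 1 (gZ κ)), Units.val_mul (kr 1 (gZ κ)), hv]
      ext ⟨i, a⟩ ⟨j, b⟩
      rw [Matrix.mul_diagonal, Matrix.diagonal_mul]
      obtain ⟨a', rfl⟩ : ∃ a', a = a' + 1 := ⟨a - 1, by simp⟩
      obtain ⟨b', rfl⟩ : ∃ b', b = b' + 1 := ⟨b - 1, by simp⟩
      rw [hval]
      by_cases hab : a' = b'
      · subst hab; ring
      · rw [CB_off κ g.2 hab]; ring
    exact ⟨⟨_, hmem⟩, fun m => Units.ext (by ext i j; rw [bl_val, bl_val]; exact hval i j m m)⟩
  -- every block contains every elementary transvection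
  have all : ∀ (m : Fin 3) (i j : Fin 3), i ≠ j → ∀ c, elem i j c ∈ Ablk κ H m := by
    obtain ⟨g, hg⟩ := hm
    obtain ⟨g1, hg1⟩ := shift g
    obtain ⟨g2, hg2⟩ := shift g1
    intro m
    have hmem : ∀ m, tv v φ ∈ Ablk κ H m := fun m => by
      obtain rfl | rfl | rfl : m = k ∨ m = k + 1 ∨ m = k + 1 + 1 := by
        have key : ∀ m k : Fin 3, m = k ∨ m = k + 1 ∨ m = k + 1 + 1 := by decide
        exact key m k
      · exact ⟨g, hg⟩
      · exact ⟨g1, (hg1 _).trans hg⟩
      · exact ⟨g2, (hg2 _).trans ((hg1 _).trans hg)⟩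
    obtain ⟨gh', gq'⟩ := Ablk_gens κ O m
    exact std_spread κ (fun j b hb => mul_mem (mul_mem (gh' j) hb) (inv_mem (gh' j)))
      (fun b hb => mul_mem (mul_mem gq' hb) (inv_mem gq'))
      (fun b hb => mul_mem (mul_mem (inv_mem gq') hb) (inv_mem (inv_mem gq'))) h0 hne (hmem m)
  -- elements trivial on the block 0
  have hS : gD1 κ * (kr (gh κ 0) 1)⁻¹ ∈ H := mul_mem (O.base hd1) (inv_mem (O.base (hh 0)))
  set d : I9 → Fˣ := fun p => (if p.1 + p.2 = 0 then κ.w else 1) * (if p.1 = 0 then κ.w else 1)⁻¹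
    with hd
  have hSeq : gD1 κ * (kr (gh κ 0) 1)⁻¹ = dgl d := by
    have e : kr (gh κ 0) 1 = dgl fun p : I9 => if p.1 = 0 then κ.w else 1 := by
      apply Units.ext
      ext ⟨i, j⟩ ⟨i', j'⟩
      rw [kr_val]
      simp only [gh, dgl, Units.val_one, Matrix.diagonal_apply, Matrix.one_apply, Prod.mk.injEq]
      by_cases hi : i = i' <;> by_cases hj : j = j' <;> simp [hi, hj]
    rw [e, gD1, dgl_inv, dgl_mul]; rfl
  have hSC : dgl d ∈ CB κ H := by
    refine ⟨hSeq ▸ hS, Subgroup.mem_centralizer_singleton_iff.2 ?_⟩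
    rw [show kr (1 : GL (Fin 3) F) (gZ κ) = dgl fun p : I9 => κ.w ^ (p.2 : ℕ) by
      apply Units.ext
      ext ⟨a, b⟩ ⟨c, e⟩
      rw [kr_val]
      simp only [gZ, dgl, Units.val_one, Matrix.diagonal_apply, Matrix.one_apply, Prod.mk.injEq]
      by_cases ha : a = c <;> by_cases hb : b = e <;> simp [ha, hb],
      dgl_mul, dgl_mul, mul_comm]
  set S : CB κ H := ⟨dgl d, hSC⟩ with hSdef
  have blS : ∀ m, bl κ H m S = dgl fun i => d (i, m) := fun m => by
    apply Units.ext; ext i j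
    rw [bl_val]
    simp only [hSdef, dgl, Matrix.diagonal_apply, Prod.mk.injEq, and_true]
  have low : ∀ m : Fin 3, m ≠ 0 → ∀ i j : Fin 3, i ≠ j → ∀ c, ∃ u : CB κ H,
      bl κ H 0 u = 1 ∧ bl κ H m u = elem i j c := by
    intro m hm0
    set B := ((bl κ H 0).ker).map (bl κ H m) with hB
    have hN : ∀ a ∈ Ablk κ H m, Norm B a := by
      rintro a ⟨x, rfl⟩ b ⟨y, hy, rfl⟩
      refine ⟨x * y * x⁻¹, ?_, by simp⟩
      exact (MonoidHom.normal_ker _).conj_mem y hy x
    obtain ⟨g, hg⟩ := all m 0 1 (by decide) 1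
    set t : F := ((d (0, m) : F) * ((d (1, m))⁻¹ : Fˣ)) - 1 with ht
    have ht0 : t ≠ 0 := by
      have h1 := κ.ω_ne_one
      have h2 := κ.sq_ne_one
      have hω := κ.cube
      rw [ht, hd, sub_ne_zero]
      fin_cases m <;> first | exact absurd rfl hm0 | (simp [Fld.w_val, κ.inv]; grind)
    have e1 : bl κ H m ⁅S, g⁆ = elem 0 1 t := by
      rw [map_commutatorElement, hg, blS, commutatorElement_def, mul_inv_eq_iff_eq_mul, dgl_inv]
      apply Units.ext
      rw [Units.val_mul, Units.val_mul, Units.val_mul, elem_val (by decide), elem_val (by decide)]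
      ext i j
      fin_cases i <;> fin_cases j <;>
        simp [dgl, Matrix.transvection, Matrix.mul_apply, Fin.sum_univ_three, ht] <;> ring
    have e0 : bl κ H 0 ⁅S, g⁆ = 1 := by
      rw [map_commutatorElement, show bl κ H 0 S = 1 by
        rw [blS]
        rw [show (fun i : Fin 3 => d (i, 0)) = 1 by funext i; fin_cases i <;> simp [hd]]
        exact dgl_one, commutatorElement_one_left]
    have h01 : (t • LinearMap.proj 1 : (Fin 3 → F) →ₗ[F] F) (Pi.single 0 1) = 0 := by simp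
    obtain ⟨gh', gq'⟩ := Ablk_gens κ O m
    intro i j hij c
    obtain ⟨u, hu, hu'⟩ := std_spread κ (B := B) (fun j => hN _ (gh' j)) (hN _ gq')
      (hN _ (inv_mem gq')) h01 (fun e => by
        have := (tv_eq_one_iff h01).1 e (Pi.single 1 1)
        simp [ht0] at this) ⟨⁅S, g⁆, MonoidHom.mem_ker.2 e0, e1⟩ i j hij c
    exact ⟨u, MonoidHom.mem_ker.1 hu, hu'⟩
  obtain ⟨u, hu0, hu2⟩ := low 2 (by decide) 0 1 (by decide) 1
  obtain ⟨w, hw0, hw1⟩ := low 1 (by decide) 1 2 (by decide) 1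
  obtain ⟨w', hw'⟩ := shift w
  have c0 : bl κ H 0 ⁅u, w'⁆ = 1 := by rw [map_commutatorElement, hu0, commutatorElement_one_left]
  have c1 : bl κ H 1 ⁅u, w'⁆ = 1 := by
    rw [map_commutatorElement, show bl κ H 1 w' = 1 from (hw' 0).trans hw0, commutatorElement_one_right]
  have c2 : bl κ H 2 ⁅u, w'⁆ = elem 0 2 1 := by
    rw [map_commutatorElement, hu2, show bl κ H 2 w' = elem 1 2 1 from (hw' 1).trans hw1,
      commutatorElement_def, mul_inv_eq_iff_eq_mul, mul_inv_eq_iff_eq_mul]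
    apply Units.ext
    rw [Units.val_mul, Units.val_mul, Units.val_mul, elem_val (by decide), elem_val (by decide),
      elem_val (by decide)]
    ext i j
    fin_cases i <;> fin_cases j <;>
      simp [Matrix.transvection, Matrix.mul_apply, Fin.sum_univ_three]
  set n : CB κ H := ⁅u, w'⁆ with hn
  have hnv : n.1 = elem ((0, 2) : I9) (2, 2) (1 : F) := by
    apply Units.ext
    rw [elem_val (by decide)]
    ext ⟨i, a⟩ ⟨j, b⟩
    by_cases hab : a = b
    · subst hab
      rw [← bl_val κ H a n i j]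
      fin_cases a
      · rw [show bl κ H ((fun i => i) ⟨0, by norm_num⟩) n = 1 from c0]
        simp [Matrix.transvection, Matrix.one_apply, Matrix.single_apply]
      · rw [show bl κ H ((fun i => i) ⟨1, by norm_num⟩) n = 1 from c1]
        simp [Matrix.transvection, Matrix.one_apply, Matrix.single_apply]
      · rw [show bl κ H ((fun i => i) ⟨2, by norm_num⟩) n = elem 0 2 1 from c2, elem_val (by decide)]
        simp [Matrix.transvection, Matrix.one_apply, Matrix.single_apply]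
    · rw [CB_off κ n.2 hab]
      simp [Matrix.transvection, Matrix.one_apply, hab, Matrix.single_apply]
      grind
  have h0' : ((1 : F) • LinearMap.proj ((2, 2) : I9) : (I9 → F) →ₗ[F] F)
      (Pi.single ((0, 2) : I9) 1) = 0 := by simp
  have := (tv_eq_one_iff h0').1 (O.noTv κ _ _ h0' (show elem ((0, 2) : I9) (2, 2) (1 : F) ∈ H from
    hnv ▸ n.2.1)) (Pi.single ((2, 2) : I9) 1)
  simp at this

end Cfsg.Agent.C6Three
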