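/-
The involution acting as a reflection on U ⊗ W+ and trivially on U ⊗ W- is outside.
Main results: `gJ`, `Pp`, `Pm`, `pq`, `gR`, `Ovr.biref_not_mem`.
-/
import Cfsg.Agent.Lib.C6Three.Block

set_option autoImplicit false
set_option linter.unusedSectionVars false
set_option linter.unusedSimpArgs false

namespace Cfsg.Agent.C6Three

open Matrix Cfsg.Agent.Transvect
open scoped Matrix Kronecker

variable {F : Type*} [Field F] [Fintype F] (κ : Fld F)

/-- The map i ↦ -i as a permutation matrix. -/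
def gJ : GL (Fin 3) F where
  val := Matrix.of fun i j => if i + j = 0 then 1 else 0
  inv := Matrix.of fun i j => if i + j = 0 then 1 else 0
  val_inv := by ext i j; fin_cases i <;> fin_cases j <;> simp [Matrix.mul_apply, Fin.sum_univ_three]
  inv_val := by ext i j; fin_cases i <;> fin_cases j <;> simp [Matrix.mul_apply, Fin.sum_univ_three]

theorem gJ_sq : (gJ : GL (Fin 3) F) * gJ = 1 := Units.ext (gJ (F := F)).val_inv

theorem gq_sq : ((gq κ * gq κ : GL (Fin 3) F) : Matrix (Fin 3) (Fin 3) F) =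
    -((gJ : GL (Fin 3) F) : Matrix (Fin 3) (Fin 3) F) := by
  have h1 : κ.ω - κ.ω ^ 2 ≠ 0 := by
    rw [show κ.ω - κ.ω ^ 2 = κ.ω * (1 - κ.ω) by ring]
    exact mul_ne_zero κ.ω_ne (sub_ne_zero.2 κ.ω_ne_one.symm)
  have hω := κ.cube
  have rel := κ.rel
  rw [Units.val_mul]
  ext i j
  fin_cases i <;> fin_cases j <;> simp [gq, gJ, Matrix.mul_apply, Fin.sum_univ_three] <;>
    field_simp <;> grind

theorem kr_gJ_mem_base : kr gJ (1 : GL (Fin 3) F) ∈ Base κ ∧ kr (1 : GL (Fin 3) F) gJ ∈ Base κ := by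
  obtain ⟨-, -, hq, hq', -, -⟩ := base_gens κ
  let m : GL I9 F := dgl fun _ => -1
  have hm : m ∈ Base κ := Subgroup.mem_sup_right ((Cfsg.Geo.mem_scalars_iff m).2
    ⟨-1, by rw [Units.val_neg, Units.val_one, Matrix.smul_one_eq_diagonal]; simp [m, dgl]⟩)
  have hv : ((m : GL I9 F) : Matrix I9 I9 F) = -1 := by simp [m, dgl, ← Matrix.diagonal_neg]
  constructor
  · convert mul_mem hm (mul_mem hq hq) using 1
    apply Units.ext
    rw [kr_mul, one_mul, Units.val_mul, hv, neg_one_mul]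
    show _ = -(((gq κ * gq κ : GL (Fin 3) F) : Matrix (Fin 3) (Fin 3) F) ⊗ₖ
      ((1 : GL (Fin 3) F) : Matrix (Fin 3) (Fin 3) F))
    rw [gq_sq]
    ext ⟨i, k⟩ ⟨j, l⟩
    simp [kr_val, Matrix.kroneckerMap_apply]
  · convert mul_mem hm (mul_mem hq' hq') using 1
    apply Units.ext
    rw [kr_mul, one_mul, Units.val_mul, hv, neg_one_mul]
    show _ = -(((1 : GL (Fin 3) F) : Matrix (Fin 3) (Fin 3) F) ⊗ₖ
      ((gq κ * gq κ : GL (Fin 3) F) : Matrix (Fin 3) (Fin 3) F))
    rw [gq_sq]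
    ext ⟨i, k⟩ ⟨j, l⟩
    simp [kr_val, Matrix.kroneckerMap_apply]

/-- The projection on W+. -/
def Pp : Matrix (Fin 3) (Fin 3) F :=
  (2 : F)⁻¹ • (1 + ((gJ : GL (Fin 3) F) : Matrix (Fin 3) (Fin 3) F))

/-- The projection on W-. -/
def Pm : Matrix (Fin 3) (Fin 3) F :=
  (2 : F)⁻¹ • (1 - ((gJ : GL (Fin 3) F) : Matrix (Fin 3) (Fin 3) F))

include κ in
theorem proj_rules : (Pp : Matrix (Fin 3) (Fin 3) F) * Pp = Pp ∧
    (Pm : Matrix (Fin 3) (Fin 3) F) * Pm = Pm ∧ (Pp : Matrix (Fin 3) (Fin 3) F) * Pm = 0 ∧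
      (Pm : Matrix (Fin 3) (Fin 3) F) * Pp = 0 ∧ (Pp : Matrix (Fin 3) (Fin 3) F) + Pm = 1 := by
  have h2 := κ.two
  have e : ((gJ : GL (Fin 3) F) : Matrix (Fin 3) (Fin 3) F) * ((gJ : GL (Fin 3) F) : Matrix (Fin 3) (Fin 3) F) = 1 := by
    rw [← Units.val_mul, gJ_sq, Units.val_one]
  refine ⟨?_, ?_, ?_, ?_, ?_⟩
  all_goals
    simp only [Pp, Pm, smul_add, smul_sub, Matrix.add_mul, Matrix.sub_mul, Matrix.mul_add,
      Matrix.mul_sub, smul_mul_assoc, mul_smul_comm, smul_smul, one_mul, mul_one, e]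
    match_scalars <;> field_simp <;> ring

/-- h ⊗ P+ + h' ⊗ P-. -/
noncomputable def pq : GL (Fin 3) F × GL (Fin 3) F →* GL I9 F :=
  MonoidHom.toHomUnits
    { toFun := fun g => (g.1 : Matrix (Fin 3) (Fin 3) F) ⊗ₖ Pp + (g.2 : Matrix (Fin 3) (Fin 3) F) ⊗ₖ Pm
      map_one' := by
        obtain ⟨-, -, -, -, h⟩ := proj_rules κ
        simp only [Prod.fst_one, Prod.snd_one, Units.val_one]
        rw [← Matrix.kronecker_add, h, Matrix.one_kronecker_one]
      map_mul' := fun g h => by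
        obtain ⟨h1, h2, h3, h4, -⟩ := proj_rules κ
        simp only [Prod.fst_mul, Prod.snd_mul, Units.val_mul, Matrix.add_mul, Matrix.mul_add,
          ← Matrix.mul_kronecker_mul, h1, h2, h3, h4, Matrix.kronecker_zero, add_zero, zero_add] }

theorem pq_val (g : GL (Fin 3) F × GL (Fin 3) F) : (pq κ g : Matrix I9 I9 F) =
    (g.1 : Matrix (Fin 3) (Fin 3) F) ⊗ₖ Pp + (g.2 : Matrix (Fin 3) (Fin 3) F) ⊗ₖ Pm := rfl

theorem pq_diag (h : GL (Fin 3) F) : pq κ (h, h) = kr h 1 := by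
  apply Units.ext
  obtain ⟨-, -, -, -, e⟩ := proj_rules κ
  rw [pq_val, ← Matrix.kronecker_add, e]; rfl

/-- A reflection. -/
def gR : GL (Fin 3) F := dgl fun i => if i = 0 then -1 else 1

/-- The bireflection is outside. -/
theorem Ovr.biref_not_mem {H : Subgroup (GL I9 F)} (O : Ovr κ H) : pq κ (gR, 1) ∉ H := by
  classical
  intro hb
  obtain ⟨hh, hh', hq, -, -, -⟩ := base_gens κ
  obtain ⟨-, -, -, hZ'⟩ := mem_R9_gens κ
  set Q := H.comap (pq κ) with hQ
  set A := Q.map (MonoidHom.fst (GL (Fin 3) F) (GL (Fin 3) F)) with hA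
  have hAh : ∀ k, gh κ k ∈ A := fun k =>
    ⟨(gh κ k, gh κ k), by show pq κ _ ∈ H; rw [pq_diag]; exact O.base (hh k), rfl⟩
  have hAq : gq κ ∈ A := ⟨(gq κ, gq κ), by show pq κ _ ∈ H; rw [pq_diag]; exact O.base hq, rfl⟩
  have hAr : gR ∈ A := ⟨(gR, 1), hb, rfl⟩
  by_cases hnt : NoTv A
  · have h3 := κ.three
    have hu : ((3 : F)⁻¹ • (sf 0 + sf 1 + sf 2 : (Fin 3 → F) →ₗ[F] F)) (se 0 + se 1 + se 2) = 1 := by
      simp [std_dual]; field_simp; norm_num
    have hT := twelve_map κ hnt hAh hAq hAr hu (std_tri κ hAh hAq).ones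
    set u := app gR (se 0 + se 1 + se 2 : Fin 3 → F) with hudef
    have hu0 : ∀ i, u i = if i = 0 then -1 else 1 := fun i => by
      rw [hudef, gR, app_dgl]
      fin_cases i <;> simp [se]
    have hfix : ∀ (v : Fin 3 → F) ψ, Same u (((3 : F)⁻¹ • (sf 0 + sf 1 + sf 2)) ∘ₗ (app gR⁻¹).toLinearMap)
        v ψ → u = ψ u • v := fun v ψ h => by
      rw [← h u, LinearMap.comp_apply, LinearEquiv.coe_coe, hudef, app_inv_app, hu, one_smul]
    rcases hT with ⟨i, h⟩ | ⟨s, t, h⟩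
    · have e := hfix _ _ h
      obtain ⟨j, hj⟩ : ∃ j, j ≠ i := exists_ne i
      have := congrFun e j
      rw [hu0] at this
      simp [se, Pi.single_apply, hj] at this
      split_ifs at this <;> simp at this
    · have e := hfix _ _ h
      have e0 := congrFun e 0
      have e1 := congrFun e 1
      rw [hu0] at e0 e1
      simp [pV, cvec, se, Fin.sum_univ_three, Pi.single_apply] at e0 e1
      have hω : κ.ω ^ (s : ℕ) = -1 := by
        rw [← e0] at e1
        linear_combination e1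
      have : (κ.ω ^ (s : ℕ)) ^ 3 = 1 := by rw [← pow_mul, mul_comm, pow_mul, κ.cube, one_pow]
      rw [hω] at this
      exact κ.two (by linear_combination -this)
  · simp only [NoTv, not_forall] at hnt
    obtain ⟨v, φ, h0, hm, hne⟩ := hnt
    set B0 := H.comap ((pq κ).comp (MonoidHom.inl (GL (Fin 3) F) (GL (Fin 3) F))) with hB0
    have hN : ∀ a ∈ A, Norm B0 a := by
      rintro a ⟨x, hx, rfl⟩ b hb'
      show pq κ (x.1 * b * x.1⁻¹, 1) ∈ H
      have : (x.1 * b * x.1⁻¹, (1 : GL (Fin 3) F)) = x * (b, 1) * x⁻¹ := by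
        ext1 <;> simp
      rw [this, map_mul, map_mul, map_inv]
      exact mul_mem (mul_mem hx hb') (inv_mem hx)
    have he := std_spread κ (fun k b hb => mul_mem (mul_mem (hAh k) hb) (inv_mem (hAh k)))
      (fun b hb => mul_mem (mul_mem hAq hb) (inv_mem hAq))
      (fun b hb => mul_mem (mul_mem (inv_mem hAq) hb) (inv_mem (inv_mem hAq))) h0 hne hm 0 1
      (by decide) 1
    have hr0 : gR ∈ B0 := hb
    have hc : elem (0 : Fin 3) 1 (-2 : F) ∈ B0 := by
      have h1 := mul_mem hr0 (hN _ he _ (inv_mem hr0))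
      convert h1 using 1
      rw [eq_comm, ← mul_assoc, ← mul_assoc, mul_inv_eq_iff_eq_mul, gR, dgl_inv]
      apply Units.ext
      rw [Units.val_mul, Units.val_mul, Units.val_mul, elem_val (by decide), elem_val (by decide)]
      ext i j
      fin_cases i <;> fin_cases j <;>
        simp [dgl, Matrix.transvection, Matrix.mul_apply, Fin.sum_univ_three] <;> norm_num
    have h01 : ((-2 : F) • LinearMap.proj 1 : (Fin 3 → F) →ₗ[F] F) (Pi.single 0 1) = 0 := by simp
    have hn := std_spread κ (B := B0) (fun k => hN _ (hAh k)) (hN _ hAq) (hN _ (inv_mem hAq)) h01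
      (fun e => κ.two (by
        have := (tv_eq_one_iff h01).1 e (Pi.single 1 1)
        simpa using congrFun this 0)) hc 0 1 (by decide) 1
    set E : Matrix (Fin 3) (Fin 3) F := Matrix.single 0 1 1 with hE
    have hEE : E * E = 0 := by rw [hE, Matrix.single_mul_single_of_ne _ _ _ _ (by decide)]
    set n := pq κ (elem 0 1 1, 1) with hndef
    have hnv : (n : Matrix I9 I9 F) = 1 + E ⊗ₖ Pp := by
      obtain ⟨-, -, -, -, h⟩ := proj_rules κ
      rw [hndef, pq_val, elem_val (by decide), Matrix.transvection, ← hE, Units.val_one,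
        Matrix.add_kronecker, add_right_comm, ← Matrix.kronecker_add, h, Matrix.one_kronecker_one]
    set z := kr (1 : GL (Fin 3) F) (gZ κ) with hz
    have hzH : z ∈ H := O.base (R9_le_base κ hZ')
    have hconj : ∀ (g : GL I9 F) (A : Matrix (Fin 3) (Fin 3) F), (g : Matrix I9 I9 F) = 1 + E ⊗ₖ A →
        ((z * g * z⁻¹ : GL I9 F) : Matrix I9 I9 F) = 1 + E ⊗ₖ
          ((gZ κ : Matrix (Fin 3) (Fin 3) F) * A * ((gZ κ)⁻¹ : GL (Fin 3) F).val) := by
      intro g A hg
      rw [hz, show (kr (1 : GL (Fin 3) F) (gZ κ))⁻¹ = kr 1 (gZ κ)⁻¹ from Units.ext rfl,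
        Units.val_mul, Units.val_mul, hg]
      show ((1 : GL (Fin 3) F) : Matrix (Fin 3) (Fin 3) F) ⊗ₖ (gZ κ : Matrix (Fin 3) (Fin 3) F) *
        (1 + E ⊗ₖ A) * (((1 : GL (Fin 3) F) : Matrix (Fin 3) (Fin 3) F) ⊗ₖ ((gZ κ)⁻¹ : GL (Fin 3) F).val) = _
      rw [Matrix.mul_add, Matrix.add_mul, mul_one, ← Matrix.mul_kronecker_mul, ← Matrix.mul_kronecker_mul,
        ← Matrix.mul_kronecker_mul, ← Units.val_mul, ← Units.val_mul, mul_inv_cancel, mul_one,
        Units.val_one, Matrix.one_kronecker_one, Matrix.one_mul, Matrix.mul_one]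
    set g3 := n * (z * n * z⁻¹) * (z * (z * n * z⁻¹) * z⁻¹) with hg3
    have hg3H : g3 ∈ H := by
      have hnH : n ∈ H := hn
      exact mul_mem (mul_mem hnH (mul_mem (mul_mem hzH hnH) (inv_mem hzH)))
        (mul_mem (mul_mem hzH (mul_mem (mul_mem hzH hnH) (inv_mem hzH))) (inv_mem hzH))
    have h2 := κ.two
    have hv : (g3 : Matrix I9 I9 F) = 1 + E ⊗ₖ Matrix.diagonal (fun k : Fin 3 => if k = 0 then (3 : F) else 3 / 2) := by
      have hmul : ∀ A B : Matrix (Fin 3) (Fin 3) F, ((1 : Matrix I9 I9 F) + E ⊗ₖ A) * (1 + E ⊗ₖ B) =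
          1 + E ⊗ₖ (A + B) := fun A B => by
        rw [Matrix.add_mul, Matrix.mul_add, Matrix.mul_add, one_mul, one_mul, mul_one,
          ← Matrix.mul_kronecker_mul, hEE, Matrix.zero_kronecker, add_zero, Matrix.kronecker_add]
        abel
      rw [hg3, Units.val_mul, Units.val_mul, hnv, hconj n _ hnv, hconj _ _ (hconj n _ hnv), hmul, hmul]
      congr 1
      congr 1
      rw [show (gZ κ)⁻¹ = dgl (fun i : Fin 3 => κ.w ^ (i : ℕ))⁻¹ from dgl_inv _]
      have hω := κ.cube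
      have rel := κ.rel
      ext i j
      fin_cases i <;> fin_cases j <;>
        simp [Pp, gJ, gZ, dgl, Matrix.mul_apply, Fin.sum_univ_three, Matrix.diagonal, Matrix.one_apply,
          Fld.w_val, κ.inv] <;> field_simp <;> grind
    have hCB : g3 ∈ CB κ H := by
      refine Subgroup.mem_inf.2 ⟨hg3H, Subgroup.mem_centralizer_singleton_iff.2 ?_⟩
      apply Units.ext
      rw [Units.val_mul _ (kr (1 : GL (Fin 3) F) (gZ κ)), Units.val_mul (kr (1 : GL (Fin 3) F) (gZ κ)), hv]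
      show (1 + _) * (((1 : GL (Fin 3) F) : Matrix (Fin 3) (Fin 3) F) ⊗ₖ (gZ κ : Matrix (Fin 3) (Fin 3) F)) =
        (((1 : GL (Fin 3) F) : Matrix (Fin 3) (Fin 3) F) ⊗ₖ (gZ κ : Matrix (Fin 3) (Fin 3) F)) * (1 + _)
      rw [Units.val_one, Matrix.add_mul, Matrix.mul_add, one_mul, mul_one,
        ← Matrix.mul_kronecker_mul, ← Matrix.mul_kronecker_mul, one_mul, mul_one]
      congr 2
      show _ * Matrix.diagonal _ = Matrix.diagonal _ * _
      rw [Matrix.diagonal_mul_diagonal, Matrix.diagonal_mul_diagonal]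
      simp [mul_comm]
    have e3 : bl κ H 0 ⟨g3, hCB⟩ = elem 0 1 3 := by
      apply Units.ext
      ext i j
      rw [bl_val, elem_val (by decide)]
      show (g3 : Matrix I9 I9 F) (i, 0) (j, 0) = _
      rw [hv]
      fin_cases i <;> fin_cases j <;>
        simp [hE, Matrix.transvection, Matrix.single_apply, Matrix.one_apply]
    have h01' : ((3 : F) • LinearMap.proj 1 : (Fin 3 → F) →ₗ[F] F) (Pi.single 0 1) = 0 := by simp
    have := (tv_eq_one_iff h01').1 (Ablk_noTv κ O 0 _ _ h01' ⟨⟨g3, hCB⟩, e3⟩) (Pi.single 1 1)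
    simp [κ.three] at this

end Cfsg.Agent.C6Three
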