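/-
A p-group of operators fixes an element of a larger p-subgroup modulo a normal subgroup of order p.
Main results: `exists_fixed_mod`.
-/
import Cfsg.Agent.Lib.PGroup.Basic

set_option autoImplicit false
set_option linter.unusedSectionVars false

namespace Cfsg.Agent.C6Three

open Subgroup
open scoped commutatorElement

theorem exists_fixed_mod {G : Type*} [Group G] [Finite G] {p : ℕ} [Fact p.Prime] {E P N : Subgroup G}
    (hE : IsPGroup p E) (hPN : P ≤ N) (hP : Nat.card P = p) (hN2 : p ^ 2 ∣ Nat.card N)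
    (hEN : E ≤ normalizer (N : Set G)) (hEP : E ≤ normalizer (P : Set G))
    (hNP : N ≤ normalizer (P : Set G)) :
    ∃ x ∈ N, x ∉ P ∧ (∃ n, x ^ p ^ n = 1) ∧ ∀ a ∈ E, ⁅x, a⁆ ∈ P := by
  set Γ := E ⊔ N with hΓ
  have hΓN : Γ ≤ normalizer (N : Set G) := sup_le hEN le_normalizer
  have hΓP : Γ ≤ normalizer (P : Set G) := sup_le hEP hNP
  have hEP' : IsPGroup p (E ⊔ P : Subgroup G) :=
    IsPGroup.to_sup_of_normal_right' hE (IsPGroup.of_card (n := 1) (by rw [hP, pow_one])) hEP
  obtain ⟨S, hS⟩ := IsPGroup.exists_le_sylow (G := Γ) (P := (E ⊔ P).subgroupOf Γ)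
    (hEP'.comap_of_injective Γ.subtype Γ.subtype_injective)
  set T := (S : Subgroup Γ).map Γ.subtype with hT
  have hTΓ : T ≤ Γ := Subgroup.map_subtype_le _
  have hle : E ⊔ P ≤ T := by
    intro y hy
    have hyΓ : y ∈ Γ := (sup_le le_sup_left (hPN.trans le_sup_right) : E ⊔ P ≤ Γ) hy
    exact ⟨⟨y, hyΓ⟩, hS hy, rfl⟩
  have hTp : IsPGroup p T := S.2.map _
  -- the index of N in Γ is a power of p
  set i := N.relIndex Γ with hi
  have hiE : i ∣ Nat.card E := by
    haveI : (N.subgroupOf Γ).Normal := normal_subgroupOf_iff_le_normalizer le_sup_right |>.2 hΓN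
    have hsup : E.subgroupOf Γ ⊔ N.subgroupOf Γ = ⊤ := by
      rw [← subgroupOf_sup le_sup_left le_sup_right]
      exact subgroupOf_self Γ
    have h1 : i = (N.subgroupOf Γ).relIndex (E.subgroupOf Γ) := by
      rw [← relIndex_sup_right, hsup, relIndex_top_right]; rfl
    rw [h1]
    exact (relIndex_dvd_card _ _).trans
      (Nat.card_congr (subgroupOfEquivOfLe (show E ≤ Γ from le_sup_left)).toEquiv).dvd
  obtain ⟨e, he⟩ := IsPGroup.iff_card.1 hE
  obtain ⟨m, -, hm⟩ := (Nat.dvd_prime_pow (Fact.out : p.Prime)).1 (he ▸ hiE)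
  have hcard : Nat.card N * i = Nat.card Γ := by
    have := relIndex_mul_relIndex ⊥ N Γ bot_le le_sup_right
    rwa [relIndex_bot_left, relIndex_bot_left] at this
  have hdvd : p ^ (2 + m) ∣ Nat.card T := by
    rw [hT, card_map_of_injective Γ.subtype_injective, S.card_eq_multiplicity]
    refine pow_dvd_pow p ((Nat.Prime.pow_dvd_iff_le_factorization Fact.out Nat.card_pos.ne').1 ?_)
    rw [pow_add, ← hcard, ← hm]
    exact Nat.mul_dvd_mul_right hN2 i
  have hbig : p ^ 2 ≤ Nat.card (N ⊓ T : Subgroup G) := by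
    have h1 := relIndex_mul_relIndex ⊥ (N ⊓ T) T bot_le inf_le_right
    rw [relIndex_bot_left, relIndex_bot_left, inf_relIndex_right] at h1
    have h2 : N.relIndex T ≤ i := by
      refine relIndex_le_of_le_right hTΓ ?_
      rw [← hi, hm]
      exact pow_ne_zero _ (Fact.out : p.Prime).pos.ne'
    have h3 := Nat.le_of_dvd Nat.card_pos hdvd
    rw [← h1, pow_add, ← hm] at h3
    have hi0 : 0 < i := by rw [hm]; exact pow_pos (Fact.out : p.Prime).pos _
    exact Nat.le_of_mul_le_mul_right (h3.trans (Nat.mul_le_mul_left _ h2)) hi0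
  -- the quotient
  set Pu := P.subgroupOf T with hPu
  haveI : Pu.Normal := (normal_subgroupOf_iff_le_normalizer (le_sup_right.trans hle)).2 (hTΓ.trans hΓP)
  set π := QuotientGroup.mk' Pu with hπ
  set M := (N.subgroupOf T).map π with hM
  haveI : M.Normal := by
    haveI : (N.subgroupOf T).Normal := by
      refine ⟨fun n hn g => ?_⟩
      rw [mem_subgroupOf] at hn ⊢
      exact (mem_normalizer_iff.1 (hΓN (hTΓ g.2)) n).1 hn
    exact Normal.map inferInstance _ (QuotientGroup.mk'_surjective _)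
  have hMne : M ≠ ⊥ := by
    intro h
    have : N ⊓ T ≤ P := by
      rintro y ⟨hyN, hyT⟩
      have h1 : π ⟨y, hyT⟩ ∈ M := ⟨⟨y, hyT⟩, hyN, rfl⟩
      rw [h, mem_bot] at h1
      exact mem_subgroupOf.1 ((QuotientGroup.eq_one_iff _).1 h1)
    have := Nat.le_of_dvd Nat.card_pos (card_dvd_of_le this)
    rw [hP] at this
    have := (Fact.out : p.Prime).two_le
    nlinarith [hbig]
  obtain ⟨y, hy, hy1⟩ : ∃ y ∈ M ⊓ center (T ⧸ Pu), y ≠ 1 := by
    by_contra hcon
    push Not at hcon
    exact PGroup.inf_center_ne_bot (hTp.to_quotient Pu) hMne ((eq_bot_iff_forall _).2 hcon)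
  obtain ⟨x, hxN, rfl⟩ := hy.1
  refine ⟨x, hxN, fun hxP => hy1 ((QuotientGroup.eq_one_iff _).2 (mem_subgroupOf.2 hxP)), ?_,
    fun a ha => ?_⟩
  · obtain ⟨n, hn⟩ := hTp x
    exact ⟨n, by simpa using congrArg Subtype.val hn⟩
  · set a' : T := ⟨a, hle (mem_sup_left ha)⟩ with ha'
    have hc : π ⁅x, a'⁆ = 1 := by
      rw [map_commutatorElement, commutatorElement_eq_one_iff_commute]
      exact (mem_center_iff.1 hy.2 (π a')).symm
    simpa [ha', commutatorElement_def] using mem_subgroupOf.1 ((QuotientGroup.eq_one_iff _).1 hc)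

end Cfsg.Agent.C6Three
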