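/-
Swapping the two factors, and block diagonal matrices.
Main results: `swE`, `swH`, `Ovr.swap`, `bdiag`, `Pm_fix`.
-/
import Cfsg.Agent.Lib.C6Three.Quat

set_option autoImplicit false
set_option linter.unusedSectionVars false
set_option linter.unusedSimpArgs false

namespace Cfsg.Agent.C6Three

open Matrix Cfsg.Agent.Transvect
open scoped Matrix Kronecker

variable {F : Type*} [Field F] [Fintype F] (κ : Fld F)

/-- The swap of the two factors. -/
def swE : GL I9 F ≃* GL I9 F := Cfsg.Geo.glReindex (Equiv.prodComm (Fin 3) (Fin 3))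

theorem swE_val (g : GL I9 F) (p q : I9) :
    (swE g : Matrix I9 I9 F) p q = (g : Matrix I9 I9 F) p.swap q.swap := rfl

theorem swE_swE (g : GL I9 F) : swE (swE g) = g :=
  Units.ext (by ext p q; rw [swE_val, swE_val, Prod.swap_swap, Prod.swap_swap])

theorem swE_kr (A B : GL (Fin 3) F) : swE (kr A B) = kr B A :=
  Units.ext (by ext p q; rw [swE_val, kr_val, kr_val, mul_comm]; rfl)

theorem swE_dgl (d : I9 → Fˣ) : swE (dgl d) = dgl fun p => d p.swap := by
  apply Units.ext
  ext p q
  rw [swE_val]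
  simp only [dgl, Matrix.diagonal_apply]
  by_cases h : p = q
  · subst h; simp
  · rw [if_neg h, if_neg (fun e => h (Prod.swap_injective e))]

/-- The swapped subgroup. -/
def swH (H : Subgroup (GL I9 F)) : Subgroup (GL I9 F) := H.map (swE (F := F)).toMonoidHom

theorem mem_swH {H : Subgroup (GL I9 F)} {g : GL I9 F} : g ∈ swH H ↔ swE g ∈ H := by
  constructor
  · rintro ⟨x, hx, rfl⟩
    show swE (swE x) ∈ H
    rwa [swE_swE]
  · intro h
    exact ⟨swE g, h, swE_swE g⟩

theorem swE_base {g : GL I9 F} (hg : g ∈ Base κ) : swE g ∈ Base κ := by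
  obtain ⟨hh, hh', hq, hq', hd1, hd2⟩ := base_gens κ
  refine (sup_le ((Subgroup.closure_le _).2 ?_) ?_ :
    Base κ ≤ (Base κ).comap (swE (F := F)).toMonoidHom) hg
  · rintro x ((⟨k, rfl⟩ | ⟨k, rfl⟩) | rfl | rfl | rfl | rfl)
    · show swE (kr (gh κ k) 1) ∈ Base κ; rw [swE_kr]; exact hh' k
    · show swE (kr 1 (gh κ k)) ∈ Base κ; rw [swE_kr]; exact hh k
    · show swE (kr (gq κ) 1) ∈ Base κ; rw [swE_kr]; exact hq'
    · show swE (kr 1 (gq κ)) ∈ Base κ; rw [swE_kr]; exact hq
    · show swE (gD1 κ) ∈ Base κ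
      convert hd1 using 1
      rw [gD1, swE_dgl]; congr 1; funext p; simp [Prod.swap, add_comm]
    · show swE (gD2 κ) ∈ Base κ
      convert hd2 using 1
      rw [gD2, swE_dgl]; congr 1; funext p; simp [Prod.swap, eq_comm]
  · intro x hx
    obtain ⟨c, hc⟩ := (Cfsg.Geo.mem_scalars_iff x).1 hx
    refine Subgroup.mem_sup_right ((Cfsg.Geo.mem_scalars_iff _).2 ⟨c, ?_⟩)
    ext p q
    show (swE x : Matrix I9 I9 F) p q = _
    rw [swE_val, hc]
    simp only [Matrix.smul_apply, Matrix.one_apply]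
    by_cases h : p = q
    · subst h; simp
    · rw [if_neg h, if_neg (fun e => h (Prod.swap_injective e))]

theorem Ovr.swap {H : Subgroup (GL I9 F)} (O : Ovr κ H) : Ovr κ (swH H) := by
  refine ⟨fun g hg => mem_swH.2 (O.base (swE_base κ hg)), fun hle => O.proper fun g hg => ?_⟩
  have hs : swE g ∈ Cfsg.Geo.specialLinear I9 F := by
    rw [mem_sl_iff] at hg ⊢
    show (Matrix.reindex (Equiv.prodComm (Fin 3) (Fin 3)) (Equiv.prodComm (Fin 3) (Fin 3))
      (g : Matrix I9 I9 F)).det = 1
    rw [Matrix.det_reindex_self]; exact hg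
  have := mem_swH.1 (hle hs)
  rwa [swE_swE] at this

/-- Block diagonal matrices with blocks acting on the second factor. -/
def bdiag : (Fin 3 → GL (Fin 3) F) →* GL I9 F :=
  MonoidHom.toHomUnits
    { toFun := fun s => Matrix.of fun p q => if p.1 = q.1 then (s p.1 : Matrix (Fin 3) (Fin 3) F) p.2 q.2 else 0
      map_one' := by
        ext p q
        simp only [Matrix.of_apply, Pi.one_apply, Units.val_one, Matrix.one_apply, Prod.ext_iff]
        by_cases h1 : p.1 = q.1 <;> simp [h1]
      map_mul' := fun s t => by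
        ext ⟨i, k⟩ ⟨j, l⟩
        rw [Matrix.mul_apply]
        have e : ∀ x : I9, (Matrix.of fun p q : I9 => if p.1 = q.1 then (s p.1 : Matrix (Fin 3) (Fin 3) F) p.2 q.2 else 0) (i, k) x *
            (Matrix.of fun p q : I9 => if p.1 = q.1 then (t p.1 : Matrix (Fin 3) (Fin 3) F) p.2 q.2 else 0) x (j, l) =
            if x.1 = i then (if i = j then (s i : Matrix (Fin 3) (Fin 3) F) k x.2 * (t i : Matrix (Fin 3) (Fin 3) F) x.2 l else 0) else 0 := by
          rintro ⟨a, b⟩
          simp only [Matrix.of_apply]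
          by_cases ha : a = i
          · subst ha; by_cases hj : a = j <;> simp [hj]
          · simp [ha, Ne.symm ha]
        rw [Finset.sum_congr rfl fun x _ => e x, Fintype.sum_prod_type,
          Finset.sum_eq_single i (fun b _ hb => by simp [hb]) (fun h => absurd (Finset.mem_univ i) h)]
        simp only [Matrix.of_apply, Pi.mul_apply, Units.val_mul, Matrix.mul_apply, if_true]
        by_cases h1 : i = j <;> simp [h1] }

theorem bdiag_val (s : Fin 3 → GL (Fin 3) F) (i k j l : Fin 3) :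
    (bdiag s : Matrix I9 I9 F) (i, k) (j, l) =
      if i = j then (s i : Matrix (Fin 3) (Fin 3) F) k l else 0 := rfl

theorem bdiag_const (A : GL (Fin 3) F) : bdiag (fun _ => A) = kr 1 A := by
  apply Units.ext
  ext ⟨i, k⟩ ⟨j, l⟩
  rw [bdiag_val, kr_val]
  by_cases h : i = j <;> simp [h]

theorem bdiag_shift (s : Fin 3 → GL (Fin 3) F) :
    kr gX 1 * bdiag s * (kr gX 1)⁻¹ = bdiag fun i => s (i - 1) := by
  rw [mul_inv_eq_iff_eq_mul]
  apply Units.ext
  ext ⟨i, k⟩ ⟨j, l⟩
  have hL : ∀ M : Matrix I9 I9 F, ((kr gX 1 : GL I9 F) * M : Matrix I9 I9 F) (i, k) (j, l) = M (i - 1, k) (j, l) := by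
    intro M
    rw [Matrix.mul_apply, Finset.sum_eq_single (i - 1, k)]
    · simp [kr_val, gX]
    · rintro ⟨a, b⟩ - hne
      rw [kr_val]
      by_cases hb : k = b
      · have : ¬ i = a + 1 := fun e => hne (by rw [e, add_sub_cancel_right, hb])
        simp [gX, this]
      · simp [gX, Matrix.one_apply, hb]
    · simp
  have hR : ∀ M : Matrix I9 I9 F, (M * (kr gX 1 : GL I9 F) : Matrix I9 I9 F) (i, k) (j, l) = M (i, k) (j + 1, l) := by
    intro M
    rw [Matrix.mul_apply, Finset.sum_eq_single (j + 1, l)]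
    · simp [kr_val, gX]
    · rintro ⟨a, b⟩ - hne
      rw [kr_val]
      by_cases hb : b = l
      · have : ¬ a = j + 1 := fun e => hne (by rw [e, hb])
        simp [gX, this]
      · simp [gX, Matrix.one_apply, hb]
    · simp
  rw [Units.val_mul, Units.val_mul, hL, hR, bdiag_val, bdiag_val]
  by_cases h : i - 1 = j
  · subst h; simp
  · have : ¬ i = j + 1 := fun e => h (by rw [e, add_sub_cancel_right])
    simp [h, this]

theorem one_kron_Pm_fix (s : GL (Fin 3) F) (hw : app s wm = wm) :
    (s : Matrix (Fin 3) (Fin 3) F) * Pm = Pm := by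
  have h : ∀ j : Fin 3, (fun k => (Pm : Matrix (Fin 3) (Fin 3) F) k j) =
      ((2 : F)⁻¹ * (![0, 1, -1] : Fin 3 → F) j) • (wm : Fin 3 → F) := fun j => by
    funext k
    fin_cases k <;> fin_cases j <;> simp [Pm, gJ, wm]
  ext i j
  have := congrFun (congrArg (app s) (h j)) i
  rw [map_smul, hw, ← h j] at this
  exact this

end Cfsg.Agent.C6Three
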