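/-
The centraliser of the involution of one factor acting on U ⊗ W-.
Main results: `CJ`, `mW`, `mW_kr`, `mW_pq`, `mW_ker`, `split6`, `S24_card_le`.
-/
import Cfsg.Agent.Lib.C6Three.KernelJ

set_option autoImplicit false
set_option linter.unusedSectionVars false
set_option linter.unusedSimpArgs false

namespace Cfsg.Agent.C6Three

open Matrix Cfsg.Agent.Transvect
open scoped Matrix Kronecker

variable {F : Type*} [Field F] [Fintype F] (κ : Fld F)

/-- The elements of H commuting with 1 ⊗ jM. -/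
def CJ (H : Subgroup (GL I9 F)) : Subgroup (GL I9 F) :=
  H ⊓ Subgroup.centralizer {kr 1 gJ}

theorem mem_CJ {H : Subgroup (GL I9 F)} {g : GL I9 F} :
    g ∈ CJ H ↔ g ∈ H ∧ g * kr 1 gJ = kr 1 gJ * g := by
  rw [CJ, Subgroup.mem_inf, Subgroup.mem_centralizer_singleton_iff]

theorem krJ_mul (g : GL I9 F) (i j k l : Fin 3) :
    ((kr 1 gJ * g : GL I9 F) : Matrix I9 I9 F) (i, k) (j, l) = (g : Matrix I9 I9 F) (i, -k) (j, l) := by
  rw [Units.val_mul, Matrix.mul_apply, Fintype.sum_prod_type]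
  fin_cases k <;> simp [Fin.sum_univ_three, kr_val, gJ, Matrix.one_apply] <;>
    fin_cases i <;> simp <;> rfl

theorem mul_krJ (g : GL I9 F) (i j k l : Fin 3) :
    ((g * kr 1 gJ : GL I9 F) : Matrix I9 I9 F) (i, k) (j, l) = (g : Matrix I9 I9 F) (i, k) (j, -l) := by
  rw [Units.val_mul, Matrix.mul_apply, Fintype.sum_prod_type]
  fin_cases l <;> simp [Fin.sum_univ_three, kr_val, gJ, Matrix.one_apply] <;>
    fin_cases j <;> simp <;> rfl

theorem CJ_entry {g : GL I9 F} (h : g * kr 1 gJ = kr 1 gJ * g) (i j k l : Fin 3) :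
    (g : Matrix I9 I9 F) (i, -k) (j, -l) = (g : Matrix I9 I9 F) (i, k) (j, l) := by
  have := congrArg (fun x : GL I9 F => (x : Matrix I9 I9 F) (i, -k) (j, l)) h
  simp only [mul_krJ, krJ_mul, neg_neg] at this
  exact this

/-- The matrix on U ⊗ W-. -/
def mWm (g : GL I9 F) : Matrix (Fin 3) (Fin 3) F :=
  Matrix.of fun i j => (g : Matrix I9 I9 F) (i, 1) (j, 1) - (g : Matrix I9 I9 F) (i, 1) (j, 2)

theorem mWm_mul {g h : GL I9 F} (hh : h * kr 1 gJ = kr 1 gJ * h) :
    mWm (g * h) = mWm g * mWm h := by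
  ext i j
  simp only [mWm, Matrix.of_apply, Units.val_mul, Matrix.mul_apply, Fintype.sum_prod_type,
    ← Finset.sum_sub_distrib]
  refine Finset.sum_congr rfl fun a _ => ?_
  rw [Fin.sum_univ_three]
  have e0 := CJ_entry hh a j 0 1
  have e1 := CJ_entry hh a j 1 1
  have e2 := CJ_entry hh a j 1 2
  rw [show (-0 : Fin 3) = 0 from rfl, show (-1 : Fin 3) = 2 from rfl] at e0
  rw [show (-1 : Fin 3) = 2 from rfl] at e1
  rw [show (-1 : Fin 3) = 2 from rfl, show (-2 : Fin 3) = 1 from rfl] at e2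
  rw [e0, e1, e2]
  ring

theorem mWm_one : mWm (1 : GL I9 F) = 1 := by
  ext i j
  simp [mWm, Matrix.one_apply]

/-- The action on U ⊗ W-. -/
def mW (H : Subgroup (GL I9 F)) : CJ H →* GL (Fin 3) F :=
  MonoidHom.toHomUnits
    { toFun := fun g => mWm g.1
      map_one' := mWm_one
      map_mul' := fun _ h => mWm_mul (mem_CJ.1 h.2).2 }

theorem mW_val (H : Subgroup (GL I9 F)) (g : CJ H) :
    (mW H g : Matrix (Fin 3) (Fin 3) F) = mWm g.1 := rfl

theorem mWm_kr (a s : GL (Fin 3) F) : mWm (kr a s) =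
    ((s : Matrix (Fin 3) (Fin 3) F) 1 1 - (s : Matrix (Fin 3) (Fin 3) F) 1 2) • (a : Matrix (Fin 3) (Fin 3) F) := by
  ext i j
  simp [mWm, kr_val]
  ring

theorem mW_kr_mem {H : Subgroup (GL I9 F)} {a : GL (Fin 3) F} (ha : kr a 1 ∈ H) : kr a 1 ∈ CJ H :=
  mem_CJ.2 ⟨ha, by rw [kr_mul, kr_mul, one_mul, mul_one, one_mul, mul_one]⟩

theorem mW_kr {H : Subgroup (GL I9 F)} {a : GL (Fin 3) F} (ha : kr a 1 ∈ CJ H) :
    mW H ⟨kr a 1, ha⟩ = a := by
  apply Units.ext
  rw [mW_val, mWm_kr]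
  simp

theorem mW_ker {H : Subgroup (GL I9 F)} (κ : Fld F) {g : CJ H} (h : mW H g = 1) : g.1 ∈ K1 H := by
  obtain ⟨hg, hc⟩ := mem_CJ.1 g.2
  refine ⟨hg, hc, ?_⟩
  have hM : ∀ i j, (g.1 : Matrix I9 I9 F) (i, 1) (j, 1) - (g.1 : Matrix I9 I9 F) (i, 1) (j, 2) =
      if i = j then 1 else 0 := fun i j => by
    have := congrArg (fun x : GL (Fin 3) F => (x : Matrix (Fin 3) (Fin 3) F) i j) h
    simpa [mW_val, mWm, Matrix.one_apply] using this
  have h2 := κ.two
  ext ⟨i, k⟩ ⟨j, l⟩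
  rw [Matrix.mul_apply, Fintype.sum_prod_type,
    Finset.sum_eq_single j (fun b _ hb => by simp [hb]) (fun h => absurd (Finset.mem_univ j) h)]
  have e : ∀ a b : Fin 3, (g.1 : Matrix I9 I9 F) (i, -a) (j, -b) = (g.1 : Matrix I9 I9 F) (i, a) (j, b) :=
    fun a b => CJ_entry hc i j a b
  have e01 := e 0 1
  have e11 := e 1 1
  have e12 := e 1 2
  rw [show (-0 : Fin 3) = 0 from rfl, show (-1 : Fin 3) = 2 from rfl] at e01
  rw [show (-1 : Fin 3) = 2 from rfl] at e11
  rw [show (-1 : Fin 3) = 2 from rfl, show (-2 : Fin 3) = 1 from rfl] at e12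
  have hij := hM i j
  simp only [Fin.sum_univ_three, Matrix.kroneckerMap_apply, Matrix.one_apply, Pm, gJ,
    Matrix.smul_apply, Matrix.sub_apply, smul_eq_mul, Matrix.of_apply]
  by_cases hd : i = j
  · subst hd
    rw [if_pos rfl] at hij
    fin_cases k <;> fin_cases l <;> simp [e01, e11, e12] <;>
      first | ring1 | (field_simp; ring1) | (field_simp; linear_combination hij) |
        (field_simp; linear_combination -hij) | linear_combination (2 : F)⁻¹ * hij |
        linear_combination -(2 : F)⁻¹ * hij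
  · rw [if_neg hd] at hij
    fin_cases k <;> fin_cases l <;> simp [hd, e01, e11, e12] <;>
      first | ring1 | (field_simp; ring1) | (field_simp; linear_combination hij) |
        (field_simp; linear_combination -hij) | linear_combination (2 : F)⁻¹ * hij |
        linear_combination -(2 : F)⁻¹ * hij

theorem krR_mul_apply (s : GL (Fin 3) F) (g : GL I9 F) (i j k l : Fin 3) :
    ((kr 1 s * g : GL I9 F) : Matrix I9 I9 F) (i, k) (j, l) =
      ∑ b, (s : Matrix (Fin 3) (Fin 3) F) k b * (g : Matrix I9 I9 F) (i, b) (j, l) := by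
  rw [Units.val_mul, Matrix.mul_apply, Fintype.sum_prod_type, Finset.sum_eq_single i]
  · exact Finset.sum_congr rfl fun b _ => by simp [kr_val]
  · intro b _ hb
    exact Finset.sum_eq_zero fun c _ => by simp [kr_val, Ne.symm hb]
  · simp

theorem mul_krR_apply (s : GL (Fin 3) F) (g : GL I9 F) (i j k l : Fin 3) :
    ((g * kr 1 s : GL I9 F) : Matrix I9 I9 F) (i, k) (j, l) =
      ∑ b, (g : Matrix I9 I9 F) (i, k) (j, b) * (s : Matrix (Fin 3) (Fin 3) F) b l := by
  rw [Units.val_mul, Matrix.mul_apply, Fintype.sum_prod_type, Finset.sum_eq_single j]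
  · exact Finset.sum_congr rfl fun b _ => by simp [kr_val]
  · intro b _ hb
    exact Finset.sum_eq_zero fun c _ => by simp [kr_val, hb]
  · simp

/-- Elements commuting with the right binary tetrahedral group split along W+ and W-. -/
theorem split6 {g : GL I9 F} (hJ : g * kr 1 gJ = kr 1 gJ * g)
    (hh : g * kr 1 (gh κ 0) = kr 1 (gh κ 0) * g) (hq : g * kr 1 (gq κ) = kr 1 (gq κ) * g) :
    (g : Matrix I9 I9 F) =
      Matrix.of (fun i j => (g : Matrix I9 I9 F) (i, 0) (j, 0)) ⊗ₖ Pp + mWm g ⊗ₖ Pm := by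
  have h2 := κ.two
  have hd1 := κ.d1
  have hsum : ∀ (s : GL (Fin 3) F) i k j l, g * kr 1 s = kr 1 s * g →
      ∑ b, (g : Matrix I9 I9 F) (i, k) (j, b) * (s : Matrix (Fin 3) (Fin 3) F) b l =
        ∑ b, (s : Matrix (Fin 3) (Fin 3) F) k b * (g : Matrix I9 I9 F) (i, b) (j, l) := by
    intro s i k j l h
    have := congrArg (fun x : GL I9 F => (x : Matrix I9 I9 F) (i, k) (j, l)) h
    simpa only [mul_krR_apply, krR_mul_apply] using this
  have z : ∀ i j l, l ≠ 0 → (g : Matrix I9 I9 F) (i, 0) (j, l) = 0 ∧ (g : Matrix I9 I9 F) (i, l) (j, 0) = 0 := by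
    intro i j l hl
    have h1 := hsum _ i 0 j l hh
    have h2 := hsum _ i l j 0 hh
    obtain rfl | rfl : l = 1 ∨ l = 2 := by
      have key : ∀ l : Fin 3, l ≠ 0 → l = 1 ∨ l = 2 := by decide
      exact key l hl
    all_goals
      simp [Fin.sum_univ_three, gh, dgl, Fld.w_val, Matrix.diagonal] at h1 h2
      exact ⟨(mul_eq_zero.1 (show (κ.ω - 1) * _ = 0 by linear_combination -h1)).resolve_left hd1,
        (mul_eq_zero.1 (show (κ.ω - 1) * _ = 0 by linear_combination h2)).resolve_left hd1⟩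
  have a : ∀ i j, (g : Matrix I9 I9 F) (i, 0) (j, 0) =
      (g : Matrix I9 I9 F) (i, 1) (j, 1) + (g : Matrix I9 I9 F) (i, 1) (j, 2) := by
    intro i j
    have h1 := hsum _ i 1 j 0 hq
    simp [Fin.sum_univ_three, gq, (z i j 1 (by decide)).2, (z i j 2 (by decide)).2] at h1
    have hc : (κ.ω - κ.ω ^ 2)⁻¹ ≠ 0 := inv_ne_zero (by
      rw [show κ.ω - κ.ω ^ 2 = κ.ω * (1 - κ.ω) by ring]
      exact mul_ne_zero κ.ω_ne (sub_ne_zero.2 κ.ω_ne_one.symm))
    refine mul_left_cancel₀ hc ?_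
    linear_combination -h1
  ext ⟨i, k⟩ ⟨j, l⟩
  have e11 := CJ_entry hJ i j 1 1
  have e12 := CJ_entry hJ i j 1 2
  rw [show (-1 : Fin 3) = 2 from rfl] at e11
  rw [show (-1 : Fin 3) = 2 from rfl, show (-2 : Fin 3) = 1 from rfl] at e12
  obtain ⟨z1, z1'⟩ := z i j 1 (by decide)
  obtain ⟨z2, z2'⟩ := z i j 2 (by decide)
  simp only [Matrix.add_apply, Matrix.kroneckerMap_apply, Matrix.of_apply, mWm, Pp, Pm, gJ,
    Matrix.smul_apply, Matrix.sub_apply, Matrix.one_apply, smul_eq_mul, a i j]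
  fin_cases k <;> fin_cases l <;> simp [a i j, e11, e12, z1, z1', z2, z2'] <;>
    first | ring1 | (field_simp; ring1)

/-- The group of order 24 has at most 24 elements. -/
theorem S24_card_le : Nat.card (S24 κ) ≤ 24 := by
  classical
  set i := wk κ 0 with hi
  set j := wk κ 1 with hj
  set E := gE κ with hE
  have hcomm : ∀ x ∈ S24 κ, E * x = x * E := fun x hx => gE_central κ hx
  have hiS : i ∈ S24 κ := Q8_le κ (Subgroup.subset_closure ⟨0, rfl⟩)
  have hjS : j ∈ S24 κ := Q8_le κ (Subgroup.subset_closure ⟨1, rfl⟩)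
  have hk : wk κ 2 = j * i := by
    have hω := κ.cube
    have rel := κ.rel
    have h1 : κ.ω - κ.ω ^ 2 ≠ 0 := by
      rw [show κ.ω - κ.ω ^ 2 = κ.ω * (1 - κ.ω) by ring]
      exact mul_ne_zero κ.ω_ne (sub_ne_zero.2 κ.ω_ne_one.symm)
    rw [hj, hi, wk_gq, wk, wk]
    apply Units.ext
    simp only [Units.val_mul]
    simp only [gh, pow_one, pow_two, dgl_mul, dgl_inv, Fin.val_one, Fin.val_two]
    ext a b
    fin_cases a <;> fin_cases b <;>
      simp [gq, dgl, Matrix.mul_apply, Fin.sum_univ_three, Fld.w_val, κ.inv] <;> field_simp <;> grind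
  have hji : j * i = E * (i * j) := wk_anti κ (by decide)
  have swap : ∀ b c : ℕ, j ^ c * i ^ b = E ^ (c * b) * (i ^ b * j ^ c) := by
    intro b c
    have h1 : j * i ^ b = E ^ b * (i ^ b * j) := by
      induction b with
      | zero => simp
      | succ b ih =>
        rw [pow_succ i, ← mul_assoc, ih, mul_assoc, mul_assoc, hji, ← mul_assoc (i ^ b) E,
          show i ^ b * E = E * i ^ b from (hcomm _ (pow_mem hiS b)).symm, pow_succ E]
        group
    induction c with
    | zero => simp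
    | succ c ih =>
      rw [pow_succ j, mul_assoc, h1, ← mul_assoc, show j ^ c * E ^ b = E ^ b * j ^ c from
        ((show Commute E (j ^ c) from hcomm _ (pow_mem hjS c)).pow_left b).eq.symm, mul_assoc,
        ← mul_assoc (j ^ c), ih, show (c + 1) * b = b + c * b by ring, pow_add]
      group
  have hQ : ∀ x ∈ Q8g κ, ∃ a b c : ℕ, x = E ^ a * i ^ b * j ^ c := by
    have key : Q8g κ ≤ Subgroup.closure {i, j} := (Subgroup.closure_le _).2 (by
      rintro x ⟨k, rfl⟩
      fin_cases k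
      · exact Subgroup.subset_closure (by simp [hi])
      · exact Subgroup.subset_closure (by simp [hj])
      · show wk κ 2 ∈ _
        rw [hk]
        exact mul_mem (Subgroup.subset_closure (by simp)) (Subgroup.subset_closure (by simp)))
    intro x hx
    replace hx := key hx
    induction hx using Subgroup.closure_induction with
    | mem x hx =>
      rcases hx with rfl | rfl
      · exact ⟨0, 1, 0, by simp⟩
      · exact ⟨0, 0, 1, by simp⟩
    | one => exact ⟨0, 0, 0, by simp⟩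
    | mul x y _ _ hx hy =>
      obtain ⟨a, b, c, rfl⟩ := hx
      obtain ⟨a', b', c', rfl⟩ := hy
      refine ⟨a + a' + c * b', b + b', c + c', ?_⟩
      have e1 : ∀ z ∈ S24 κ, ∀ n : ℕ, z * E ^ n = E ^ n * z := fun z hz n =>
        ((show Commute E z from hcomm z hz).pow_left n).eq.symm
      calc E ^ a * i ^ b * j ^ c * (E ^ a' * i ^ b' * j ^ c')
          = E ^ a * (i ^ b * j ^ c * E ^ a') * (i ^ b' * j ^ c') := by group
        _ = E ^ (a + a') * i ^ b * (j ^ c * i ^ b') * j ^ c' := by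
            rw [e1 _ (mul_mem (pow_mem hiS b) (pow_mem hjS c)), pow_add]; group
        _ = E ^ (a + a') * (i ^ b * E ^ (c * b')) * i ^ b' * (j ^ c * j ^ c') := by rw [swap]; group
        _ = _ := by rw [e1 _ (pow_mem hiS b), pow_add, pow_add i, pow_add j, pow_add, pow_add]; group
    | inv x _ hx =>
      obtain ⟨a, b, c, rfl⟩ := hx
      have hiE : i⁻¹ = E * i := inv_eq_of_mul_eq_one_right (by
        rw [← mul_assoc, ← hcomm i hiS, mul_assoc, wk_sq, gE_sq])
      have hjE : j⁻¹ = E * j := inv_eq_of_mul_eq_one_right (by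
        rw [← mul_assoc, ← hcomm j hjS, mul_assoc, wk_sq, gE_sq])
      refine ⟨c + b + a + c * b, b, c, ?_⟩
      rw [_root_.mul_inv_rev, _root_.mul_inv_rev, ← _root_.inv_pow, ← _root_.inv_pow, ← _root_.inv_pow, hiE, hjE,
        show E⁻¹ = E from gE_inv κ, (show Commute E i from hcomm i hiS).mul_pow,
        (show Commute E j from hcomm j hjS).mul_pow]
      calc E ^ c * j ^ c * (E ^ b * i ^ b * E ^ a) = E ^ c * (j ^ c * E ^ b) * (i ^ b * E ^ a) := by group
        _ = E ^ c * (E ^ b * j ^ c) * (E ^ a * i ^ b) := by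
          rw [((show Commute E j from hcomm j hjS).pow_pow b c).eq,
            ((show Commute E i from hcomm i hiS).pow_pow a b).eq]
        _ = E ^ (c + b) * (j ^ c * E ^ a) * i ^ b := by rw [pow_add]; group
        _ = E ^ (c + b + a) * (j ^ c * i ^ b) := by
          rw [← ((show Commute E j from hcomm j hjS).pow_pow a c).eq, pow_add E (c + b)]; group
        _ = _ := by rw [swap, pow_add E (c + b + a)]; group
  have red : ∀ x : GL (Fin 3) F, x * x = E → ∀ n : ℕ, x ^ n = E ^ (n / 2) * x ^ (n % 2) := fun x hx n => by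
    conv_lhs => rw [← Nat.div_add_mod n 2, pow_add, pow_mul, pow_two, hx]
  let f : Fin 2 × Fin 2 × Fin 2 × Fin 3 → GL (Fin 3) F := fun p =>
    E ^ (p.1 : ℕ) * i ^ (p.2.1 : ℕ) * j ^ (p.2.2.1 : ℕ) * gh κ 0 ^ (p.2.2.2 : ℕ)
  have hsub : (S24 κ : Set (GL (Fin 3) F)) ⊆ Set.range f := by
    intro x hx
    obtain ⟨y, hy, m, rfl⟩ := S24_form κ hx
    obtain ⟨a, b, c, rfl⟩ := hQ y hy
    refine ⟨(⟨(a + b / 2 + c / 2) % 2, Nat.mod_lt _ (by norm_num)⟩, ⟨b % 2, Nat.mod_lt _ (by norm_num)⟩,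
      ⟨c % 2, Nat.mod_lt _ (by norm_num)⟩, ⟨m % 3, Nat.mod_lt _ (by norm_num)⟩), ?_⟩
    show E ^ _ * i ^ _ * j ^ _ * gh κ 0 ^ _ = _
    have h2 : ∀ n : ℕ, E ^ n = E ^ (n % 2) := fun n => by
      conv_lhs => rw [← Nat.div_add_mod n 2, pow_add, pow_mul, pow_two, gE_sq, one_pow, one_mul]
    have h3 : gh κ 0 ^ m = gh κ 0 ^ (m % 3) := by
      conv_lhs => rw [← Nat.div_add_mod m 3, pow_add, pow_mul, gh0_cube, one_pow, one_mul]
    rw [red i (wk_sq κ 0) b, red j (wk_sq κ 1) c, h3, ← h2]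
    simp only
    rw [pow_add, pow_add]
    have := ((show Commute E i from hcomm i hiS).pow_pow (c / 2) (b % 2)).eq
    calc E ^ a * E ^ (b / 2) * E ^ (c / 2) * i ^ (b % 2) * j ^ (c % 2) * gh κ 0 ^ (m % 3)
        = E ^ a * E ^ (b / 2) * (E ^ (c / 2) * i ^ (b % 2)) * j ^ (c % 2) * gh κ 0 ^ (m % 3) := by group
      _ = _ := by rw [this]; group
  have := Nat.card_mono (Set.finite_range f) hsub
  calc Nat.card (S24 κ) ≤ Nat.card (Set.range f) := this
    _ ≤ Nat.card (Fin 2 × Fin 2 × Fin 2 × Fin 3) := Finite.card_range_le f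
    _ = 24 := by simp

end Cfsg.Agent.C6Three
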