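/-
The centraliser of the involution of one factor lies in the normaliser.
Main results: `mW_noTv`, `CJ_form`, `CJ_le_base`.
-/
import Cfsg.Agent.Lib.C6Three.CentJHom
import Cfsg.Agent.Lib.C6Three.NormalForm

set_option autoImplicit false
set_option linter.unusedSectionVars false
set_option linter.unusedSimpArgs false

namespace Cfsg.Agent.C6Three

open Matrix Cfsg.Agent.Transvect
open scoped Matrix Kronecker

variable {F : Type*} [Field F] [Fintype F] (κ : Fld F)

theorem mWm_S24 {s : GL (Fin 3) F} (hs : s ∈ S24 κ) :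
    mWm (kr 1 s) = (1 : Matrix (Fin 3) (Fin 3) F) := by
  obtain ⟨-, hw, -⟩ := S24_props κ hs
  have := congrFun hw 1
  rw [app_apply] at this
  simp [wm, Matrix.mulVec, dotProduct, Fin.sum_univ_three] at this
  rw [mWm_kr, sub_eq_add_neg, this, one_smul, Units.val_one]

theorem kr_S24_mem_CJ {H : Subgroup (GL I9 F)} (O : Ovr κ H) {s : GL (Fin 3) F} (hs : s ∈ S24 κ) :
    kr 1 s ∈ CJ H :=
  mem_CJ.2 ⟨O.base (S24_props κ hs).2.2, (krR_mem_K1 κ O hs).2.1⟩

/-- Elements of prime power order centralise the right binary tetrahedral group. -/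
theorem comm_S24 {H : Subgroup (GL I9 F)} (O : Ovr κ H) {g : GL I9 F} (hg : g ∈ CJ H) {k : ℕ}
    (hgk : g ^ (Fintype.card F) ^ k = 1) {s : GL (Fin 3) F} (hs : s ∈ S24 κ) :
    g * kr 1 s = kr 1 s * g := by
  classical
  haveI : Fact (Fintype.card F).Prime := ⟨κ.prime⟩
  set G' := (S24 κ).map (krR : GL (Fin 3) F →* GL I9 F) with hG'
  have hnorm : ∀ g ∈ CJ H, ∀ y ∈ G', g * y * g⁻¹ ∈ G' := by
    rintro g hg _ ⟨s, hs, rfl⟩
    have hy := kr_S24_mem_CJ κ O hs
    have hm : mW H ⟨_, hy⟩ = 1 := Units.ext (by rw [mW_val, Units.val_one]; exact mWm_S24 κ hs)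
    have hm' : mW H ⟨g * kr 1 s * g⁻¹, mul_mem (mul_mem hg hy) (inv_mem hg)⟩ = 1 := by
      rw [show (⟨g * kr 1 s * g⁻¹, _⟩ : CJ H) = ⟨g, hg⟩ * ⟨_, hy⟩ * ⟨g, hg⟩⁻¹ from rfl,
        map_mul, map_mul, hm, mul_one, map_inv, mul_inv_cancel]
    obtain ⟨t, ht, e⟩ := K1_eq κ O (mW_ker κ hm')
    exact ⟨t, ht, e.symm⟩
  have hgN : g ∈ Subgroup.normalizer (G' : Set (GL I9 F)) :=
    Subgroup.mem_normalizer_iff.2 fun y => ⟨hnorm g hg y, fun hy => by
      have := hnorm g⁻¹ (inv_mem hg) _ hy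
      simpa [mul_assoc] using this⟩
  set φ : MulAut G' := G'.normalizerMonoidHom ⟨g, hgN⟩ with hφ
  set σ : Equiv.Perm G' := MulAut.toPerm G' φ with hσ
  have hσk : σ ^ (Fintype.card F) ^ k = 1 := by
    rw [hσ, hφ, ← map_pow, ← map_pow]
    rw [show (⟨g, hgN⟩ : Subgroup.normalizer (G' : Set (GL I9 F))) ^ (Fintype.card F) ^ k = 1 from
      Subtype.ext (by simp [hgk]), map_one, map_one]
  have hmod := Equiv.Perm.card_compl_support_modEq hσk
  set C : Subgroup G' := (Subgroup.centralizer {g}).subgroupOf G' with hC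
  have hCcard : σ.supportᶜ.card = Nat.card C := by
    rw [Nat.card_eq_fintype_card, eq_comm]
    refine Fintype.card_of_subtype _ fun y => ?_
    rw [Finset.mem_compl, Equiv.Perm.notMem_support, hC, Subgroup.mem_subgroupOf,
      Subgroup.mem_centralizer_singleton_iff]
    show (φ y = y) ↔ _
    constructor
    · intro e
      have := congrArg (fun z : G' => (z : GL I9 F)) e
      simp only [hφ] at this
      exact (mul_inv_eq_iff_eq_mul.1 this).symm
    · intro e
      apply Subtype.ext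
      show g * (y : GL I9 F) * g⁻¹ = y
      rw [← e, mul_inv_cancel_right]
  rw [hCcard, show Fintype.card G' = Nat.card G' from Nat.card_eq_fintype_card.symm] at hmod
  have hn24 : Nat.card G' ≤ 24 := by
    rw [hG', Subgroup.card_map_of_injective krR_injective]
    exact S24_card_le κ
  have h0 : (gh κ 0) ∈ S24 κ := Subgroup.subset_closure (by simp)
  have hEs : gE κ ∈ S24 κ := Q8_le κ (gE_mem_Q8 κ)
  have h3 : 3 ∣ Nat.card G' := by
    haveI : Fact (Nat.Prime 3) := ⟨Nat.prime_three⟩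
    have hne : gh κ 0 ≠ 1 := fun e => by
      have := congrArg (fun x : GL (Fin 3) F => (x : Matrix (Fin 3) (Fin 3) F) 0 0) e
      simp [gh, dgl, Fld.w_val] at this
      exact κ.ω_ne_one this
    have := orderOf_dvd_natCard (⟨_, Subgroup.mem_map_of_mem krR h0⟩ : G')
    rwa [Subgroup.orderOf_mk, orderOf_injective krR krR_injective, orderOf_eq_prime (gh0_cube κ) hne] at this
  have h2 : 2 ∣ Nat.card C := by
    haveI : Fact (Nat.Prime 2) := ⟨Nat.prime_two⟩
    have hc : krR (gE κ) ∈ Subgroup.centralizer {g} := by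
      refine Subgroup.mem_centralizer_singleton_iff.2 ?_
      apply Units.ext
      have e : ((krR (gE κ) : GL I9 F) : Matrix I9 I9 F) = -((kr 1 gJ : GL I9 F) : Matrix I9 I9 F) := by
        show ((1 : GL (Fin 3) F) : Matrix (Fin 3) (Fin 3) F) ⊗ₖ (gE κ : Matrix (Fin 3) (Fin 3) F) = _
        rw [gE_val]
        ext ⟨a, b⟩ ⟨c, d⟩
        simp [kr_val]
      rw [Units.val_mul, Units.val_mul, e, neg_mul, mul_neg, ← Units.val_mul, ← Units.val_mul,
        (mem_CJ.1 hg).2]
    have := orderOf_dvd_natCard (⟨⟨_, Subgroup.mem_map_of_mem krR hEs⟩, hc⟩ : C)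
    rwa [← Subgroup.orderOf_coe, ← Subgroup.orderOf_coe, orderOf_injective krR krR_injective,
      orderOf_eq_prime (by rw [pow_two, gE_sq]) (gE_ne_one κ)] at this
  obtain ⟨d, hd⟩ := Subgroup.card_subgroup_dvd_card C
  have hpos : 0 < Nat.card C := Nat.card_pos
  have hq7 := κ.seven
  have hq3 := κ.mod3
  have hd1 : d = 1 := by
    have hd0 : 1 ≤ d := Nat.pos_of_ne_zero fun e => by
      rw [e, mul_zero] at hd
      exact absurd hd (Nat.card_pos (α := G')).ne'
    by_contra hd1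
    have hdvd : Fintype.card F ∣ Nat.card C * (d - 1) := by
      have := (Nat.modEq_iff_dvd' (Nat.le_of_dvd Nat.card_pos ⟨d, hd⟩)).1 hmod
      rwa [hd, ← Nat.mul_sub_one] at this
    have hc12 : Nat.card C ≤ 12 := by
      have : Nat.card C * 2 ≤ Nat.card G' := by rw [hd]; exact Nat.mul_le_mul_left _ (by omega)
      omega
    rcases κ.prime.dvd_mul.1 hdvd with h | h
    · have hp2 : Nat.Coprime (Fintype.card F) 2 :=
        (Nat.coprime_primes κ.prime Nat.prime_two).2 (by omega)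
      have := Nat.le_of_dvd hpos (hp2.mul_dvd_of_dvd_of_dvd h h2)
      omega
    · have hd12 : d ≤ 12 := by
        have h4 : 2 ≤ Nat.card C := Nat.le_of_dvd hpos h2
        have := Nat.mul_le_mul_right d h4
        omega
      have hle := Nat.le_of_dvd (by omega) h
      obtain ⟨e, he⟩ := h
      have he1 : e = 1 := by
        rcases Nat.lt_or_ge e 2 with he2 | he2
        · interval_cases e <;> omega
        · have := Nat.mul_le_mul_left (Fintype.card F) he2
          omega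
      subst he1
      have h10 : Fintype.card F ≠ 10 := fun e => absurd (e ▸ κ.prime) (by norm_num)
      have h8 : d = 8 := by omega
      subst h8
      have : Nat.card C = 2 := by
        obtain ⟨t, ht⟩ := h2
        omega
      rw [hd, this] at h3
      omega
  rw [hd1, mul_one] at hd
  have htop : C = ⊤ := Subgroup.eq_top_of_card_eq _ hd.symm
  have hmem : (⟨_, Subgroup.mem_map_of_mem krR hs⟩ : G') ∈ C := by rw [htop]; exact Subgroup.mem_top _
  rw [hC, Subgroup.mem_subgroupOf, Subgroup.mem_centralizer_singleton_iff] at hmem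
  exact hmem.symm

theorem pq_commJ (y : GL (Fin 3) F × GL (Fin 3) F) :
    pq κ y * kr 1 gJ = kr 1 gJ * pq κ y := by
  obtain ⟨h1, h2, h3, h4, -⟩ := proj_rules κ
  have h2' := κ.two
  have e : ((kr 1 gJ : GL I9 F) : Matrix I9 I9 F) = (pq κ (1, -1) : Matrix I9 I9 F) := by
    rw [pq_val]
    ext ⟨a, b⟩ ⟨c, d⟩
    simp [kr_val, Pp, Pm, gJ, Matrix.kroneckerMap_apply, Matrix.one_apply]
    fin_cases b <;> fin_cases d <;> by_cases h : a = c <;> simp [h] <;> field_simp <;> ring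
  rw [Units.ext e, ← map_mul, ← map_mul]
  congr 1
  ext1 <;> simp

theorem pq_entry0 (y : GL (Fin 3) F × GL (Fin 3) F) (i j : Fin 3) :
    (pq κ y : Matrix I9 I9 F) (i, 0) (j, 0) = (y.1 : Matrix (Fin 3) (Fin 3) F) i j := by
  have h2 := κ.two
  rw [pq_val]
  simp [Pp, Pm, gJ, Matrix.kroneckerMap_apply]
  field_simp
  ring

theorem mWm_pq (y : GL (Fin 3) F × GL (Fin 3) F) :
    mWm (pq κ y) = (y.2 : Matrix (Fin 3) (Fin 3) F) := by
  have h2 := κ.two
  ext i j
  simp [mWm, pq_val, Pp, Pm, gJ, Matrix.kroneckerMap_apply]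
  field_simp
  ring

/-- The split form of an element commuting with the right binary tetrahedral group. -/
theorem exists_pq {g : GL I9 F} (hJ : g * kr 1 gJ = kr 1 gJ * g)
    (hh : g * kr 1 (gh κ 0) = kr 1 (gh κ 0) * g) (hq : g * kr 1 (gq κ) = kr 1 (gq κ) * g)
    (x : GL (Fin 3) F) (hx : (x : Matrix (Fin 3) (Fin 3) F) = mWm g) :
    ∃ A : GL (Fin 3) F, g = pq κ (A, x) := by
  obtain ⟨h1, h2, h3, h4, -⟩ := proj_rules κ
  have e1 := split6 κ hJ hh hq
  have e2 := split6 κ (g := g⁻¹) (Commute.inv_left (show Commute g _ from hJ)).eq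
    (Commute.inv_left (show Commute g _ from hh)).eq (Commute.inv_left (show Commute g _ from hq)).eq
  set A : Matrix (Fin 3) (Fin 3) F := Matrix.of fun i j => (g : Matrix I9 I9 F) (i, 0) (j, 0)
  set A' : Matrix (Fin 3) (Fin 3) F :=
    Matrix.of fun i j => ((g⁻¹ : GL I9 F) : Matrix I9 I9 F) (i, 0) (j, 0)
  have hm : (A * A') ⊗ₖ Pp + (mWm g * mWm g⁻¹) ⊗ₖ Pm = (1 : Matrix I9 I9 F) := by
    rw [← Units.val_one, ← mul_inv_cancel g, Units.val_mul, e1, e2]
    simp only [Matrix.add_mul, Matrix.mul_add, ← Matrix.mul_kronecker_mul, h1, h2, h3, h4,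
      Matrix.kronecker_zero, add_zero, zero_add]
  have hAA : A * A' = 1 := by
    ext i j
    have := congrFun (congrFun hm (i, 0)) (j, 0)
    have h2' := κ.two
    simp [Pp, Pm, gJ, Matrix.kroneckerMap_apply] at this
    field_simp at this
    rw [Matrix.one_apply] at this ⊢
    simp only [Prod.mk.injEq, and_true] at this
    exact mul_left_cancel₀ h2' (by linear_combination this)
  refine ⟨⟨A, A', hAA, mul_eq_one_comm.1 hAA⟩, Units.ext ?_⟩
  rw [pq_val, hx, e1]

/-- The kernel on U ⊗ W- consists of scalars on U ⊗ W+ as well. -/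
theorem pq_ker {H : Subgroup (GL I9 F)} (O : Ovr κ H) {A : GL (Fin 3) F} (h : pq κ (A, 1) ∈ H) :
    ∃ c : F, (A : Matrix (Fin 3) (Fin 3) F) = c • 1 := by
  have hC : pq κ (A, 1) ∈ CJ H := mem_CJ.2 ⟨h, pq_commJ κ _⟩
  have hm : mW H ⟨_, hC⟩ = 1 := Units.ext (by rw [mW_val, mWm_pq])
  obtain ⟨s, -, e⟩ := K1_eq κ O (mW_ker κ hm)
  refine ⟨(s : Matrix (Fin 3) (Fin 3) F) 0 0, ?_⟩
  ext i j
  have := congrArg (fun x : GL I9 F => (x : Matrix I9 I9 F) (i, 0) (j, 0)) e
  simp only [pq_entry0, kr_val] at this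
  rw [this, Matrix.smul_apply, Units.val_one, smul_eq_mul, mul_comm]

theorem elem01_pow (n : ℕ) (c : F) : (elem 0 1 c : GL (Fin 3) F) ^ n = elem 0 1 (n * c) := by
  induction n with
  | zero =>
    rw [pow_zero]
    apply Units.ext
    rw [elem_val (by decide)]
    simp
  | succ n ih =>
    rw [pow_succ, ih]
    apply Units.ext
    rw [Units.val_mul, elem_val (by decide), elem_val (by decide), elem_val (by decide),
      Matrix.transvection_mul_transvection_same (0 : Fin 3) 1 (by decide)]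
    push_cast
    rw [add_mul, one_mul]

theorem nat_cast_surj (κ : Fld F) (x : F) : ∃ m : ℕ, (m : F) = x := by
  haveI : Fact (Fintype.card F).Prime := ⟨κ.prime⟩
  haveI := C6Two.charP_of_card (F := F) (p := Fintype.card F) rfl
  obtain ⟨y, hy⟩ := (ZMod.ringEquiv F rfl : ZMod (Fintype.card F) ≃+* F).surjective x
  refine ⟨y.val, ?_⟩
  rw [← hy]
  conv_rhs => rw [← ZMod.natCast_zmod_val y]
  rw [map_natCast]

/-- A transvection on U ⊗ W- lifts to a split element. -/
theorem lift_split {H : Subgroup (GL I9 F)} (O : Ovr κ H)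
    (hx : elem 0 1 (1 : F) ∈ (mW H).range) :
    ∃ α : F, pq κ (elem 0 1 α, elem 0 1 1) ∈ H := by
  classical
  haveI : Fact (Fintype.card F).Prime := ⟨κ.prime⟩
  haveI := C6Two.charP_of_card (F := F) (p := Fintype.card F) rfl
  obtain ⟨g0, hg0⟩ := hx
  set q := Fintype.card F with hq
  obtain ⟨k, r, hr, hor⟩ := Nat.exists_eq_pow_mul_and_not_dvd (orderOf_pos g0.1).ne' q κ.prime.ne_one
  have hcop : Nat.Coprime r (q ^ (k + 1)) :=
    Nat.Coprime.pow_right _ ((Nat.Prime.coprime_iff_not_dvd κ.prime).2 hr).symm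
  obtain ⟨m, hm0, hm1⟩ := Nat.chineseRemainder hcop 0 1
  have hmF : (m : F) = 1 := by
    have : m ≡ 1 [MOD q] := hm1.of_dvd (dvd_pow_self q (by omega))
    have := (CharP.natCast_eq_natCast F q).2 this
    simpa using this
  set g := g0 ^ m with hg
  have hgk : (g : GL I9 F) ^ q ^ k = 1 := by
    rw [hg, SubgroupClass.coe_pow, ← pow_mul]
    obtain ⟨t, rfl⟩ := Nat.modEq_zero_iff_dvd.1 hm0
    rw [show r * t * q ^ k = q ^ k * r * t by ring, ← hor, pow_mul, pow_orderOf_eq_one, one_pow]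
  have hgm : mW H g = elem 0 1 1 := by rw [hg, map_pow, hg0, elem01_pow, hmF, one_mul]
  have hh0 : (gh κ 0) ∈ S24 κ := Subgroup.subset_closure (by simp)
  have hq0 : (gq κ) ∈ S24 κ := Subgroup.subset_closure (by simp)
  obtain ⟨A, hA⟩ := exists_pq κ (mem_CJ.1 g.2).2 (comm_S24 κ O g.2 hgk hh0) (comm_S24 κ O g.2 hgk hq0)
    (elem 0 1 1) (by rw [← hgm, mW_val])
  have hgH : pq κ (A, elem 0 1 1) ∈ H := hA ▸ (mem_CJ.1 g.2).1
  have hAk : A ^ q ^ k = 1 := by
    apply Units.ext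
    ext i j
    have := congrArg (fun x : GL I9 F => (x : Matrix I9 I9 F) (i, 0) (j, 0)) hgk
    simp only [hA] at this
    rw [← map_pow, pq_entry0] at this
    simpa [Matrix.one_apply] using this
  obtain ⟨hh, -, -, -, -, -⟩ := base_gens κ
  obtain ⟨-, hZ, -, -⟩ := mem_R9_gens κ
  have act : ∀ (a : GL (Fin 3) F) (n : ℕ), kr a 1 ∈ H → a * elem 0 1 1 * a⁻¹ = elem 0 1 (1 : F) ^ n →
      a * A * a⁻¹ = A ^ n := by
    intro a n ha e
    have h1 : pq κ ((a, a) * (A, elem 0 1 1) * (a, a)⁻¹ * ((A, elem 0 1 1) ^ n)⁻¹) ∈ H := by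
      rw [map_mul, map_mul, map_mul, map_inv, map_inv, map_pow, pq_diag]
      exact mul_mem (mul_mem (mul_mem ha hgH) (inv_mem ha)) (inv_mem (pow_mem hgH n))
    rw [show (a, a) * (A, elem 0 1 1) * (a, a)⁻¹ * ((A, elem 0 1 1) ^ n)⁻¹ =
      (a * A * a⁻¹ * (A ^ n)⁻¹, (1 : GL (Fin 3) F)) by
        ext1
        · simp
        · simp [e]] at h1
    obtain ⟨c, hc⟩ := pq_ker κ O h1
    set B := a * A * a⁻¹ * (A ^ n)⁻¹ with hB
    have hBk : B ^ q ^ k = 1 := by
      have hcomm : ∀ y : GL (Fin 3) F, Commute B y := fun y => by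
        apply Units.ext
        rw [Units.val_mul B y, Units.val_mul y B, hc]
        simp
      have e1 : a * A * a⁻¹ = B * A ^ n := by rw [hB]; group
      have := congrArg (· ^ q ^ k) e1
      simp only [conj_pow, hAk, (hcomm (A ^ n)).mul_pow, ← pow_mul, mul_comm n, mul_one,
        mul_inv_cancel] at this
      rw [pow_mul, hAk, one_pow, mul_one] at this
      exact this.symm
    have hc1 : c = 1 := by
      have := congrArg (fun x : GL (Fin 3) F => (x : Matrix (Fin 3) (Fin 3) F) 0 0) hBk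
      simp only [Units.val_pow_eq_pow_val, hc, smul_pow, one_pow, Matrix.smul_apply, Units.val_one,
        Matrix.one_apply_eq, smul_eq_mul, mul_one] at this
      rwa [hq, FiniteField.pow_card_pow] at this
    rw [hc1, one_smul] at hc
    exact mul_inv_eq_one.1 (Units.ext (hc.trans Units.val_one.symm))
  have h2 := act (gh κ 2) 1 (O.base (hh 2)) (by
    rw [pow_one, mul_inv_eq_iff_eq_mul]
    apply Units.ext
    rw [Units.val_mul, Units.val_mul, elem_val (by decide)]
    ext i j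
    fin_cases i <;> fin_cases j <;>
      simp [gh, dgl, Matrix.transvection, Matrix.mul_apply, Fin.sum_univ_three])
  obtain ⟨n, hn⟩ := nat_cast_surj κ (κ.ω ^ 2)
  have h3 := act (gZ κ) n (O.base (R9_le_base κ hZ)) (by
    rw [elem01_pow, mul_one, hn, mul_inv_eq_iff_eq_mul]
    apply Units.ext
    have hω := κ.cube
    rw [Units.val_mul, Units.val_mul, elem_val (by decide), elem_val (by decide)]
    ext i j
    fin_cases i <;> fin_cases j <;>
      simp [gZ, dgl, Matrix.transvection, Matrix.mul_apply, Fin.sum_univ_three, Fld.w_val] <;> grind)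
  set M := (A : Matrix (Fin 3) (Fin 3) F) with hM
  have hz : M 0 2 = 0 ∧ M 1 2 = 0 ∧ M 2 0 = 0 ∧ M 2 1 = 0 := by
    rw [pow_one, mul_inv_eq_iff_eq_mul] at h2
    have e : ∀ i j, (Matrix.diagonal (fun l : Fin 3 => if l = 2 then κ.ω else 1) * M) i j =
        (M * Matrix.diagonal (fun l : Fin 3 => if l = 2 then κ.ω else 1)) i j := fun i j => by
      have := congrArg (fun x : GL (Fin 3) F => (x : Matrix (Fin 3) (Fin 3) F) i j) h2
      simpa [gh, dgl, apply_ite, Fld.w_val] using this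
    have a := e 0 2
    have b := e 1 2
    have c := e 2 0
    have d := e 2 1
    simp [Matrix.diagonal_mul, Matrix.mul_diagonal] at a b c d
    have hd1 := κ.d1
    exact ⟨(mul_eq_zero.1 (show (κ.ω - 1) * _ = 0 by linear_combination -a)).resolve_left hd1,
      (mul_eq_zero.1 (show (κ.ω - 1) * _ = 0 by linear_combination -b)).resolve_left hd1,
      (mul_eq_zero.1 (show (κ.ω - 1) * _ = 0 by linear_combination c)).resolve_left hd1,
      (mul_eq_zero.1 (show (κ.ω - 1) * _ = 0 by linear_combination d)).resolve_left hd1⟩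
  set N := M - 1 with hN
  have hNQ : N ^ q ^ k = 0 := by
    rw [hN, sub_pow_char_pow_of_commute q k (Commute.one_right M), one_pow, hM,
      ← Units.val_pow_eq_pow_val, hAk, Units.val_one, sub_self]
  have hNz : N 0 2 = 0 ∧ N 1 2 = 0 ∧ N 2 0 = 0 ∧ N 2 1 = 0 := by
    simp [hN, hz.1, hz.2.1, hz.2.2.1, hz.2.2.2, Matrix.one_apply]
  obtain ⟨z02, z12, z20, z21⟩ := hNz
  have hQ0 : 0 < q ^ k := pow_pos κ.prime.pos _
  have hpow : ∀ l : ℕ, (N ^ l) 2 2 = N 2 2 ^ l ∧ (N ^ l) 2 0 = 0 ∧ (N ^ l) 2 1 = 0 := by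
    intro l
    induction l with
    | zero => simp [Matrix.one_apply]
    | succ l ih =>
      obtain ⟨i1, i2, i3⟩ := ih
      rw [pow_succ N]
      simp [Matrix.mul_apply, Fin.sum_univ_three, i1, i2, i3, z20, z21, z02, z12, pow_succ]
  have n22 : N 2 2 = 0 := by
    have := (hpow (q ^ k)).1
    rw [hNQ, Matrix.zero_apply] at this
    exact (pow_eq_zero_iff hQ0.ne').1 this.symm
  have htr : N 0 0 + N 1 1 = 0 := by
    have := (Matrix.isNilpotent_trace_of_isNilpotent (M := N) ⟨_, hNQ⟩).eq_zero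
    simpa [Matrix.trace, Fin.sum_univ_three, n22] using this
  set d := N 0 0 * N 0 0 + N 0 1 * N 1 0 with hd
  have hsq : N * N = d • Matrix.diagonal ![1, 1, 0] := by
    ext i j
    fin_cases i <;> fin_cases j <;>
      simp [Matrix.mul_apply, Fin.sum_univ_three, hd, z02, z12, z20, z21, n22, Matrix.diagonal] <;> grind
  have hd0 : d = 0 := by
    have e : (N * N) ^ q ^ k = 0 := by rw [(Commute.refl N).mul_pow, hNQ, mul_zero]
    rw [hsq, smul_pow, Matrix.diagonal_pow] at e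
    have := congrFun (congrFun e 0) 0
    exact (pow_eq_zero_iff hQ0.ne').1 (by simpa using this)
  have hN2 : N * N = 0 := by rw [hsq, hd0, zero_smul]
  have hMn : ∀ l : ℕ, M ^ l = 1 + (l : F) • N := by
    intro l
    induction l with
    | zero => simp
    | succ l ih =>
      rw [pow_succ, ih, show M = 1 + N by rw [hN]; abel, Matrix.add_mul, Matrix.mul_add, Matrix.mul_add,
        Matrix.smul_mul, Matrix.smul_mul, hN2, one_mul, one_mul, mul_one, smul_zero, add_zero]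
      push_cast
      rw [add_smul, one_smul]
      abel
  rw [mul_inv_eq_iff_eq_mul] at h3
  have h3v : (gZ κ : Matrix (Fin 3) (Fin 3) F) * M = (1 + (κ.ω ^ 2) • N) * (gZ κ : Matrix (Fin 3) (Fin 3) F) := by
    rw [← hn, ← hMn, hM, ← Units.val_pow_eq_pow_val, ← Units.val_mul, ← Units.val_mul, h3]
  have a := congrFun (congrFun h3v 0) 0
  have c := congrFun (congrFun h3v 1) 0
  simp [gZ, dgl, Fld.w_val, hN, Matrix.mul_diagonal, Matrix.diagonal_mul] at a c
  have hs1 : κ.ω ^ 2 - 1 ≠ 0 := κ.d2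
  have n00 : N 0 0 = 0 := by
    have : (κ.ω ^ 2 - 1) * N 0 0 = 0 := by
      rw [hN, Matrix.sub_apply, Matrix.one_apply_eq]; linear_combination -a
    exact (mul_eq_zero.1 this).resolve_left hs1
  have n10 : N 1 0 = 0 := by
    have : (κ.ω * (κ.ω - 1)) * N 1 0 = 0 := by
      rw [hN, Matrix.sub_apply, Matrix.one_apply_ne (by decide), sub_zero]
      rcases c with c | c
      · exact absurd (mul_left_cancel₀ κ.ω_ne (show κ.ω * κ.ω = κ.ω * 1 by linear_combination -c)) κ.ω_ne_one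
      · rw [c, mul_zero]
    exact (mul_eq_zero.1 this).resolve_left (mul_ne_zero κ.ω_ne κ.d1)
  have hAe : A = elem 0 1 (N 0 1) := by
    apply Units.ext
    rw [elem_val (by decide), ← hM, show M = 1 + N by rw [hN]; abel]
    have n11 : N 1 1 = 0 := by simpa [n00] using htr
    ext i j
    fin_cases i <;> fin_cases j <;>
      simp [Matrix.transvection, n00, n10, n11, n22, z02, z12, z20, z21]
  exact ⟨N 0 1, hAe ▸ hgH⟩

/-- The image on U ⊗ W- contains no transvection. -/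
theorem mW_noTv {H : Subgroup (GL I9 F)} (O : Ovr κ H) : NoTv (mW H).range := by
  classical
  intro v φ h0 hm
  by_contra hne
  obtain ⟨hh, -, hq, -, -, -⟩ := base_gens κ
  have gh' : ∀ j, gh κ j ∈ (mW H).range := fun j => ⟨⟨_, mW_kr_mem (O.base (hh j))⟩, mW_kr _⟩
  have gq' : gq κ ∈ (mW H).range := ⟨⟨_, mW_kr_mem (O.base hq)⟩, mW_kr _⟩
  have he := std_spread κ (fun j b hb => mul_mem (mul_mem (gh' j) hb) (inv_mem (gh' j)))
    (fun b hb => mul_mem (mul_mem gq' hb) (inv_mem gq'))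
    (fun b hb => mul_mem (mul_mem (inv_mem gq') hb) (inv_mem (inv_mem gq'))) h0 hne hm 0 1
    (by decide) 1
  obtain ⟨α, hα⟩ := lift_split κ O he
  obtain ⟨-, -, -, hZ'⟩ := mem_R9_gens κ
  set E : Matrix (Fin 3) (Fin 3) F := Matrix.single 0 1 1 with hE
  have hEE : E * E = 0 := by rw [hE, Matrix.single_mul_single_of_ne _ _ _ _ (by decide)]
  set n := pq κ (elem 0 1 α, elem 0 1 1) with hndef
  have hnv : (n : Matrix I9 I9 F) = 1 + E ⊗ₖ (α • Pp + Pm) := by
    obtain ⟨-, -, -, -, h⟩ := proj_rules κ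
    have e : Matrix.single (0 : Fin 3) (1 : Fin 3) α = α • E := by rw [hE, Matrix.smul_single, smul_eq_mul, mul_one]
    rw [hndef, pq_val, elem_val (by decide), elem_val (by decide), Matrix.transvection,
      Matrix.transvection, e, ← hE, Matrix.add_kronecker, Matrix.add_kronecker, Matrix.smul_kronecker,
      Matrix.kronecker_add, Matrix.kronecker_smul]
    have : (1 : Matrix (Fin 3) (Fin 3) F) ⊗ₖ Pp + (1 : Matrix (Fin 3) (Fin 3) F) ⊗ₖ Pm = 1 := by
      rw [← Matrix.kronecker_add, h, Matrix.one_kronecker_one]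
    rw [← this]
    abel
  set z := kr (1 : GL (Fin 3) F) (gZ κ) with hz
  have hzH : z ∈ H := O.base (R9_le_base κ hZ')
  have hconj : ∀ (g : GL I9 F) (A : Matrix (Fin 3) (Fin 3) F), (g : Matrix I9 I9 F) = 1 + E ⊗ₖ A →
      ((z * g * z⁻¹ : GL I9 F) : Matrix I9 I9 F) = 1 + E ⊗ₖ
        ((gZ κ : Matrix (Fin 3) (Fin 3) F) * A * ((gZ κ)⁻¹ : GL (Fin 3) F).val) := by
    intro g A hg
    rw [hz, show (kr (1 : GL (Fin 3) F) (gZ κ))⁻¹ = kr 1 (gZ κ)⁻¹ from Units.ext rfl,
      Units.val_mul, Units.val_mul, hg]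
    show ((1 : GL (Fin 3) F) : Matrix (Fin 3) (Fin 3) F) ⊗ₖ (gZ κ : Matrix (Fin 3) (Fin 3) F) *
      (1 + E ⊗ₖ A) * (((1 : GL (Fin 3) F) : Matrix (Fin 3) (Fin 3) F) ⊗ₖ ((gZ κ)⁻¹ : GL (Fin 3) F).val) = _
    rw [Matrix.mul_add, Matrix.add_mul, mul_one, ← Matrix.mul_kronecker_mul, ← Matrix.mul_kronecker_mul,
      ← Matrix.mul_kronecker_mul, ← Units.val_mul, ← Units.val_mul, mul_inv_cancel, mul_one,
      Units.val_one, Matrix.one_kronecker_one, Matrix.one_mul, Matrix.mul_one]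
  set g3 := n * (z * n * z⁻¹) * (z * (z * n * z⁻¹) * z⁻¹) with hg3
  have hg3H : g3 ∈ H := mul_mem (mul_mem hα (mul_mem (mul_mem hzH hα) (inv_mem hzH)))
    (mul_mem (mul_mem hzH (mul_mem (mul_mem hzH hα) (inv_mem hzH))) (inv_mem hzH))
  have h2 := κ.two
  have hv : (g3 : Matrix I9 I9 F) = 1 + E ⊗ₖ Matrix.diagonal
      (fun k : Fin 3 => if k = 0 then 3 * α else 3 / 2 * (α + 1)) := by
    have hmul : ∀ A B : Matrix (Fin 3) (Fin 3) F, ((1 : Matrix I9 I9 F) + E ⊗ₖ A) * (1 + E ⊗ₖ B) =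
        1 + E ⊗ₖ (A + B) := fun A B => by
      rw [Matrix.add_mul, Matrix.mul_add, Matrix.mul_add, one_mul, one_mul, mul_one,
        ← Matrix.mul_kronecker_mul, hEE, Matrix.zero_kronecker, add_zero, Matrix.kronecker_add]
      abel
    rw [hg3, Units.val_mul, Units.val_mul, hnv, hconj n _ hnv, hconj _ _ (hconj n _ hnv), hmul, hmul]
    congr 1
    congr 1
    rw [show (gZ κ)⁻¹ = dgl (fun i : Fin 3 => κ.w ^ (i : ℕ))⁻¹ from dgl_inv _]
    have hω := κ.cube
    have rel := κ.rel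
    ext i j
    fin_cases i <;> fin_cases j <;>
      simp [Pp, Pm, gJ, gZ, dgl, Matrix.mul_apply, Fin.sum_univ_three, Matrix.diagonal, Matrix.one_apply,
        Fld.w_val, κ.inv] <;> field_simp <;> grind
  have hCB : g3 ∈ CB κ H := by
    refine Subgroup.mem_inf.2 ⟨hg3H, Subgroup.mem_centralizer_singleton_iff.2 ?_⟩
    apply Units.ext
    rw [Units.val_mul _ (kr (1 : GL (Fin 3) F) (gZ κ)), Units.val_mul (kr (1 : GL (Fin 3) F) (gZ κ)), hv]
    show (1 + _) * (((1 : GL (Fin 3) F) : Matrix (Fin 3) (Fin 3) F) ⊗ₖ (gZ κ : Matrix (Fin 3) (Fin 3) F)) =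
      (((1 : GL (Fin 3) F) : Matrix (Fin 3) (Fin 3) F) ⊗ₖ (gZ κ : Matrix (Fin 3) (Fin 3) F)) * (1 + _)
    rw [Units.val_one, Matrix.add_mul, Matrix.mul_add, one_mul, mul_one,
      ← Matrix.mul_kronecker_mul, ← Matrix.mul_kronecker_mul, one_mul, mul_one]
    congr 2
    show _ * Matrix.diagonal _ = Matrix.diagonal _ * _
    rw [Matrix.diagonal_mul_diagonal, Matrix.diagonal_mul_diagonal]
    simp [mul_comm]
  have e3 : ∀ k : Fin 3, bl κ H k ⟨g3, hCB⟩ = elem 0 1 (if k = 0 then 3 * α else 3 / 2 * (α + 1)) := by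
    intro k
    apply Units.ext
    ext i j
    rw [bl_val, elem_val (by decide)]
    show (g3 : Matrix I9 I9 F) (i, k) (j, k) = _
    rw [hv]
    fin_cases i <;> fin_cases j <;>
      simp [hE, Matrix.transvection, Matrix.single_apply, Matrix.one_apply]
  have bad : ∀ k : Fin 3, (if k = 0 then 3 * α else 3 / 2 * (α + 1)) ≠ 0 → False := by
    intro k hk
    have e := e3 k
    generalize (if k = 0 then 3 * α else 3 / 2 * (α + 1)) = c at hk e
    have h01' : ((c • LinearMap.proj 1 : (Fin 3 → F) →ₗ[F] F)) (Pi.single 0 1) = 0 := by simp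
    have := (tv_eq_one_iff h01').1 (Ablk_noTv κ O k _ _ h01' ⟨⟨g3, hCB⟩, e⟩) (Pi.single 1 1)
    simp at this
    exact hk this
  by_cases hα0 : α = 0
  · exact bad 1 (by simp [hα0, κ.three, h2])
  · exact bad 0 (by simp [hα0, κ.three])

theorem krW3_mem {w : GL (Fin 3) F} (hw : w ∈ W3 κ) : kr w 1 ∈ Base κ := by
  obtain ⟨hh, -, hq, -, -, -⟩ := base_gens κ
  exact ((Subgroup.closure_le ((Base κ).comap krL)).2 (by
    rintro x (⟨k, rfl⟩ | rfl); exacts [hh k, hq]) : W3 κ ≤ _) hw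

/-- The normal form in the centraliser. -/
theorem CJ_form {H : Subgroup (GL I9 F)} (O : Ovr κ H) {g : GL I9 F} (hg : g ∈ CJ H) :
    ∃ z ∈ Cfsg.Geo.scalars I9 F, ∃ w ∈ W3 κ, ∃ s ∈ S24 κ, g = z * kr w s := by
  obtain ⟨hh, -, hq, -, -, -⟩ := base_gens κ
  have gh' : ∀ j, gh κ j ∈ (mW H).range := fun j => ⟨⟨_, mW_kr_mem (O.base (hh j))⟩, mW_kr _⟩
  have gq' : gq κ ∈ (mW H).range := ⟨⟨_, mW_kr_mem (O.base hq)⟩, mW_kr _⟩
  obtain ⟨w, hw, c, hc⟩ := mem_W3 κ (mW_noTv κ O) gh' gq' ⟨⟨g, hg⟩, rfl⟩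
  set z : GL I9 F := dgl fun _ => c with hz
  have hzv : (z : Matrix I9 I9 F) = (c : F) • 1 := by
    rw [Matrix.smul_one_eq_diagonal]; simp [hz, dgl]
  have hzS : z ∈ Cfsg.Geo.scalars I9 F := (Cfsg.Geo.mem_scalars_iff z).2 ⟨c, hzv⟩
  set y := z * kr w 1 with hy
  have hyB : y ∈ Base κ := mul_mem (Subgroup.mem_sup_right hzS) (krW3_mem κ hw)
  have hyC : y ∈ CJ H := by
    refine mem_CJ.2 ⟨O.base hyB, ?_⟩
    have h1 : Commute (kr w 1 : GL I9 F) (kr 1 gJ) := krL_commute _ _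
    have h2 : Commute z (kr 1 gJ) := by
      apply Units.ext
      rw [Units.val_mul, Units.val_mul, hzv]
      simp
    exact (h2.mul_left h1).eq
  have hym : mW H ⟨y, hyC⟩ = mW H ⟨g, hg⟩ := by
    apply Units.ext
    rw [hc, mW_val]
    show mWm y = _
    ext i j
    simp [mWm, hy, hzv, kr_val]
  have hk : mW H (⟨y, hyC⟩⁻¹ * ⟨g, hg⟩) = 1 := by rw [map_mul, map_inv, hym, inv_mul_cancel]
  obtain ⟨s, hs, e⟩ := K1_eq κ O (mW_ker κ hk)
  refine ⟨z, hzS, w, hw, s, hs, ?_⟩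
  have e' : y⁻¹ * g = kr 1 s := e
  rw [show g = y * (y⁻¹ * g) by group, e', hy, mul_assoc, kr_mul, mul_one, one_mul]

/-- The centraliser of the involution lies in the base group. -/
theorem CJ_le_base {H : Subgroup (GL I9 F)} (O : Ovr κ H) {g : GL I9 F} (hg : g ∈ H)
    (hc : g * kr 1 gJ = kr 1 gJ * g) : g ∈ Base κ := by
  obtain ⟨z, hz, w, hw, s, hs, rfl⟩ := CJ_form κ O (mem_CJ.2 ⟨hg, hc⟩)
  rw [kr_eq]
  exact mul_mem (Subgroup.mem_sup_right hz) (mul_mem (krW3_mem κ hw) (S24_props κ hs).2.2)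

end Cfsg.Agent.C6Three
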