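/-
A group on four coordinates without transvections that contains the frame homologies and the two
Fourier matrices is generated by them modulo scalars.
Main results: `ev4`, `gA4`, `gB4`, `gh4`, `W4`, `mem_W4`.
-/
import Cfsg.Agent.Lib.C6Three.Eis
import Cfsg.Agent.Lib.C6Three.Four

set_option autoImplicit false
set_option linter.unusedSectionVars false
set_option linter.unusedSimpArgs false

namespace Cfsg.Agent.C6Three

open Matrix Cfsg.Agent.Transvect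
open scoped Matrix Kronecker

variable {F : Type*} [Field F] [Fintype F] (κ : Fld F)

/-- Four by four matrices of Eisenstein integers. -/
abbrev EM4 : Type := Fin 4 → Fin 4 → ℤ × ℤ

/-- The product. -/
def emul4 (A B : EM4) : EM4 := fun p q => ∑ r, eisMul (A p r) (B r q)

/-- A diagonal matrix of powers of ω. -/
def ediag4 (d : Fin 4 → ℕ) : EM4 := fun p q => if p = q then eisPow (d p) else 0

/-- Three times the identity. -/
def eThree4 : EM4 := fun p q => if p = q then (3, 0) else 0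

/-- Evaluation. -/
def ev4 (A : EM4) : Matrix (Fin 4) (Fin 4) F := Matrix.of fun p q => evs κ (A p q)

theorem ev4_mul (A B : EM4) : ev4 κ (emul4 A B) = ev4 κ A * ev4 κ B := by
  ext p q
  simp only [ev4, Matrix.of_apply, Matrix.mul_apply, emul4, evs_sum, evs_mul]

theorem ev4_nsmul (n : ℕ) (A : EM4) : ev4 κ (n • A) = (n : F) • ev4 κ A := by
  induction n with
  | zero => ext p q; simp [ev4, evs_zero]
  | succ n ih =>
    rw [succ_nsmul, Nat.cast_succ, add_smul, one_smul, ← ih]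
    ext p q
    simp [ev4, evs_add]

theorem ev4_three : ev4 κ eThree4 = (3 : F) • 1 := by
  ext p q
  by_cases h : p = q
  · subst h; simp [ev4, eThree4, evs]
  · simp [ev4, eThree4, h, evs]

/-- The scaled Fourier matrix of the right factor. -/
def eA4 : EM4 := ![![(1, 2), 0, 0, 0], ![0, (1, 0), (1, 0), (1, 0)], ![0, (1, 0), (0, 1), (-1, -1)],
  ![0, (1, 0), (-1, -1), (0, 1)]]

/-- Its conjugate. -/
def eA4' : EM4 := ![![(-1, -2), 0, 0, 0], ![0, (1, 0), (1, 0), (1, 0)], ![0, (1, 0), (-1, -1), (0, 1)],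
  ![0, (1, 0), (0, 1), (-1, -1)]]

/-- The scaled Fourier matrix of the left factor. -/
def eB4 : EM4 := ![![(1, 0), 0, (1, 0), (-1, 0)], ![0, (1, 2), 0, 0], ![(1, 0), 0, (0, 1), (1, 1)],
  ![(-1, 0), 0, (1, 1), (0, 1)]]

/-- Its conjugate. -/
def eB4' : EM4 := ![![(1, 0), 0, (1, 0), (-1, 0)], ![0, (-1, -2), 0, 0], ![(1, 0), 0, (-1, -1), (0, -1)],
  ![(-1, 0), 0, (0, -1), (-1, -1)]]

/-- The exponents of the k-th homology. -/
def eh4 (k : Fin 4) : Fin 4 → ℕ := fun i => if i = k then 1 else 0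

/-- The integers c4. -/
def c4z : Fin 4 → Fin 4 → ℤ := ![![0, 1, 1, 1], ![1, 0, 1, -1], ![-1, 1, 0, -1], ![1, 1, -1, 0]]

/-- Three times a homology of one of the points. -/
def ePt (l : Fin 4) (w : Fin 4 → ℕ) : EM4 := fun a b =>
  eThree4 a b + eisMul (eisMul (-1, 1) (c4z l a * c4z l b, 0)) (eisPow (w a + 2 * w b))

/-- Exponents. -/
def w12 : Fin 4 → ℕ := ![0, 0, 1, 2]

/-- The exchange of the last two coordinates. -/
def s23 : Fin 4 → Fin 4 := ![0, 1, 3, 2]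

set_option maxRecDepth 100000 in
theorem facts4 :
    emul4 eA4 eA4' = eThree4 ∧ emul4 eA4' eA4 = eThree4 ∧
    emul4 eB4 eB4' = eThree4 ∧ emul4 eB4' eB4 = eThree4 ∧
    emul4 (ePt 0 fun _ => 0) eA4 = emul4 eA4 ((3 : ℕ) • ediag4 (eh4 1)) ∧
    emul4 (ePt 1 fun _ => 0) eB4 = emul4 eB4 ((3 : ℕ) • ediag4 (eh4 0)) ∧
    emul4 (ePt 2 fun _ => 0) (emul4 eB4 eA4) = emul4 (emul4 eB4 eA4) ((3 : ℕ) • ediag4 (eh4 3)) ∧
    emul4 (ePt 3 fun _ => 0) (emul4 eB4 eA4) = emul4 (emul4 eB4 eA4) ((3 : ℕ) • ediag4 (eh4 2)) ∧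
    emul4 (ePt 0 w12) eA4 = emul4 eA4 ((3 : ℕ) • ediag4 (eh4 2)) ∧
    emul4 (ePt 1 w12) eB4 = emul4 eB4 ((3 : ℕ) • ediag4 (eh4 2)) ∧
    (∀ k, emul4 (emul4 eA4 eA4) (ediag4 (eh4 k)) = emul4 (ediag4 (eh4 (s23 k))) (emul4 eA4 eA4)) := by
  refine ⟨?_, ?_, ?_, ?_, ?_, ?_, ?_, ?_, ?_, ?_, ?_⟩ <;> decide +kernel

/-- The Fourier scalar. -/
def qc : F := (κ.ω - κ.ω ^ 2)⁻¹

theorem qc_ne : qc κ ≠ 0 := by
  refine inv_ne_zero ?_
  rw [show κ.ω - κ.ω ^ 2 = κ.ω * (1 - κ.ω) by ring]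
  exact mul_ne_zero κ.ω_ne (sub_ne_zero.2 κ.ω_ne_one.symm)

theorem qc_mul : qc κ * -qc κ * 3 = 1 := by
  have h : (κ.ω - κ.ω ^ 2) * (κ.ω - κ.ω ^ 2) = -3 := by
    linear_combination κ.rel + (κ.ω - 2) * κ.cube
  have h3 := κ.three
  rw [qc, mul_neg, ← mul_inv, h]
  field_simp

theorem scaled_inv {E E' : EM4} (h : emul4 E E' = eThree4) :
    (qc κ • ev4 κ E) * ((-qc κ) • ev4 κ E') = 1 := by
  rw [Matrix.smul_mul, Matrix.mul_smul, ← ev4_mul, h, ev4_three, smul_smul, smul_smul, qc_mul, one_smul]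

theorem scaled_inv' {E E' : EM4} (h : emul4 E' E = eThree4) :
    ((-qc κ) • ev4 κ E') * (qc κ • ev4 κ E) = 1 := by
  rw [Matrix.smul_mul, Matrix.mul_smul, ← ev4_mul, h, ev4_three, smul_smul, smul_smul,
    mul_comm (-qc κ), qc_mul, one_smul]

/-- The Fourier matrix of the right factor on the negative eigenspace. -/
def gA4 : GL (Fin 4) F :=
  ⟨qc κ • ev4 κ eA4, (-qc κ) • ev4 κ eA4', scaled_inv κ facts4.1, scaled_inv' κ facts4.2.1⟩

/-- The Fourier matrix of the left factor on the negative eigenspace. -/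
def gB4 : GL (Fin 4) F :=
  ⟨qc κ • ev4 κ eB4, (-qc κ) • ev4 κ eB4', scaled_inv κ facts4.2.2.1, scaled_inv' κ facts4.2.2.2.1⟩

/-- The frame homologies. -/
def gh4 (k : Fin 4) : GL (Fin 4) F := dgl fun i => κ.w ^ eh4 k i

theorem gh4_val (k : Fin 4) : (gh4 κ k : Matrix (Fin 4) (Fin 4) F) = ev4 κ (ediag4 (eh4 k)) := by
  ext p q
  by_cases h : p = q
  · subst h; simp [gh4, dgl, ev4, ediag4, evs_pow, Fld.w_val]
  · simp [gh4, dgl, ev4, ediag4, h, evs_zero]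

/-- A point homology. -/
noncomputable def gpt4 (l : Fin 4) (w : Fin 4 → ℕ) : GL (Fin 4) F :=
  hom κ.ω (qV κ (se : Fin 4 → Fin 4 → F) l w) (qD κ (sf : Fin 4 → (Fin 4 → F) →ₗ[F] F) l w)

theorem gpt4_val (l : Fin 4) (w : Fin 4 → ℕ) (a b : Fin 4) :
    (gpt4 κ l w : Matrix (Fin 4) (Fin 4) F) a b = (if a = b then 1 else 0) +
      (κ.ω - 1) * (3 : F)⁻¹ * (c4 l a * c4 l b * (κ.ω ^ w a * κ.ω ^ (2 * w b))) := by
  rw [gpt4, hom_val (qD_qV κ std_dual l w) κ.ω_ne, tmat, Matrix.add_apply, Matrix.one_apply,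
    Matrix.vecMulVec_apply]
  simp [qV, qD, vco, dco, sf, se, Finset.sum_apply, Pi.single_apply, LinearMap.sum_apply]
  ring

theorem gpt4_ev (l : Fin 4) (w : Fin 4 → ℕ) :
    (3 : F) • (gpt4 κ l w : Matrix (Fin 4) (Fin 4) F) = ev4 κ (ePt l w) := by
  have h3 := κ.three
  ext a b
  have hc : ∀ i, (c4 l i : F) = (c4z l i : F) := fun i => by
    fin_cases l <;> fin_cases i <;> simp [c4, c4z]
  rw [Matrix.smul_apply, gpt4_val, smul_eq_mul, hc, hc, ← pow_add]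
  simp only [ev4, ePt, Matrix.of_apply, evs_add, evs_mul, evs_pow]
  by_cases h : a = b
  · simp [h, eThree4, evs]; field_simp; ring
  · simp [h, eThree4, evs]; field_simp; ring

theorem conj_pt {G : GL (Fin 4) F} {E : EM4} {t : F} (hG : (G : Matrix (Fin 4) (Fin 4) F) = t • ev4 κ E)
    {l k : Fin 4} {w : Fin 4 → ℕ}
    (h : emul4 (ePt l w) E = emul4 E ((3 : ℕ) • ediag4 (eh4 k))) :
    gpt4 κ l w = G * gh4 κ k * G⁻¹ := by
  rw [eq_mul_inv_iff_mul_eq]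
  apply Units.ext
  have e := congrArg (ev4 κ) h
  rw [ev4_mul, ev4_mul, ev4_nsmul, ← gpt4_ev, Matrix.smul_mul, Matrix.mul_smul, ← gh4_val] at e
  push_cast at e
  have e' := (smul_right_injective _ κ.three) e
  rw [Units.val_mul, Units.val_mul, hG, Matrix.mul_smul, Matrix.smul_mul, e']

/-- The group generated by the frame homologies and the two Fourier matrices. -/
def W4 : Subgroup (GL (Fin 4) F) := Subgroup.closure (Set.range (gh4 κ) ∪ {gA4 κ, gB4 κ})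

theorem gh4_mem (k : Fin 4) : gh4 κ k ∈ W4 κ := Subgroup.subset_closure (Or.inl ⟨k, rfl⟩)
theorem gA4_mem : gA4 κ ∈ W4 κ := Subgroup.subset_closure (Or.inr (by simp))
theorem gB4_mem : gB4 κ ∈ W4 κ := Subgroup.subset_closure (Or.inr (by simp))

/-- The diagonal elements. -/
def gD4 (w : Fin 4 → ℕ) : GL (Fin 4) F := dgl fun i => κ.w ^ w i

theorem gD4_mem (w : Fin 4 → ℕ) : gD4 κ w ∈ W4 κ := by
  have : gD4 κ w = gh4 κ 0 ^ w 0 * gh4 κ 1 ^ w 1 * gh4 κ 2 ^ w 2 * gh4 κ 3 ^ w 3 := by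
    have hp : ∀ (k : Fin 4) (n : ℕ), gh4 κ k ^ n = dgl fun i => κ.w ^ (n * eh4 k i) := by
      intro k n
      induction n with
      | zero => rw [pow_zero, ← dgl_one]; congr 1; funext i; simp
      | succ n ih =>
        rw [pow_succ, ih, gh4, dgl_mul]
        congr 1
        funext i
        rw [Pi.mul_apply, ← pow_add]
        congr 1
        ring
    simp only [hp, dgl_mul, gD4]
    congr 1
    funext i
    fin_cases i <;> simp [eh4]
  rw [this]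
  exact mul_mem (mul_mem (mul_mem (pow_mem (gh4_mem κ 0) _) (pow_mem (gh4_mem κ 1) _))
    (pow_mem (gh4_mem κ 2) _)) (pow_mem (gh4_mem κ 3) _)

theorem gpt4_base (l : Fin 4) (w : Fin 4 → ℕ) :
    gpt4 κ l w = gD4 κ w * gpt4 κ l (fun _ => 0) * (gD4 κ w)⁻¹ := by
  rw [gD4, dgl_inv]
  apply Units.ext
  ext a b
  rw [Units.val_mul, Units.val_mul]
  simp only [dgl, Matrix.mul_diagonal, Matrix.diagonal_mul]
  rw [gpt4_val, gpt4_val]
  simp only [Pi.inv_apply, Units.val_pow_eq_pow_val, Units.val_inv_eq_inv_val, Fld.w_val]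
  have e : ∀ n : ℕ, (κ.ω ^ n)⁻¹ = κ.ω ^ (2 * n) := fun n =>
    inv_eq_of_mul_eq_one_right (by rw [mul_comm, inv_pow κ])
  rw [e]
  by_cases h : a = b
  · subst h; simp; linear_combination -inv_pow κ (w a)
  · simp [h]; ring

/-- The base points as conjugates of frame homologies. -/
theorem base_conj (l : Fin 4) : ∃ g ∈ W4 κ, ∃ k, gpt4 κ l (fun _ => 0) = g * gh4 κ k * g⁻¹ := by
  obtain ⟨-, -, -, -, f0, f1, f2, f3, -, -, -⟩ := facts4
  have hBA : (gB4 κ * gA4 κ : GL (Fin 4) F).val = (qc κ * qc κ) • ev4 κ (emul4 eB4 eA4) := by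
    rw [Units.val_mul, ev4_mul]
    show (qc κ • ev4 κ eB4) * (qc κ • ev4 κ eA4) = _
    rw [Matrix.smul_mul, Matrix.mul_smul, smul_smul]
  fin_cases l
  · exact ⟨_, gA4_mem κ, 1, conj_pt κ rfl f0⟩
  · exact ⟨_, gB4_mem κ, 0, conj_pt κ rfl f1⟩
  · exact ⟨_, mul_mem (gB4_mem κ) (gA4_mem κ), 3, conj_pt κ hBA f2⟩
  · exact ⟨_, mul_mem (gB4_mem κ) (gA4_mem κ), 2, conj_pt κ hBA f3⟩

theorem gh4_eq_hom (k : Fin 4) : gh4 κ k = hom κ.ω (se k) (sf k) := by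
  refine gl_ext fun x => ?_
  rw [hom_apply (by simp [std_dual]) κ.ω_ne]
  funext i
  rw [gh4, app_dgl]
  by_cases hi : i = k
  · subst hi; simp [sf, se, eh4, Fld.w_val]; ring
  · simp [sf, se, eh4, hi]

/-- The configuration of forty. -/
theorem std_quad {A : Subgroup (GL (Fin 4) F)} (hW : W4 κ ≤ A) :
    Quad κ A (se : Fin 4 → Fin 4 → F) sf := by
  refine ⟨std_dual, fun k => gh4_eq_hom κ k ▸ hW (gh4_mem κ k), fun l => ?_⟩
  obtain ⟨g, hg, k, e⟩ := base_conj κ l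
  have : gpt4 κ l (fun _ => 0) ∈ A := e ▸ hW (mul_mem (mul_mem hg (gh4_mem κ k)) (inv_mem hg))
  simpa [gpt4, qV, qD, vco, dco] using this

theorem conj_pts4 {A : Subgroup (GL (Fin 4) F)} (hA : NoTv A) (hW : W4 κ ≤ A)
    {a : GL (Fin 4) F} (ha : a ∈ A) {x : GL (Fin 4) F}
    (hx : ∃ k, x = gh4 κ k) :
    (∃ i, a * x * a⁻¹ = gh4 κ i) ∨ ∃ l w, a * x * a⁻¹ = gpt4 κ l w := by
  obtain ⟨k, rfl⟩ := hx
  have h1 : (sf k : (Fin 4 → F) →ₗ[F] F) (se k) = 1 := by simp [std_dual]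
  have T := std_quad κ hW
  set u := app a (se k : Fin 4 → F)
  set φ := (sf k : (Fin 4 → F) →ₗ[F] F) ∘ₗ (app a⁻¹).toLinearMap with hφ
  have hu : φ u = 1 := by
    simp only [hφ, u, LinearMap.comp_apply, LinearEquiv.coe_coe, app_inv_app, h1]
  have hm : hom κ.ω u φ ∈ A := by
    rw [← hom_conj h1 κ.ω_ne]
    exact mul_mem (mul_mem ha (T.frame k)) (inv_mem ha)
  rw [gh4_eq_hom κ k, hom_conj h1 κ.ω_ne]
  rcases T.forty κ hA (std_vec _) (std_fun _) hu hm with ⟨i, h⟩ | ⟨l, w, h⟩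
  · exact Or.inl ⟨i, by rw [gh4_eq_hom, Same.hom_eq h hu (by simp [std_dual]) κ.ω_ne]⟩
  · exact Or.inr ⟨l, w, Same.hom_eq h hu (qD_qV κ std_dual l w) κ.ω_ne⟩

theorem gh4_ne {i k : Fin 4} (h : i ≠ k) : gh4 κ i ≠ gh4 κ k := fun e => by
  have := congrArg (fun x : GL (Fin 4) F => (x : Matrix (Fin 4) (Fin 4) F) i i) e
  simp [gh4, dgl, eh4, h, Fld.w_val] at this
  exact κ.ω_ne_one this

/-- A point commuting with a frame homology has that coordinate zero. -/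
theorem pt_comm {l k : Fin 4} {w : Fin 4 → ℕ} (h : gpt4 κ l w * gh4 κ k = gh4 κ k * gpt4 κ l w) :
    l = k := by
  by_contra hlk
  obtain ⟨b, hbl, hbk⟩ : ∃ b : Fin 4, b ≠ l ∧ b ≠ k := by
    have : ∀ l k : Fin 4, ∃ b, b ≠ l ∧ b ≠ k := by decide
    exact this l k
  have := congrArg (fun x : GL (Fin 4) F => (x : Matrix (Fin 4) (Fin 4) F) k b) h
  simp only [gh4, dgl, Units.val_mul, Matrix.mul_diagonal, Matrix.diagonal_mul] at this
  rw [gpt4_val] at this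
  simp [eh4, hbk, Ne.symm hbk, Fld.w_val] at this
  have hc : ∀ i, i ≠ l → (c4 l i : F) ≠ 0 := fun i hi => by
    fin_cases l <;> fin_cases i <;> first | exact absurd rfl hi | simp [c4]
  have hX : (κ.ω - 1) * (3 : F)⁻¹ * (c4 l k * c4 l b * (κ.ω ^ w k * κ.ω ^ (2 * w b))) ≠ 0 :=
    mul_ne_zero (mul_ne_zero κ.d1 (inv_ne_zero κ.three))
      (mul_ne_zero (mul_ne_zero (hc k (Ne.symm hlk)) (hc b hbl))
        (mul_ne_zero (pow_ne_zero _ κ.ω_ne) (pow_ne_zero _ κ.ω_ne)))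
  exact κ.ω_ne_one (mul_right_cancel₀ hX (by first | linear_combination this | linear_combination -this))

theorem gAA_swap (k : Fin 4) :
    gA4 κ * gA4 κ * gh4 κ k * (gA4 κ * gA4 κ)⁻¹ = gh4 κ (s23 k) := by
  rw [mul_inv_eq_iff_eq_mul]
  apply Units.ext
  have e := congrArg (ev4 κ) (facts4.2.2.2.2.2.2.2.2.2.2 k)
  simp only [ev4_mul, ← gh4_val] at e
  simp only [Units.val_mul, show (gA4 κ : Matrix (Fin 4) (Fin 4) F) = qc κ • ev4 κ eA4 from rfl,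
    Matrix.smul_mul, Matrix.mul_smul, smul_smul]
  rw [e]

theorem two_to_one : ∃ v ∈ W4 κ, v * gh4 κ 0 = gh4 κ 0 * v ∧ v * gh4 κ 2 * v⁻¹ = gh4 κ 1 := by
  obtain ⟨-, -, -, -, f0, -, -, -, g0, -, -⟩ := facts4
  refine ⟨(gA4 κ)⁻¹ * (gD4 κ w12)⁻¹ * gA4 κ,
    mul_mem (mul_mem (inv_mem (gA4_mem κ)) (inv_mem (gD4_mem κ _))) (gA4_mem κ), ?_, ?_⟩
  · have hD : Commute (gD4 κ w12) (gh4 κ 0) := by
      show _ = _
      rw [gD4, gh4, dgl_mul, dgl_mul, mul_comm]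
    have hA : Commute (gA4 κ) (gh4 κ 0) := by
      apply Units.ext
      rw [Units.val_mul, Units.val_mul]
      ext a b
      simp only [gh4, dgl, Matrix.mul_diagonal, Matrix.diagonal_mul]
      fin_cases a <;> fin_cases b <;> simp [gA4, ev4, eA4, eh4, evs, Fld.w_val] <;> ring
    exact ((hA.inv_left.mul_left hD.inv_left).mul_left hA).eq
  · have e1 := conj_pt κ (G := gA4 κ) rfl f0
    have e2 := conj_pt κ (G := gA4 κ) rfl g0
    rw [gpt4_base, e1] at e2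
    have hg : ∀ (X Y a b : GL (Fin 4) F), Y * (X * a * X⁻¹) * Y⁻¹ = X * b * X⁻¹ →
        X⁻¹ * Y⁻¹ * X * b * (X⁻¹ * Y⁻¹ * X)⁻¹ = a := fun X Y a b h => by
      rw [show X⁻¹ * Y⁻¹ * X * b * (X⁻¹ * Y⁻¹ * X)⁻¹ = X⁻¹ * Y⁻¹ * (X * b * X⁻¹) * Y * X by group, ← h]
      group
    exact hg _ _ _ _ e2

theorem to_zero4 (k : Fin 4) : ∃ v ∈ W4 κ, v * gh4 κ k * v⁻¹ = gh4 κ 0 := by
  obtain ⟨-, -, -, -, -, f1, -, -, -, g1, -⟩ := facts4
  obtain ⟨n, hn, -, hn2⟩ := two_to_one κ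
  have e1 := conj_pt κ (G := gB4 κ) rfl f1
  have e2 := conj_pt κ (G := gB4 κ) rfl g1
  rw [gpt4_base, e1] at e2
  set M := (gB4 κ)⁻¹ * (gD4 κ w12)⁻¹ * gB4 κ with hM
  have hMW : M ∈ W4 κ :=
    mul_mem (mul_mem (inv_mem (gB4_mem κ)) (inv_mem (gD4_mem κ _))) (gB4_mem κ)
  have hM2 : M * gh4 κ 2 * M⁻¹ = gh4 κ 0 := by
    rw [hM, show (gB4 κ)⁻¹ * (gD4 κ w12)⁻¹ * gB4 κ * gh4 κ 2 * ((gB4 κ)⁻¹ * (gD4 κ w12)⁻¹ * gB4 κ)⁻¹ =
      (gB4 κ)⁻¹ * (gD4 κ w12)⁻¹ * (gB4 κ * gh4 κ 2 * (gB4 κ)⁻¹) * gD4 κ w12 * gB4 κ by group, ← e2]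
    group
  fin_cases k
  · exact ⟨1, one_mem _, by simp⟩
  · refine ⟨M * n⁻¹, mul_mem hMW (inv_mem hn), ?_⟩
    show M * n⁻¹ * gh4 κ 1 * (M * n⁻¹)⁻¹ = _
    rw [← hM2, ← hn2]; group
  · exact ⟨M, hMW, hM2⟩
  · refine ⟨M * (gA4 κ * gA4 κ), mul_mem hMW (mul_mem (gA4_mem κ) (gA4_mem κ)), ?_⟩
    show M * (gA4 κ * gA4 κ) * gh4 κ 3 * (M * (gA4 κ * gA4 κ))⁻¹ = _
    rw [show M * (gA4 κ * gA4 κ) * gh4 κ 3 * (M * (gA4 κ * gA4 κ))⁻¹ =
      M * (gA4 κ * gA4 κ * gh4 κ 3 * (gA4 κ * gA4 κ)⁻¹) * M⁻¹ by group, gAA_swap]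
    exact hM2

/-- The normal form. -/
theorem mem_W4 {A : Subgroup (GL (Fin 4) F)} (hA : NoTv A) (hW : W4 κ ≤ A)
    {a : GL (Fin 4) F} (ha : a ∈ A) :
    ∃ w ∈ W4 κ, ∃ c : Fˣ, (a : Matrix (Fin 4) (Fin 4) F) = (c : F) • (w : Matrix (Fin 4) (Fin 4) F) := by
  have hd1 := κ.d1
  have h3 := κ.three
  -- every point goes to the first homology
  have pts0 : ∀ x, ((∃ i, x = gh4 κ i) ∨ ∃ l w, x = gpt4 κ l w) →
      ∃ v ∈ W4 κ, v * x * v⁻¹ = gh4 κ 0 := by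
    rintro x (⟨i, rfl⟩ | ⟨l, w, rfl⟩)
    · exact to_zero4 κ i
    · obtain ⟨g, hg, k, e⟩ := base_conj κ l
      obtain ⟨v, hv, hv0⟩ := to_zero4 κ k
      refine ⟨v * g⁻¹ * (gD4 κ w)⁻¹, mul_mem (mul_mem hv (inv_mem hg)) (inv_mem (gD4_mem κ w)), ?_⟩
      rw [gpt4_base, e, ← hv0]; group
  have hne : ∀ {b : GL (Fin 4) F} {k i : Fin 4}, k ≠ 0 → b * gh4 κ 0 = gh4 κ 0 * b →
      b * gh4 κ k * b⁻¹ = gh4 κ i → i ≠ 0 := by
    intro b k i hk hb e hi
    subst hi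
    refine gh4_ne κ hk ?_
    calc gh4 κ k = b⁻¹ * (b * gh4 κ k * b⁻¹) * b := by group
      _ = b⁻¹ * (gh4 κ 0 * b) := by rw [e, mul_assoc]
      _ = gh4 κ 0 := by rw [← hb]; group
  have hcc : ∀ i j : Fin 4, gh4 κ i * gh4 κ j = gh4 κ j * gh4 κ i := fun i j => by
    rw [gh4, gh4, dgl_mul, dgl_mul, mul_comm]
  obtain ⟨w0, hw0, hw0'⟩ := pts0 _ (conj_pts4 κ hA hW ha ⟨0, rfl⟩)
  set a1 := w0 * a with ha1
  have hc0 : a1 * gh4 κ 0 = gh4 κ 0 * a1 := by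
    calc a1 * gh4 κ 0 = (w0 * (a * gh4 κ 0 * a⁻¹) * w0⁻¹) * a1 := by rw [ha1]; group
      _ = gh4 κ 0 * a1 := by rw [hw0']
  have ha1A : a1 ∈ A := mul_mem (hW hw0) ha
  have hcomm_conj : ∀ {b : GL (Fin 4) F} (i k : Fin 4), b * gh4 κ k = gh4 κ k * b →
      (b * gh4 κ i * b⁻¹) * gh4 κ k = gh4 κ k * (b * gh4 κ i * b⁻¹) := fun {b} i k hb =>
    (((show Commute b _ from hb).mul_left (hcc i k)).mul_left (show Commute b _ from hb).inv_left).eq
  -- second homology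
  obtain ⟨a2, ⟨v2, hv2, hva2⟩, hc0', hc1⟩ :
      ∃ b, (∃ v ∈ W4 κ, b = v * a) ∧ b * gh4 κ 0 = gh4 κ 0 * b ∧ b * gh4 κ 1 = gh4 κ 1 * b := by
    have one : ∀ x, ((∃ i, i ≠ 0 ∧ x = gh4 κ i) ∨ ∃ w, x = gpt4 κ 0 w) →
        ∃ v ∈ W4 κ, v * gh4 κ 0 = gh4 κ 0 * v ∧ v * x * v⁻¹ = gh4 κ 1 := by
      rintro x (⟨i, hi, rfl⟩ | ⟨w, rfl⟩)
      · obtain ⟨n, hn, hn0, hn2⟩ := two_to_one κ
        fin_cases i
        · exact absurd rfl hi
        · exact ⟨1, one_mem _, by simp, by simp⟩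
        · exact ⟨n, hn, hn0, hn2⟩
        · refine ⟨n * (gA4 κ * gA4 κ), mul_mem hn (mul_mem (gA4_mem κ) (gA4_mem κ)), ?_, ?_⟩
          · exact ((show Commute n _ from hn0).mul_left (show Commute (gA4 κ * gA4 κ) _ from
              mul_inv_eq_iff_eq_mul.1 (gAA_swap κ 0))).eq
          · show n * (gA4 κ * gA4 κ) * gh4 κ 3 * (n * (gA4 κ * gA4 κ))⁻¹ = _
            rw [show n * (gA4 κ * gA4 κ) * gh4 κ 3 * (n * (gA4 κ * gA4 κ))⁻¹ =
              n * (gA4 κ * gA4 κ * gh4 κ 3 * (gA4 κ * gA4 κ)⁻¹) * n⁻¹ by group, gAA_swap]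
            exact hn2
      · obtain ⟨-, -, -, -, f0, -, -, -, -, -, -⟩ := facts4
        refine ⟨(gA4 κ)⁻¹ * (gD4 κ w)⁻¹, mul_mem (inv_mem (gA4_mem κ)) (inv_mem (gD4_mem κ w)), ?_, ?_⟩
        · have hA : Commute (gA4 κ) (gh4 κ 0) := by
            apply Units.ext
            rw [Units.val_mul, Units.val_mul]
            ext a b
            simp only [gh4, dgl, Matrix.mul_diagonal, Matrix.diagonal_mul]
            fin_cases a <;> fin_cases b <;> simp [gA4, ev4, eA4, eh4, evs, Fld.w_val] <;> ring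
          have hD : Commute (gD4 κ w) (gh4 κ 0) := by
            show _ = _
            rw [gD4, gh4, dgl_mul, dgl_mul, mul_comm]
          exact (hA.inv_left.mul_left hD.inv_left).eq
        · rw [gpt4_base, conj_pt κ (G := gA4 κ) rfl f0]; group
    rcases conj_pts4 κ hA hW ha1A ⟨1, rfl⟩ with ⟨i, hi⟩ | ⟨l, w, hi⟩
    all_goals
      obtain ⟨v, hv, hv0, hv1⟩ := one (a1 * gh4 κ 1 * a1⁻¹) (by
        first
        | exact Or.inl ⟨i, hne (by decide) hc0 hi, hi⟩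
        | (refine Or.inr ⟨w, ?_⟩
           have : l = 0 := pt_comm κ (hi ▸ hcomm_conj 1 0 hc0)
           rw [hi, this]))
      refine ⟨v * a1, ⟨v * w0, mul_mem hv hw0, by rw [ha1, mul_assoc]⟩,
        ((show Commute v _ from hv0).mul_left hc0).eq, ?_⟩
      calc v * a1 * gh4 κ 1 = v * (a1 * gh4 κ 1 * a1⁻¹) * v⁻¹ * (v * a1) := by group
        _ = gh4 κ 1 * (v * a1) := by rw [hv1]
  have ha2A : a2 ∈ A := hva2 ▸ mul_mem (hW hv2) ha
  -- third homology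
  obtain ⟨a3, ⟨v3, hv3, hva3⟩, hd0, hd1', hd2⟩ :
      ∃ b, (∃ v ∈ W4 κ, b = v * a) ∧ b * gh4 κ 0 = gh4 κ 0 * b ∧ b * gh4 κ 1 = gh4 κ 1 * b ∧
        b * gh4 κ 2 = gh4 κ 2 * b := by
    rcases conj_pts4 κ hA hW ha2A ⟨2, rfl⟩ with ⟨i, hi⟩ | ⟨l, w, hi⟩
    · have hi1 : i ≠ 1 := fun e => gh4_ne κ (show (2 : Fin 4) ≠ 1 by decide) (by
        subst e
        calc gh4 κ 2 = a2⁻¹ * (a2 * gh4 κ 2 * a2⁻¹) * a2 := by group
          _ = a2⁻¹ * (gh4 κ 1 * a2) := by rw [hi, mul_assoc]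
          _ = gh4 κ 1 := by rw [← hc1]; group)
      have hi0 := hne (by decide) hc0' hi
      obtain rfl | rfl : i = 2 ∨ i = 3 := by
        have key : ∀ i : Fin 4, i ≠ 0 → i ≠ 1 → i = 2 ∨ i = 3 := by decide
        exact key i hi0 hi1
      · exact ⟨a2, ⟨v2, hv2, hva2⟩, hc0', hc1, mul_inv_eq_iff_eq_mul.1 hi⟩
      · refine ⟨gA4 κ * gA4 κ * a2, ⟨gA4 κ * gA4 κ * v2, mul_mem (mul_mem (gA4_mem κ) (gA4_mem κ)) hv2,
          by rw [hva2, mul_assoc _ v2]⟩, ?_, ?_, ?_⟩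
        · exact ((show Commute (gA4 κ * gA4 κ) _ from
            mul_inv_eq_iff_eq_mul.1 (gAA_swap κ 0)).mul_left hc0').eq
        · exact ((show Commute (gA4 κ * gA4 κ) _ from
            mul_inv_eq_iff_eq_mul.1 (gAA_swap κ 1)).mul_left hc1).eq
        · calc gA4 κ * gA4 κ * a2 * gh4 κ 2
              = gA4 κ * gA4 κ * (a2 * gh4 κ 2 * a2⁻¹) * (gA4 κ * gA4 κ)⁻¹ * (gA4 κ * gA4 κ * a2) := by group
            _ = _ := by rw [hi, gAA_swap]; rfl
    · exfalso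
      have e0 : l = 0 := pt_comm κ (hi ▸ hcomm_conj 2 0 hc0')
      have e1 : l = 1 := pt_comm κ (hi ▸ hcomm_conj 2 1 hc1)
      rw [e0] at e1
      exact absurd e1 (by decide)
  have ha3A : a3 ∈ A := hva3 ▸ mul_mem (hW hv3) ha
  set M := (a3 : Matrix (Fin 4) (Fin 4) F) with hM
  have hoff : ∀ i j : Fin 4, i ≠ j → M i j = 0 := by
    intro i j hij
    have e : ∀ k : Fin 4, a3 * gh4 κ k = gh4 κ k * a3 → (i = k ∨ j = k) → M i j = 0 := by
      intro k h hk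
      have := congrArg (fun x : GL (Fin 4) F => (x : Matrix (Fin 4) (Fin 4) F) i j) h
      simp only [gh4, dgl, Units.val_mul, Matrix.mul_diagonal, Matrix.diagonal_mul, ← hM] at this
      rcases hk with rfl | rfl
      · simp [eh4, Ne.symm hij, Fld.w_val] at this
        refine (mul_eq_zero.1 (?_ : (κ.ω - 1) * M i j = 0)).resolve_left hd1
        linear_combination -this
      · simp [eh4, hij, Fld.w_val] at this
        refine (mul_eq_zero.1 (?_ : (κ.ω - 1) * M i j = 0)).resolve_left hd1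
        linear_combination this
    have key : ∀ i j : Fin 4, i ≠ j → (i = 0 ∨ j = 0) ∨ (i = 1 ∨ j = 1) ∨ (i = 2 ∨ j = 2) := by decide
    rcases key i j hij with h | h | h
    exacts [e 0 hd0 h, e 1 hd1' h, e 2 hd2 h]
  have hdiag : M = Matrix.diagonal fun i => M i i := by
    ext i j
    by_cases hij : i = j
    · subst hij; simp
    · rw [Matrix.diagonal_apply_ne _ hij, hoff i j hij]
  have hM0 : ∀ i, M i i ≠ 0 := fun i h => by
    have := congrArg (fun x : GL (Fin 4) F => (x : Matrix (Fin 4) (Fin 4) F) i i) (mul_inv_cancel a3)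
    simp only [Units.val_mul, Units.val_one] at this
    rw [← hM, hdiag, Matrix.diagonal_mul] at this
    simp [h] at this
  -- the images of the two base points
  have img : ∀ (l : Fin 4) (G : GL (Fin 4) F) (k : Fin 4), G ∈ W4 κ →
      gpt4 κ l (fun _ => 0) = G * gh4 κ k * G⁻¹ →
      ∃ w : Fin 4 → ℕ, ∀ i b, i ≠ l → b ≠ l → M i i = M b b * (κ.ω ^ w i * κ.ω ^ (2 * w b)) := by
    intro l G k hG hP
    have hc : ∀ i, i ≠ l → (c4 l i : F) ≠ 0 := fun i hi => by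
      fin_cases l <;> fin_cases i <;> first | exact absurd rfl hi | simp [c4]
    have hcl := c4_self (F := F) l
    rcases conj_pts4 κ hA hW (mul_mem ha3A (hW hG)) ⟨k, rfl⟩ with ⟨i, h⟩ | ⟨l', w, h⟩
    all_goals
      rw [show a3 * G * gh4 κ k * (a3 * G)⁻¹ = a3 * gpt4 κ l (fun _ => 0) * a3⁻¹ by rw [hP]; group,
        mul_inv_eq_iff_eq_mul] at h
      have hv : ∀ x y, M x x * (gpt4 κ l (fun _ => 0) : Matrix (Fin 4) (Fin 4) F) x y =
          (_ : Matrix (Fin 4) (Fin 4) F) x y * M y y := fun x y => by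
        have := congrArg (fun z : GL (Fin 4) F => (z : Matrix (Fin 4) (Fin 4) F) x y) h
        simp only [Units.val_mul, ← hM] at this
        rw [hdiag, Matrix.diagonal_mul, Matrix.mul_diagonal] at this
        exact this
    · exfalso
      obtain ⟨x, y, hxy, hxl, hyl⟩ : ∃ x y : Fin 4, x ≠ y ∧ x ≠ l ∧ y ≠ l := by
        have : ∀ l : Fin 4, ∃ x y : Fin 4, x ≠ y ∧ x ≠ l ∧ y ≠ l := by decide
        exact this l
      have := hv x y
      rw [gpt4_val] at this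
      simp [hxy, gh4, dgl, Matrix.diagonal, hM0 x, hM0 y, hd1, h3, hc x hxl, hc y hyl] at this
    · have hl : l' = l := by
        by_contra hne
        obtain ⟨b, hbl, hbl'⟩ : ∃ b : Fin 4, b ≠ l ∧ b ≠ l' := by
          have : ∀ l k : Fin 4, ∃ b, b ≠ l ∧ b ≠ k := by decide
          exact this l l'
        have := hv l b
        rw [gpt4_val, gpt4_val] at this
        have hc' : ∀ i, i ≠ l' → (c4 l' i : F) ≠ 0 := fun i hi => by
          fin_cases l' <;> fin_cases i <;> first | exact absurd rfl hi | simp [c4]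
        simp [Ne.symm hbl, hM0 b, hd1, h3, κ.ω_ne, hcl, hc' l (Ne.symm hne), hc' b hbl'] at this
      subst hl
      refine ⟨w, fun i b hi hb => ?_⟩
      by_cases hib : i = b
      · subst hib
        rw [mul_comm (κ.ω ^ w i), inv_pow κ, mul_one]
      · have := hv i b
        rw [gpt4_val, gpt4_val] at this
        simp only [if_neg hib, zero_add, pow_zero, mul_zero, mul_one] at this
        refine mul_right_cancel₀ (mul_ne_zero (mul_ne_zero hd1 (inv_ne_zero h3))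
          (mul_ne_zero (hc i hi) (hc b hb))) ?_
        linear_combination this
  obtain ⟨-, -, -, -, f0, f1, -, -, -, -, -⟩ := facts4
  obtain ⟨u, hu⟩ := img 0 _ 1 (gA4_mem κ) (conj_pt κ rfl f0)
  obtain ⟨u', hu'⟩ := img 1 _ 0 (gB4_mem κ) (conj_pt κ rfl f1)
  set ex : Fin 4 → ℕ := ![u' 0 + 2 * u' 2 + (u 2 + 2 * u 1), 0, u 2 + 2 * u 1, u 3 + 2 * u 1] with hex
  refine ⟨v3⁻¹ * gD4 κ ex, mul_mem (inv_mem hv3) (gD4_mem κ ex), Units.mk0 (M 1 1) (hM0 1), ?_⟩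
  have ha' : (a : Matrix (Fin 4) (Fin 4) F) = ((v3⁻¹ : GL (Fin 4) F) : Matrix (Fin 4) (Fin 4) F) * M := by
    rw [hM, hva3, ← Units.val_mul, inv_mul_cancel_left]
  rw [ha', Units.val_mul, Units.val_mk0, ← Matrix.mul_smul, hdiag]
  congr 1
  simp only [gD4, dgl, ← Matrix.diagonal_smul]
  congr 1
  funext i
  have e2 := hu 2 1 (by decide) (by decide)
  have e3 := hu 3 1 (by decide) (by decide)
  have e0 := hu' 0 2 (by decide) (by decide)
  fin_cases i <;> simp [hex, Fld.w_val, pow_add, e2, e3, e0] <;> ring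

end Cfsg.Agent.C6Three
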