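/-
The structure of the standard group of type 3^(1+4) and its normalising involutions of trace one.
Main results: `R9_comm`, `R9_cube`, `R9_scalar`, `R9_centralizer`, `invol_inverts`, `invol_unique`.
-/
import Cfsg.Agent.Lib.C6Three.Bireflection

set_option autoImplicit false
set_option linter.unusedSectionVars false
set_option linter.unusedSimpArgs false

namespace Cfsg.Agent.C6Three

open Matrix Cfsg.Agent.Transvect
open scoped Matrix Kronecker commutatorElement

variable {F : Type*} [Field F] [Fintype F] (κ : Fld F)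

/-- The cube root of unity as a scalar. -/
def gw : GL I9 F := dgl fun _ => κ.w

/-- The centre of the standard group. -/
def Zw : Subgroup (GL I9 F) := Subgroup.zpowers (gw κ)

theorem gw_pow (n : ℕ) : gw κ ^ n = dgl fun _ : I9 => κ.w ^ n := by
  induction n with
  | zero => rw [pow_zero, ← dgl_one]; congr 1; funext i; simp
  | succ n ih => rw [pow_succ, ih, gw, dgl_mul]; congr 1; funext i; simp [pow_succ]

theorem gw_cube : gw κ ^ 3 = 1 := by
  rw [gw_pow, ← dgl_one]; congr 1; funext i; simp [κ.w_cube]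

theorem gw_central (x : GL I9 F) : Commute (gw κ) x := by
  apply Units.ext
  have : ((gw κ : GL I9 F) : Matrix I9 I9 F) = κ.ω • 1 := by
    rw [Matrix.smul_one_eq_diagonal]; simp [gw, dgl, Fld.w_val]
  rw [Units.val_mul, Units.val_mul, this]
  simp

theorem Zw_central {c : GL I9 F} (hc : c ∈ Zw κ) (x : GL I9 F) : Commute c x := by
  obtain ⟨n, rfl⟩ := hc
  exact (gw_central κ x).zpow_left n

theorem Zw_cube {c : GL I9 F} (hc : c ∈ Zw κ) : c ^ 3 = 1 := by
  obtain ⟨n, rfl⟩ := hc
  show (gw κ ^ n) ^ 3 = 1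
  rw [← zpow_natCast, ← _root_.zpow_mul, mul_comm, _root_.zpow_mul, zpow_natCast, gw_cube, _root_.one_zpow]

theorem Zw_sq {c : GL I9 F} (hc : c ∈ Zw κ) (h : c ^ 2 = 1) : c = 1 := by
  have := Zw_cube κ hc
  rwa [pow_succ, h, one_mul] at this

theorem Zw_normal : (Zw κ).Normal :=
  ⟨fun c hc g => by rwa [← (Zw_central κ hc g).eq, mul_inv_cancel_right]⟩

theorem Zw_le_scalars : Zw κ ≤ Cfsg.Geo.scalars I9 F := (Subgroup.zpowers_le).2 ((Cfsg.Geo.mem_scalars_iff _).2
  ⟨κ.w, by rw [Matrix.smul_one_eq_diagonal]; simp [gw, dgl, Fld.w_val]⟩)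

theorem Zw_le_R9 : Zw κ ≤ R9 κ := (Subgroup.zpowers_le).2 (by simpa [gw] using wdgl_mem κ 1)

theorem R9_comm {r s : GL I9 F} (hr : r ∈ R9 κ) (hs : s ∈ R9 κ) : ⁅r, s⁆ ∈ Zw κ := by
  haveI := Zw_normal κ
  set π := QuotientGroup.mk' (Zw κ) with hπ
  have hXZ : ∀ c, c ∈ Zw κ → π c = 1 := fun c hc => (QuotientGroup.eq_one_iff c).2 hc
  have hLZ : π (kr gX 1) * π (kr (gZ κ) 1) = π (kr (gZ κ) 1) * π (kr gX 1) := by
    rw [← map_mul, ← map_mul, kr_mul, kr_mul, gXZ_comm]
    rw [show kr (gZ κ * gX * dgl fun _ => κ.w ^ 2) ((1 : GL (Fin 3) F) * 1) =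
      kr (gZ κ * gX) (1 * 1) * kr (dgl fun _ => κ.w ^ 2) 1 by rw [kr_mul, one_mul, one_mul]]
    rw [map_mul, krL_wdgl, ← gw_pow, hXZ _ (pow_mem (Subgroup.mem_zpowers _) 2), mul_one]
  have hRZ : π (kr 1 gX) * π (kr 1 (gZ κ)) = π (kr 1 (gZ κ)) * π (kr 1 gX) := by
    rw [← map_mul, ← map_mul, kr_mul, kr_mul, gXZ_comm]
    rw [show kr ((1 : GL (Fin 3) F) * 1) (gZ κ * gX * dgl fun _ => κ.w ^ 2) =
      kr (1 * 1) (gZ κ * gX) * kr 1 (dgl fun _ => κ.w ^ 2) by rw [kr_mul, one_mul, one_mul]]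
    rw [map_mul, krR_wdgl, ← gw_pow, hXZ _ (pow_mem (Subgroup.mem_zpowers _) 2), mul_one]
  have hLR : ∀ A B : GL (Fin 3) F, π (kr A 1) * π (kr 1 B) = π (kr 1 B) * π (kr A 1) := fun A B => by
    rw [← map_mul, ← map_mul, kr_mul, kr_mul, mul_one, one_mul, mul_one, one_mul]
  haveI : IsMulCommutative ((R9 κ).map π) := by
    rw [R9, MonoidHom.map_closure]
    refine Subgroup.isMulCommutative_closure ?_
    rintro _ ⟨x, hx, rfl⟩ _ ⟨y, hy, rfl⟩
    rcases hx with rfl | rfl | rfl | rfl <;> rcases hy with rfl | rfl | rfl | rfl <;>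
      first | rfl | exact hLZ | exact hLZ.symm | exact hRZ | exact hRZ.symm | exact hLR _ _ | exact (hLR _ _).symm
  rw [← QuotientGroup.eq_one_iff, ← QuotientGroup.mk'_apply, ← hπ, map_commutatorElement,
    commutatorElement_eq_one_iff_mul_comm]
  exact setLike_mul_comm (show π r ∈ (R9 κ).map π from ⟨r, hr, rfl⟩) (show π s ∈ (R9 κ).map π from ⟨s, hs, rfl⟩)

theorem R9_cube {r : GL I9 F} (hr : r ∈ R9 κ) : r ^ 3 = 1 := by
  have hX : (gX : GL (Fin 3) F) ^ 3 = 1 := by
    apply Units.ext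
    rw [Units.val_pow_eq_pow_val, Units.val_one]
    ext a b
    fin_cases a <;> fin_cases b <;> simp [gX, pow_succ, Matrix.mul_apply, Fin.sum_univ_three]
  have hZ : gZ κ ^ 3 = 1 := by
    rw [pow_succ, pow_two, gZ, dgl_mul, dgl_mul, ← dgl_one]
    congr 1
    funext a
    simp only [Pi.mul_apply, Pi.one_apply]
    rw [← pow_two, ← pow_succ, ← pow_mul, mul_comm, pow_mul, κ.w_cube, one_pow]
  refine And.right (show r ∈ R9 κ ∧ r ^ 3 = 1 from ?_)
  rw [R9] at hr ⊢
  induction hr using Subgroup.closure_induction with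
  | mem x hx =>
    refine ⟨Subgroup.subset_closure hx, ?_⟩
    rcases hx with rfl | rfl | rfl | rfl
    · show krL gX ^ 3 = 1; rw [← map_pow, hX, map_one]
    · show krL (gZ κ) ^ 3 = 1; rw [← map_pow, hZ, map_one]
    · show krR gX ^ 3 = 1; rw [← map_pow, hX, map_one]
    · show krR (gZ κ) ^ 3 = 1; rw [← map_pow, hZ, map_one]
  | one => exact ⟨one_mem _, one_pow _⟩
  | mul a b _ _ ha hb =>
    refine ⟨mul_mem ha.1 hb.1, ?_⟩
    set c := ⁅b, a⁆ with hc
    have hcZ : c ∈ Zw κ := R9_comm κ hb.1 ha.1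
    have hba : b * a = c * (a * b) := by rw [hc, commutatorElement_def]; group
    have hcc := fun x => (Zw_central κ hcZ x).eq
    have e2 : a * b * (a * b) = c * (a ^ 2 * b ^ 2) := by
      calc a * b * (a * b) = a * (b * a) * b := by group
        _ = a * c * (a * b) * b := by rw [hba]; group
        _ = c * (a ^ 2 * b ^ 2) := by rw [← hcc a]; simp only [pow_succ, pow_zero, one_mul]; group
    have e3 : b ^ 2 * a = c ^ 2 * (a * b ^ 2) := by
      calc b ^ 2 * a = b * (b * a) := by simp only [pow_succ, pow_zero, one_mul]; group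
        _ = b * c * (a * b) := by rw [hba]; group
        _ = c * (b * a) * b := by rw [← hcc b]; group
        _ = c ^ 2 * (a * b ^ 2) := by rw [hba]; simp only [pow_succ, pow_zero, one_mul]; group
    calc (a * b) ^ 3 = a * b * (a * b) * (a * b) := by simp only [pow_succ, pow_zero, one_mul]
      _ = c * a ^ 2 * (b ^ 2 * a) * b := by rw [e2]; group
      _ = c * (a ^ 2 * c ^ 2) * (a * b ^ 3) := by rw [e3]; group
      _ = c ^ 3 * (a ^ 3 * b ^ 3) := by
          rw [← (Zw_central κ (pow_mem hcZ 2) (a ^ 2)).eq]; group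
      _ = 1 := by rw [Zw_cube κ hcZ, ha.2, hb.2, one_mul, one_mul]
  | inv a _ ha => exact ⟨inv_mem ha.1, by rw [_root_.inv_pow, ha.2, inv_one]⟩

/-- A scalar of order dividing three is a power of ω. -/
theorem scalar_Zw {g : GL I9 F} (hg : g ∈ Cfsg.Geo.scalars I9 F) (h3 : g ^ 3 = 1) : g ∈ Zw κ := by
  obtain ⟨c, hc⟩ := (Cfsg.Geo.mem_scalars_iff g).1 hg
  have hc3 : (c : F) ^ 3 = 1 := by
    have := congrArg (fun x : GL I9 F => (x : Matrix I9 I9 F) (0, 0) (0, 0)) h3
    simpa [Units.val_pow_eq_pow_val, hc, smul_pow] using this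
  have key : ((c : F) - 1) * ((c : F) - κ.ω) * ((c : F) - κ.ω ^ 2) = 0 := by
    linear_combination hc3 - ((c : F) ^ 2 - (c : F) * κ.ω) * κ.rel + (-1 : F) * κ.cube
  obtain ⟨n, hn⟩ : ∃ n : ℕ, (c : F) = κ.ω ^ n := by
    rcases mul_eq_zero.1 key with e | e
    · rcases mul_eq_zero.1 e with e | e
      · exact ⟨0, by rw [pow_zero]; exact sub_eq_zero.1 e⟩
      · exact ⟨1, by rw [pow_one]; exact sub_eq_zero.1 e⟩
    · exact ⟨2, sub_eq_zero.1 e⟩
  have : g = gw κ ^ n := by
    apply Units.ext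
    rw [gw_pow, hc, hn, Matrix.smul_one_eq_diagonal]
    simp [dgl, Fld.w_val]
  rw [this]
  exact pow_mem (Subgroup.mem_zpowers _) n

theorem R9_scalar {r : GL I9 F} (hr : r ∈ R9 κ) (hs : r ∈ Cfsg.Geo.scalars I9 F) : r ∈ Zw κ :=
  scalar_Zw κ hs (R9_cube κ hr)

/-- The centraliser of the group consists of scalars. -/
theorem R9_centralizer {g : GL I9 F}
    (h : ∀ x ∈ ({kr gX 1, kr (gZ κ) 1, kr 1 gX, kr 1 (gZ κ)} : Set (GL I9 F)), g * x = x * g) :
    g ∈ Cfsg.Geo.scalars I9 F := by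
  have h1 := κ.ω_ne_one
  have h2 := κ.sq_ne_one
  have rel := κ.rel
  have hne : ∀ k l : Fin 3, k ≠ l → κ.ω ^ (k : ℕ) ≠ κ.ω ^ (l : ℕ) := by
    intro k l hkl
    fin_cases k <;> fin_cases l <;> simp at * <;> grind
  set G := (g : Matrix I9 I9 F) with hG
  have hdiag : ∀ (e : I9 → Fin 3) (d : GL I9 F), (d : Matrix I9 I9 F) = Matrix.diagonal (fun p => κ.ω ^ (e p : ℕ)) →
      g * d = d * g → ∀ p q, e p ≠ e q → G p q = 0 := by
    intro e d hd hc p q hpq
    have := congrArg (fun x : GL I9 F => (x : Matrix I9 I9 F) p q) hc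
    simp only [Units.val_mul, hd, Matrix.mul_diagonal, Matrix.diagonal_mul, ← hG] at this
    have h3 : (κ.ω ^ (e p : ℕ) - κ.ω ^ (e q : ℕ)) * G p q = 0 := by linear_combination -this
    exact (mul_eq_zero.1 h3).resolve_left (sub_ne_zero.2 (hne _ _ hpq))
  have vL : (kr (gZ κ) 1 : Matrix I9 I9 F) = Matrix.diagonal fun p => κ.ω ^ (p.1 : ℕ) := by
    ext ⟨a, b⟩ ⟨c, d⟩
    rw [kr_val]
    simp only [gZ, dgl, Units.val_one, Matrix.diagonal_apply, Matrix.one_apply, Prod.mk.injEq]
    by_cases ha : a = c <;> by_cases hb : b = d <;> simp [ha, hb, Fld.w_val]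
  have vR : (kr 1 (gZ κ) : Matrix I9 I9 F) = Matrix.diagonal fun p => κ.ω ^ (p.2 : ℕ) := by
    ext ⟨a, b⟩ ⟨c, d⟩
    rw [kr_val]
    simp only [gZ, dgl, Units.val_one, Matrix.diagonal_apply, Matrix.one_apply, Prod.mk.injEq]
    by_cases ha : a = c <;> by_cases hb : b = d <;> simp [ha, hb, Fld.w_val]
  have off : ∀ p q : I9, p ≠ q → G p q = 0 := fun p q hpq => by
    by_cases e : p.1 = q.1
    · exact hdiag (fun p => p.2) _ vR (h _ (by simp)) p q fun e' => hpq (Prod.ext e e')
    · exact hdiag (fun p => p.1) _ vL (h _ (by simp)) p q e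
  have sh1 : ∀ i k, G (i + 1, k) (i + 1, k) = G (i, k) (i, k) := fun i k => by
    have := congrArg (fun x : GL I9 F => (x : Matrix I9 I9 F) (i + 1, k) (i, k)) (h (kr gX 1) (by simp))
    simp only [Units.val_mul, Matrix.mul_apply, ← hG] at this
    rw [Finset.sum_eq_single (i + 1, k) (fun b _ hb => by rw [off _ _ hb.symm, zero_mul]) (by simp),
      Finset.sum_eq_single (i, k) (fun b _ hb => by rw [off _ _ hb, mul_zero]) (by simp)] at this
    simpa [kr_val, gX] using this
  have sh2 : ∀ i k, G (i, k + 1) (i, k + 1) = G (i, k) (i, k) := fun i k => by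
    have := congrArg (fun x : GL I9 F => (x : Matrix I9 I9 F) (i, k + 1) (i, k)) (h (kr 1 gX) (by simp))
    simp only [Units.val_mul, Matrix.mul_apply, ← hG] at this
    rw [Finset.sum_eq_single (i, k + 1) (fun b _ hb => by rw [off _ _ hb.symm, zero_mul]) (by simp),
      Finset.sum_eq_single (i, k) (fun b _ hb => by rw [off _ _ hb, mul_zero]) (by simp)] at this
    simpa [kr_val, gX] using this
  have all : ∀ p, G p p = G (0, 0) (0, 0) := by
    have r1 : ∀ i k, G (i, k) (i, k) = G (0, k) (0, k) := fun i k => by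
      fin_cases i
      · rfl
      · exact sh1 0 k
      · exact (sh1 1 k).trans (sh1 0 k)
    rintro ⟨i, k⟩
    rw [r1]
    fin_cases k
    · rfl
    · exact sh2 0 0
    · exact (sh2 0 1).trans (sh2 0 0)
  have hform : G = G (0, 0) (0, 0) • 1 := by
    ext p q
    by_cases hpq : p = q
    · subst hpq; simp [all p]
    · simp [hpq, off p q hpq]
  have hc0 : G (0, 0) (0, 0) ≠ 0 := fun e => by
    have := congrArg (fun x : GL I9 F => (x : Matrix I9 I9 F) (0, 0) (0, 0)) (mul_inv_cancel g)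
    simp only [Units.val_mul, ← hG] at this
    rw [hform, e] at this
    simp at this
  exact (Cfsg.Geo.mem_scalars_iff g).2 ⟨Units.mk0 _ hc0, hform⟩

theorem trace_eq_rank {n : Type} [Fintype n] [DecidableEq n] (P : Matrix n n F) (h : P * P = P) :
    P.trace = (P.rank : F) := by
  have hi : IsIdempotentElem (Matrix.toLin' P) := by
    show Matrix.toLin' P * Matrix.toLin' P = _
    rw [Module.End.mul_eq_comp, ← Matrix.toLin'_mul, h]
  rw [← Matrix.trace_toLin'_eq, (LinearMap.IsIdempotentElem.isProj_range _ hi).trace]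
  rfl

/-- An involution of trace one commutes with no non-central element. -/
theorem invol_fixed {w r : GL I9 F} (hw : w ∈ Cfsg.Geo.subgroupNormalizer (R9 κ)) (hw2 : w * w = 1)
    (htr : Matrix.trace (w : Matrix I9 I9 F) = 1) (hr : r ∈ R9 κ) (hc : w * r = r * w) : r ∈ Zw κ := by
  by_contra hrZ
  have hwi : w⁻¹ = w := inv_eq_of_mul_eq_one_right hw2
  obtain ⟨s, hs, hrs⟩ : ∃ s ∈ R9 κ, ⁅r, s⁆ ≠ 1 := by
    by_contra hcon
    push Not at hcon
    refine hrZ (R9_scalar κ hr (R9_centralizer κ fun x hx => ?_))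
    exact commutatorElement_eq_one_iff_mul_comm.1 (hcon x (Subgroup.subset_closure hx))
  set s' := w * s * w⁻¹ with hs'
  have hs'R : s' ∈ R9 κ := (Subgroup.mem_normalizer_iff.1 hw s).1 hs
  set c := ⁅r, s⁆ with hcdef
  have hcZ : c ∈ Zw κ := R9_comm κ hr hs
  have hrconj : r * s * r⁻¹ = c * s := by rw [hcdef, commutatorElement_def]; group
  have hrconj' : r * s' * r⁻¹ = c * s' := by
    rw [hs', show r * (w * s * w⁻¹) * r⁻¹ = (r * w) * s * (r * w)⁻¹ by group, ← hc,
      show w * r * s * (w * r)⁻¹ = w * (r * s * r⁻¹) * w⁻¹ by group, hrconj, ← mul_assoc,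
      ← (Zw_central κ hcZ w).eq]
    group
  set t := s * s' with ht
  have htR : t ∈ R9 κ := mul_mem hs hs'R
  have hwt : w * t = t * w := by
    set d := ⁅s', s⁆ with hd
    have hdZ : d ∈ Zw κ := R9_comm κ hs'R hs
    have e1 : w * t * w⁻¹ = d * t := by
      rw [ht, hd, commutatorElement_def, show w * (s * s') * w⁻¹ = (w * s * w⁻¹) * (w * s' * w⁻¹) by group,
        ← hs', show w * s' * w⁻¹ = (w * w) * s * (w * w)⁻¹ by rw [hs']; group, hw2]
      group
    have e2 : d ^ 2 = 1 := by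
      have : w * (w * t * w⁻¹) * w⁻¹ = t := by
        rw [show w * (w * t * w⁻¹) * w⁻¹ = (w * w) * t * (w * w)⁻¹ by group, hw2]; simp
      rw [e1, ← mul_assoc, ← (Zw_central κ hdZ w).eq,
        show d * w * t * w⁻¹ = d * (w * t * w⁻¹) by group, e1, ← mul_assoc, mul_eq_right] at this
      rw [pow_two, this]
    rw [Zw_sq κ hdZ e2, one_mul, mul_inv_eq_iff_eq_mul] at e1
    exact e1
  set e := ⁅t, r⁆ with he
  have heZ : e ∈ Zw κ := R9_comm κ htR hr
  have he1 : e ≠ 1 := by
    intro h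
    have h1 : t * r = r * t := commutatorElement_eq_one_iff_mul_comm.1 h
    have h2 : r * t * r⁻¹ = c ^ 2 * t := by
      rw [ht, show r * (s * s') * r⁻¹ = (r * s * r⁻¹) * (r * s' * r⁻¹) by group, hrconj, hrconj',
        show c * s * (c * s') = c * (s * c) * s' by group, ← (Zw_central κ hcZ s).eq]
      simp only [pow_succ, pow_zero, one_mul]; group
    rw [← h1, mul_inv_cancel_right, eq_comm, mul_eq_right] at h2
    exact hrs (Zw_sq κ hcZ h2)
  obtain ⟨m, hm⟩ : ∃ m : ℕ, gw κ ^ m = e := mem_powers_iff_mem_zpowers.2 heZ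
  set v := κ.ω ^ m with hv
  have hv3 : v ^ 3 = 1 := by rw [hv, ← pow_mul, mul_comm, pow_mul, κ.cube, one_pow]
  have hev : (e : Matrix I9 I9 F) = v • 1 := by
    rw [← hm, gw_pow, Matrix.smul_one_eq_diagonal]; simp [dgl, hv, Fld.w_val]
  have hv1 : v ≠ 1 := fun h => he1 (Units.ext (by rw [hev, h, one_smul, Units.val_one]))
  have hvrel : 1 + v + v ^ 2 = 0 := by
    have : (v - 1) * (1 + v + v ^ 2) = 0 := by linear_combination hv3
    exact (mul_eq_zero.1 this).resolve_left (sub_ne_zero.2 hv1)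
  set R : Matrix I9 I9 F := (r : Matrix I9 I9 F) with hR
  set T : Matrix I9 I9 F := (t : Matrix I9 I9 F) with hT
  set T' : Matrix I9 I9 F := ((t⁻¹ : GL I9 F) : Matrix I9 I9 F) with hT'
  have hTT : T' * T = 1 := by rw [hT', hT, ← Units.val_mul, inv_mul_cancel, Units.val_one]
  have hTR : T * R * T' = v • R := by
    rw [hT, hR, hT', ← Units.val_mul, ← Units.val_mul,
      show t * r * t⁻¹ = e * r by rw [he, commutatorElement_def]; group, Units.val_mul, hev,
      Matrix.smul_mul, Matrix.one_mul]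
  have hTR2 : T * (R * R) * T' = v ^ 2 • (R * R) := by
    rw [show T * (R * R) * T' = (T * R * T') * (T * R * T') by
      rw [Matrix.mul_assoc (T * R) T', ← Matrix.mul_assoc T' (T * R) T', ← Matrix.mul_assoc T' T R, hTT,
        Matrix.one_mul]
      simp only [Matrix.mul_assoc], hTR, Matrix.smul_mul, Matrix.mul_smul, smul_smul, pow_two]
  set e0 : Matrix I9 I9 F := (3 : F)⁻¹ • (1 + R + R * R) with he0
  have h3 := κ.three
  have hR3 : R * R * R = 1 := by
    have := congrArg Units.val (R9_cube κ hr)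
    rwa [Units.val_pow_eq_pow_val, Units.val_one, pow_succ, pow_two] at this
  have he00 : e0 * e0 = e0 := by
    have hR4 : R * R * (R * R) = R := by rw [← Matrix.mul_assoc, hR3, Matrix.one_mul]
    have hR3' : R * (R * R) = 1 := by rw [← Matrix.mul_assoc, hR3]
    rw [he0, Matrix.smul_mul, Matrix.mul_smul, smul_smul]
    simp only [Matrix.mul_add, Matrix.add_mul, Matrix.one_mul, Matrix.mul_one, hR3, hR3', hR4]
    match_scalars <;> field_simp <;> ring
  have tr3 : ∀ M : Matrix I9 I9 F, M * T = T * M → Matrix.trace M = 3 * Matrix.trace (M * e0) := by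
    intro M hM
    have hconj : ∀ X : Matrix I9 I9 F, Matrix.trace (M * (T * X * T')) = Matrix.trace (M * X) := fun X => by
      rw [← Matrix.mul_assoc, ← Matrix.mul_assoc, hM, Matrix.trace_mul_comm, Matrix.mul_assoc T,
        ← Matrix.mul_assoc T', hTT, Matrix.one_mul]
    have hsum : e0 + T * e0 * T' + T * (T * e0 * T') * T' = 1 := by
      have hT1 : T * T' = 1 := by rw [hT', hT, ← Units.val_mul, mul_inv_cancel, Units.val_one]
      have f1 : T * e0 * T' = (3 : F)⁻¹ • (1 + v • R + v ^ 2 • (R * R)) := by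
        rw [he0, Matrix.mul_smul, Matrix.smul_mul]
        congr 1
        rw [Matrix.mul_add, Matrix.mul_add, Matrix.add_mul, Matrix.add_mul, Matrix.mul_one, hT1, hTR, hTR2]
      have f2 : T * (T * e0 * T') * T' = (3 : F)⁻¹ • (1 + v ^ 2 • R + v ^ 4 • (R * R)) := by
        rw [f1, Matrix.mul_smul, Matrix.smul_mul]
        congr 1
        rw [Matrix.mul_add, Matrix.mul_add, Matrix.add_mul, Matrix.add_mul, Matrix.mul_one, hT1,
          Matrix.mul_smul, Matrix.mul_smul, Matrix.smul_mul, Matrix.smul_mul, hTR, hTR2, smul_smul, smul_smul]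
        ring_nf
      rw [f2, f1, he0]
      match_scalars
      · field_simp; norm_num
      · field_simp; linear_combination hvrel
      · field_simp; linear_combination hvrel + v * hv3
    conv_lhs => rw [← Matrix.mul_one M, ← hsum]
    rw [Matrix.mul_add, Matrix.mul_add, Matrix.trace_add, Matrix.trace_add, hconj, hconj, hconj]
    ring
  set W : Matrix I9 I9 F := (w : Matrix I9 I9 F) with hW
  have hWT : W * T = T * W := by rw [hW, hT, ← Units.val_mul, hwt, Units.val_mul]
  have hW2 : W * W = 1 := by rw [hW, ← Units.val_mul, hw2, Units.val_one]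
  have hWR : W * R = R * W := by rw [hW, hR, ← Units.val_mul, hc, Units.val_mul]
  have hWe : e0 * W = W * e0 := by
    rw [he0, Matrix.smul_mul, Matrix.mul_smul]
    congr 1
    rw [Matrix.mul_add, Matrix.mul_add, Matrix.add_mul, Matrix.add_mul, Matrix.one_mul, Matrix.mul_one,
      ← Matrix.mul_assoc W R R, hWR, Matrix.mul_assoc R W R, hWR, Matrix.mul_assoc]
  set X := W * e0 with hX
  have hXe : X * e0 = X := by rw [hX, Matrix.mul_assoc, he00]
  have heX : e0 * X = X := by rw [hX, ← Matrix.mul_assoc, hWe, Matrix.mul_assoc, he00]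
  have hXX : X * X = e0 := by
    rw [hX, Matrix.mul_assoc, ← Matrix.mul_assoc e0, hWe, Matrix.mul_assoc W e0 e0, he00,
      ← Matrix.mul_assoc, hW2, Matrix.one_mul]
  have h2 := κ.two
  set P := (2 : F)⁻¹ • (e0 + X) with hP
  set M := (2 : F)⁻¹ • (e0 - X) with hM
  have hPP : P * P = P := by
    rw [hP, Matrix.smul_mul, Matrix.mul_smul, smul_smul]
    simp only [Matrix.mul_add, Matrix.add_mul, he00, hXe, heX, hXX]
    match_scalars <;> field_simp <;> ring
  have hMM : M * M = M := by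
    rw [hM, Matrix.smul_mul, Matrix.mul_smul, smul_smul]
    simp only [Matrix.mul_sub, Matrix.sub_mul, he00, hXe, heX, hXX]
    match_scalars <;> field_simp <;> ring
  have heP : e0 * P = P := by rw [hP, Matrix.mul_smul, Matrix.mul_add, he00, heX]
  have heM : e0 * M = M := by rw [hM, Matrix.mul_smul, Matrix.mul_sub, he00, heX]
  haveI : Fact (Fintype.card F).Prime := ⟨κ.prime⟩
  haveI := C6Two.charP_of_card (F := F) (p := Fintype.card F) rfl
  have hp := κ.seven
  have inj : ∀ a b : ℕ, (a : F) = (b : F) → a < Fintype.card F → b < Fintype.card F → a = b :=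
    fun a b h ha hb => Nat.ModEq.eq_of_lt_of_lt ((CharP.natCast_eq_natCast F _).1 h) ha hb
  have he3 : e0.rank = 3 := by
    have h1 := tr3 1 (by rw [Matrix.one_mul, Matrix.mul_one])
    rw [Matrix.one_mul, Matrix.trace_one, trace_eq_rank e0 he00] at h1
    have hc9 : ((e0.rank : ℕ) : F) = ((3 : ℕ) : F) := by
      refine mul_left_cancel₀ h3 ?_
      rw [← h1]
      simp
      norm_num
    have hle : e0.rank ≤ 9 := by simpa using e0.rank_le_card_height
    rcases Nat.lt_or_ge e0.rank (Fintype.card F) with hlt | hge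
    · exact inj _ _ hc9 hlt (by omega)
    · have h7 : Fintype.card F = 7 := by
        have := κ.mod3
        have h8 : Fintype.card F ≠ 8 := fun e => absurd (e ▸ κ.prime) (by norm_num)
        omega
      have hd := ((CharP.natCast_eq_natCast F (Fintype.card F)).1 hc9)
      rw [h7, Nat.ModEq] at hd
      omega
  have hPe : P.rank ≤ 3 := by
    calc P.rank = (e0 * P).rank := by rw [heP]
      _ ≤ e0.rank := Matrix.rank_mul_le_left _ _
      _ = 3 := he3
  have hMe : M.rank ≤ 3 := by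
    calc M.rank = (e0 * M).rank := by rw [heM]
      _ ≤ e0.rank := Matrix.rank_mul_le_left _ _
      _ = 3 := he3
  have hadd : ((P.rank + M.rank : ℕ) : F) = ((3 : ℕ) : F) := by
    rw [Nat.cast_add, ← trace_eq_rank P hPP, ← trace_eq_rank M hMM, ← Matrix.trace_add,
      show P + M = e0 by rw [hP, hM]; match_scalars <;> field_simp <;> ring, trace_eq_rank e0 he00, he3]
  have hab : P.rank + M.rank = 3 := inj _ _ hadd (by omega) (by omega)
  have hsub : (1 : F) = 3 * ((P.rank : F) - (M.rank : F)) := by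
    rw [← trace_eq_rank P hPP, ← trace_eq_rank M hMM, ← Matrix.trace_sub,
      show P - M = X by rw [hP, hM]; match_scalars <;> field_simp <;> ring, ← htr]
    exact tr3 W hWT
  have hcast := κ.cast_ne
  obtain ⟨a, b, hab', hs'⟩ : ∃ a b : ℕ, a + b = 3 ∧ (1 : F) = 3 * ((a : F) - (b : F)) := ⟨_, _, hab, hsub⟩
  have ha : a = 0 ∨ a = 1 ∨ a = 2 ∨ a = 3 := by omega
  rcases ha with rfl | rfl | rfl | rfl
  · obtain rfl : b = 3 := by omega
    refine hcast 10 (fun hd => ?_) (by push_cast at hs' ⊢; linear_combination hs')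
    have := Nat.le_of_dvd (by norm_num) hd
    interval_cases hq : Fintype.card F <;> first | omega | exact absurd (hq ▸ κ.prime) (by norm_num)
  · obtain rfl : b = 2 := by omega
    refine hcast 4 (fun hd => ?_) (by push_cast at hs' ⊢; linear_combination hs')
    have := Nat.le_of_dvd (by norm_num) hd
    omega
  · obtain rfl : b = 1 := by omega
    refine hcast 2 (fun hd => ?_) (by push_cast at hs' ⊢; linear_combination -hs')
    have := Nat.le_of_dvd (by norm_num) hd
    omega
  · obtain rfl : b = 0 := by omega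
    refine hcast 8 (fun hd => ?_) (by push_cast at hs' ⊢; linear_combination -hs')
    have := Nat.le_of_dvd (by norm_num) hd
    interval_cases hq : Fintype.card F <;> first | omega | exact absurd (hq ▸ κ.prime) (by norm_num)

/-- An involution of trace one inverts the group modulo its centre. -/
theorem invol_inverts {w r : GL I9 F} (hw : w ∈ Cfsg.Geo.subgroupNormalizer (R9 κ)) (hw2 : w * w = 1)
    (htr : Matrix.trace (w : Matrix I9 I9 F) = 1) (hr : r ∈ R9 κ) : r * (w * r * w⁻¹) ∈ Zw κ := by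
  set r' := w * r * w⁻¹ with hr'
  have hr'R : r' ∈ R9 κ := (Subgroup.mem_normalizer_iff.1 hw r).1 hr
  have hd : ⁅r', r⁆ ∈ Zw κ := R9_comm κ hr'R hr
  set d := ⁅r', r⁆ with hddef
  set u := r * r' with hu
  have e1 : w * u * w⁻¹ = d * u := by
    rw [hu, hddef, commutatorElement_def, show w * (r * r') * w⁻¹ = (w * r * w⁻¹) * (w * r' * w⁻¹) by group,
      ← hr', show w * r' * w⁻¹ = (w * w) * r * (w * w)⁻¹ by rw [hr']; group, hw2]
    group
  have e2 : d ^ 2 = 1 := by
    have : w * (w * u * w⁻¹) * w⁻¹ = u := by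
      rw [show w * (w * u * w⁻¹) * w⁻¹ = (w * w) * u * (w * w)⁻¹ by group, hw2]; simp
    rw [e1, ← mul_assoc, ← (Zw_central κ hd w).eq,
      show d * w * u * w⁻¹ = d * (w * u * w⁻¹) by group, e1, ← mul_assoc, mul_eq_right] at this
    rw [pow_two, this]
  rw [Zw_sq κ hd e2, one_mul, mul_inv_eq_iff_eq_mul] at e1
  exact invol_fixed κ hw hw2 htr (mul_mem hr hr'R) e1

/-- Commuting involutions of trace one in the normaliser are equal. -/
theorem invol_unique {w z : GL I9 F} (hw : w ∈ Cfsg.Geo.subgroupNormalizer (R9 κ))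
    (hz : z ∈ Cfsg.Geo.subgroupNormalizer (R9 κ)) (hw2 : w * w = 1) (hz2 : z * z = 1)
    (htrw : Matrix.trace (w : Matrix I9 I9 F) = 1) (htrz : Matrix.trace (z : Matrix I9 I9 F) = 1)
    (hc : w * z = z * w) : w = z := by
  set u := w * z with hu
  have hu2 : u * u = 1 := by
    rw [hu, mul_assoc, ← mul_assoc z, ← hc, mul_assoc w z z, hz2, mul_one, hw2]
  have hs : u ∈ Cfsg.Geo.scalars I9 F := R9_centralizer κ fun x hx => by
    have hxR : x ∈ R9 κ := Subgroup.subset_closure hx
    have a := invol_inverts κ hz hz2 htrz hxR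
    have hx' : z * x * z⁻¹ ∈ R9 κ := (Subgroup.mem_normalizer_iff.1 hz x).1 hxR
    have b := invol_inverts κ hw hw2 htrw hx'
    set c := x * (z * x * z⁻¹) with hcdef
    set c' := z * x * z⁻¹ * (w * (z * x * z⁻¹) * w⁻¹) with hcdef'
    set y := z * x * z⁻¹ with hy
    have e : u * x * u⁻¹ = c' * c⁻¹ * x := by
      have h1 : u * x * u⁻¹ = w * y * w⁻¹ := by rw [hu, hy]; group
      have h2 : y = x⁻¹ * c := by rw [hcdef]; group
      have h3 : w * y * w⁻¹ = y⁻¹ * c' := by rw [hcdef']; group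
      have hy' : y⁻¹ = c⁻¹ * x := by rw [h2]; group
      rw [h1, h3, hy', (Zw_central κ b (c⁻¹ * x)).symm.eq, ← mul_assoc c' c⁻¹ x]
    set d := c' * c⁻¹ with hd
    have hdZ : d ∈ Zw κ := mul_mem b (inv_mem a)
    have e2 : d ^ 2 = 1 := by
      have : u * (u * x * u⁻¹) * u⁻¹ = x := by
        rw [show u * (u * x * u⁻¹) * u⁻¹ = (u * u) * x * (u * u)⁻¹ by group, hu2]; simp
      rw [e, ← mul_assoc, ← (Zw_central κ hdZ u).eq,
        show d * u * x * u⁻¹ = d * (u * x * u⁻¹) by group, e, ← mul_assoc, mul_eq_right] at this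
      rw [pow_two, this]
    rw [Zw_sq κ hdZ e2, one_mul, mul_inv_eq_iff_eq_mul] at e
    exact e
  obtain ⟨c, hc'⟩ := (Cfsg.Geo.mem_scalars_iff u).1 hs
  have hw' : w = u * z := by rw [hu, mul_assoc, hz2, mul_one]
  have h := congrArg (fun x : GL I9 F => Matrix.trace (x : Matrix I9 I9 F)) hw'
  simp only [Units.val_mul, hc', Matrix.smul_mul, Matrix.one_mul, Matrix.trace_smul, htrw, htrz,
    smul_eq_mul, mul_one] at h
  rw [hw', show u = 1 from Units.ext (by rw [hc', ← h, one_smul, Units.val_one]), one_mul]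

end Cfsg.Agent.C6Three
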