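/-
Reduction of the maximality of the normalisers of groups of type 3^(1+4) to the statement about overgroups of
the standard one.
Main results: `symplectic_maximal_of_core`.
-/
import Cfsg.Agent.Lib.C6Three.Conj
import Cfsg.Agent.Lib.Linear.SLn

set_option autoImplicit false
set_option linter.unusedSectionVars false

namespace Cfsg.Agent.C6Three

open Matrix Cfsg.Agent.Transvect
open scoped Matrix Kronecker commutatorElement

variable {F : Type*} [Field F] [Fintype F] (κ : Fld F) {ι : Type} [Fintype ι] [DecidableEq ι]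

/-- The cube root of the data. -/
def Fld.cub : Cub F := ⟨κ.ω, κ.rel, κ.three⟩

theorem R9w_cub : R9w κ.cub = R9 κ := rfl

variable {κ}

/-! ### maximality -/

theorem kr_det (A B : GL (Fin 3) F) :
    ((kr A B : GL I9 F) : Matrix I9 I9 F).det =
      (A : Matrix (Fin 3) (Fin 3) F).det ^ 3 * (B : Matrix (Fin 3) (Fin 3) F).det ^ 3 := by
  show Matrix.det ((A : Matrix (Fin 3) (Fin 3) F) ⊗ₖ (B : Matrix (Fin 3) (Fin 3) F)) = _
  rw [Matrix.det_kronecker, Fintype.card_fin]

theorem gq_det (κ : Fld F) : ((gq κ : GL (Fin 3) F) : Matrix (Fin 3) (Fin 3) F).det ^ 3 = 1 := by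
  have h1 : κ.ω - κ.ω ^ 2 ≠ 0 := by
    rw [show κ.ω - κ.ω ^ 2 = κ.ω * (1 - κ.ω) by ring]
    exact mul_ne_zero κ.ω_ne (sub_ne_zero.2 κ.ω_ne_one.symm)
  have hd : ((gq κ : GL (Fin 3) F) : Matrix (Fin 3) (Fin 3) F).det = 1 := by
    rw [show ((gq κ : GL (Fin 3) F) : Matrix (Fin 3) (Fin 3) F) =
      (κ.ω - κ.ω ^ 2)⁻¹ • Matrix.of fun i j : Fin 3 => κ.ω ^ ((i : ℕ) * j) from rfl, Matrix.det_smul,
      Matrix.det_fin_three, Fintype.card_fin]
    simp
    field_simp
    have := κ.rel; have := κ.cube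
    grind
  rw [hd, one_pow]

theorem det_dgl (d : I9 → Fˣ) : ((dgl d : GL I9 F) : Matrix I9 I9 F).det = ∏ p, (d p : F) :=
  Matrix.det_diagonal

theorem base_gens_sl (κ : Fld F) : baseSet κ ⊆ (Cfsg.Geo.specialLinear I9 F : Set (GL I9 F)) := by
  have hw : κ.ω ^ 3 = 1 := κ.cube
  have hgh : ∀ k, ((gh κ k : GL (Fin 3) F) : Matrix (Fin 3) (Fin 3) F).det ^ 3 = 1 := fun k => by
    show (Matrix.diagonal fun i => ((if i = k then κ.w else 1 : Fˣ) : F)).det ^ 3 = 1
    rw [Matrix.det_diagonal, Fin.prod_univ_three]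
    fin_cases k <;> simp [Fld.w_val, hw]
  intro g hg
  rw [SetLike.mem_coe, Transvect.mem_sl_iff]
  simp only [baseSet, Set.mem_union, Set.mem_range, Set.mem_insert_iff, Set.mem_singleton_iff] at hg
  rcases hg with ((⟨k, rfl⟩ | ⟨k, rfl⟩) | rfl | rfl | rfl | rfl)
  · simp [kr_det, hgh]
  · simp [kr_det, hgh]
  · simp [kr_det, gq_det]
  · simp [kr_det, gq_det]
  · rw [gD1, det_dgl]
    simp only [apply_ite (Units.val : Fˣ → F), Units.val_one, Fld.w_val]
    rw [Finset.prod_ite, Finset.prod_const, Finset.prod_const_one, mul_one,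
      show (Finset.univ.filter fun p : I9 => p.1 + p.2 = 0).card = 3 by decide, hw]
  · rw [gD2, det_dgl]
    simp only [apply_ite (Units.val : Fˣ → F), Units.val_one, Fld.w_val]
    rw [Finset.prod_ite, Finset.prod_const, Finset.prod_const_one, mul_one,
      show (Finset.univ.filter fun p : I9 => p.1 = p.2).card = 3 by decide, hw]

theorem sl_le_of_sup_scalars {M : Subgroup (GL ι F)} (hι : 3 ≤ Fintype.card ι)
    (h : Cfsg.Geo.specialLinear ι F ≤ M ⊔ Cfsg.Geo.scalars ι F) : Cfsg.Geo.specialLinear ι F ≤ M := by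
  intro g hg
  let f : Matrix.SpecialLinearGroup ι F →* GL ι F := Matrix.SpecialLinearGroup.toGL
  have hrange : ∀ A, f A ∈ Cfsg.Geo.specialLinear ι F := fun A => Transvect.mem_sl_iff.2 A.2
  have hle : (⊤ : Subgroup (Matrix.SpecialLinearGroup ι F)).map f ≤ M := by
    rw [← Linear.commutator_sl_eq_top (ι := ι) (F := F) (Or.inl hι), commutator_def,
      Subgroup.map_commutator]
    refine le_trans (Subgroup.commutator_mono ?_ ?_) (Aschbacher.commutator_sup_scalars_le M) <;>
    · rintro _ ⟨A, -, rfl⟩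
      exact h (hrange A)
  exact (show f ⟨_, Transvect.mem_sl_iff.1 hg⟩ = g from Units.ext rfl) ▸ hle ⟨_, trivial, rfl⟩

/-- The standard group consists of elements commuting up to scalars with a clock. -/
theorem twist_R9 (κ : Fld F) {a : GL I9 F} (ha : a ∈ R9 κ) :
    ∃ c : F, ((kr 1 (gZ κ) : GL I9 F) : Matrix I9 I9 F) * a =
      c • ((a : Matrix I9 I9 F) * (kr 1 (gZ κ) : GL I9 F)) := by
  rw [R9] at ha
  induction ha using Subgroup.closure_induction with
  | mem a ha =>
    simp only [Set.mem_insert_iff, Set.mem_singleton_iff] at ha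
    have hcomm : ∀ A : GL (Fin 3) F, ∃ c : F, ((kr 1 (gZ κ) : GL I9 F) : Matrix I9 I9 F) * (kr A 1 : GL I9 F) =
        c • (((kr A 1 : GL I9 F) : Matrix I9 I9 F) * (kr 1 (gZ κ) : GL I9 F)) := fun A => ⟨1, by
      rw [one_smul, ← Units.val_mul, ← Units.val_mul, kr_mul, kr_mul, one_mul, mul_one, one_mul, mul_one]⟩
    rcases ha with rfl | rfl | rfl | rfl
    · exact hcomm _
    · exact hcomm _
    · refine ⟨κ.ω, ?_⟩
      have hω := κ.cube
      ext ⟨i, k⟩ ⟨j, l⟩
      fin_cases i <;> fin_cases k <;> fin_cases j <;> fin_cases l <;>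
        simp [Matrix.mul_apply, kr_val, gX, gZ, dgl, Fintype.sum_prod_type, Fin.sum_univ_three,
          Fld.w_val] <;> grind
    · exact ⟨1, by rw [one_smul]⟩
  | one => exact ⟨1, by simp⟩
  | mul a b _ _ ha hb =>
    obtain ⟨c, hc⟩ := ha
    obtain ⟨d, hd⟩ := hb
    refine ⟨c * d, ?_⟩
    rw [Units.val_mul, ← mul_assoc, hc, smul_mul_assoc, mul_assoc, hd, mul_smul_comm, smul_smul, mul_assoc]
  | inv a _ ha =>
    obtain ⟨c, hc⟩ := ha
    set Z := ((kr 1 (gZ κ) : GL I9 F) : Matrix I9 I9 F)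
    have hc0 : c ≠ 0 := fun h => by
      rw [h, zero_smul] at hc
      exact Units.ne_zero (kr 1 (gZ κ) * a) (by rwa [Units.val_mul])
    refine ⟨c⁻¹, ?_⟩
    have h := congrArg (fun M => ((a⁻¹ : GL I9 F) : Matrix I9 I9 F) * M * (a⁻¹ : GL I9 F)) hc
    simp only [mul_assoc, Units.mul_inv, mul_one, mul_smul_comm, smul_mul_assoc] at h
    rw [Units.inv_mul_cancel_left] at h
    rw [h, smul_smul, inv_mul_cancel₀ hc0, one_smul]

/-- The normaliser of the standard group is maximal, given the statement about its overgroups. -/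
theorem model_maximal_of_core (κ : Fld F)
    (hcore : ∀ H : Subgroup (GL I9 F), Ovr κ H → H ≤ Cfsg.Geo.subgroupNormalizer (R9 κ)) :
    Cfsg.Geo.IsMaximalIn (Cfsg.Geo.specialLinear I9 F)
      (Cfsg.Geo.subgroupNormalizer (R9 κ) ⊓ Cfsg.Geo.specialLinear I9 F) := by
  refine Transvect.isMaximalIn_of_forall inf_le_right ?_ fun M hle hM g hg hgn => ?_
  · -- a transvection outside the normaliser
    set T := elem ((0, 0) : I9) (0, 1) (1 : F) with hT
    refine ⟨T, Transvect.tv_mem_sl _ _, fun hTn => ?_⟩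
    obtain ⟨hX, -, -, -⟩ := mem_R9_gens κ
    have hx := (Subgroup.mem_normalizer_iff.1 hTn.1 _).1 hX
    obtain ⟨c, hc⟩ := twist_R9 κ hx
    have hTi : (((T⁻¹ : GL I9 F)) : Matrix I9 I9 F) = 1 - Matrix.single (0, 0) (0, 1) 1 := by
      refine Units.inv_eq_of_mul_eq_one_right ?_
      rw [hT, elem_val (by simp), Matrix.transvection, add_mul, mul_sub, mul_sub, one_mul, one_mul, mul_one,
        Matrix.single_mul_single_of_ne _ _ _ _ (by simp)]
      abel
    simp only [Units.val_mul] at hc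
    rw [hTi, hT, elem_val (show ((0, 0) : I9) ≠ (0, 1) by simp)] at hc
    have e1 := congrFun (congrFun hc ((1, 0) : I9)) ((0, 0) : I9)
    have e2 := congrFun (congrFun hc ((1, 0) : I9)) ((0, 1) : I9)
    simp only [Matrix.transvection,
      Matrix.mul_apply, Matrix.smul_apply, Matrix.sub_apply, Matrix.add_apply, kr_val,
      Fintype.sum_prod_type, Fin.sum_univ_three] at e1 e2
    simp [gX, gZ, dgl, Matrix.single, Fld.w_val] at e1 e2
    have := κ.ω_ne_one
    grind
  · by_contra hK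
    refine hgn ⟨?_, hM hg⟩
    have hbase : Base κ ≤ M ⊔ Cfsg.Geo.scalars I9 F := by
      refine sup_le ((Subgroup.closure_le _).2 fun b hb => ?_) le_sup_right
      exact Subgroup.mem_sup_left (hle ⟨base_le_norm κ (Subgroup.mem_sup_left (Subgroup.subset_closure hb)),
        base_gens_sl κ hb⟩)
    exact hcore _ ⟨hbase, fun h => hK (sl_le_of_sup_scalars (by simp) h)⟩ (Subgroup.mem_sup_left hg)

theorem glReindex_mem_sl (e : I9 ≃ ι) (g : GL I9 F) :
    Cfsg.Geo.glReindex e g ∈ Cfsg.Geo.specialLinear ι F ↔ g ∈ Cfsg.Geo.specialLinear I9 F := by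
  rw [Transvect.mem_sl_iff, Transvect.mem_sl_iff, glReindex_val, Matrix.det_submatrix_equiv_self]

/-- The normaliser of a group of type 3^(1+4) in dimension nine is maximal, given the statement about the
overgroups of the standard one. -/
theorem symplectic_maximal_of_core
    (hcore : ∀ (κ : Fld F) (H : Subgroup (GL I9 F)), Ovr κ H → H ≤ Cfsg.Geo.subgroupNormalizer (R9 κ))
    (p : ℕ) (hp : p.Prime) (hcard : Fintype.card F = p) (h3 : p % 3 = 1) (R : Subgroup (GL (Fin 9) F))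
    (hR : Cfsg.Geo.IsLinearSymplecticTypeData 3 R) :
    Cfsg.Geo.IsMaximalIn (Cfsg.Geo.specialLinear (Fin 9) F)
      (Cfsg.Geo.subgroupNormalizer R ⊓ Cfsg.Geo.specialLinear (Fin 9) F) := by
  classical
  subst hcard
  have h7 : 7 ≤ Fintype.card F := by
    by_contra hh
    have := hp.two_le
    interval_cases hq : Fintype.card F <;> simp at h3
    exact absurd hp (by norm_num)
  obtain ⟨ω, hω⟩ : ∃ ω : F, ω ^ 2 + ω + 1 = 0 := by
    obtain ⟨g, hg⟩ := IsCyclic.exists_ofOrder_eq_natCard (α := Fˣ)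
    rw [Nat.card_units, Nat.card_eq_fintype_card] at hg
    obtain ⟨d, hd⟩ : 3 ∣ Fintype.card F - 1 := by omega
    set u := g ^ d
    have hu : orderOf u = 3 := by
      rw [orderOf_pow, hg, hd, Nat.gcd_eq_right (Dvd.intro_left _ rfl),
        Nat.mul_div_cancel _ (by omega)]
    refine ⟨(u : F), ?_⟩
    have h1 : (u : F) ^ 3 = 1 := by rw [← Units.val_pow_eq_pow_val, ← hu, pow_orderOf_eq_one, Units.val_one]
    have h2 : (u : F) ≠ 1 := fun h => by
      rw [Units.val_eq_one] at h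
      rw [h, orderOf_one] at hu
      norm_num at hu
    exact (mul_eq_zero.1 (show ((u : F) - 1) * ((u : F) ^ 2 + u + 1) = 0 by linear_combination h1)).resolve_left
      (sub_ne_zero.2 h2)
  let κ : Fld F := ⟨ω, hω, hp, h3, h7⟩
  have hexp : ∀ r : R, r ^ 3 = 1 := fun r => by
    have := Monoid.pow_exponent_eq_one r
    rwa [hR.symplecticType.exponent_eq] at this
  have hcomm : ∀ r ∈ R, ∀ s ∈ R, r * s * r⁻¹ * s⁻¹ ∈ Cfsg.Geo.scalars (Fin 9) F := fun r hr s hs => by
    have hc := comm_mem_center hR.symplecticType.pGroup hexp hR.symplecticType.cyclic_of_characteristic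
      ⟨r, hr⟩ ⟨s, hs⟩
    obtain ⟨c, hc'⟩ := hR.absIrred.2 ((r * s * r⁻¹ * s⁻¹ : GL (Fin 9) F) : Matrix (Fin 9) (Fin 9) F) (by
      rintro _ ⟨t, ht, rfl⟩
      exact congrArg (fun g : R => ((g : GL (Fin 9) F) : Matrix (Fin 9) (Fin 9) F))
        (Subgroup.mem_center_iff.1 hc ⟨t, ht⟩).symm)
    exact PrimeDim.smul_one_mem_scalars hc'
  obtain ⟨e, B, hB⟩ := exists_conj_R9 (κ := κ.cub) (by simp)
    (fun r hr => congrArg Subtype.val (hexp ⟨r, hr⟩)) hcomm hR.absIrred
  rw [R9w_cub] at hB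
  set φ := stdMap e B
  have hK : (Cfsg.Geo.specialLinear I9 F).map φ.toMonoidHom = Cfsg.Geo.specialLinear (Fin 9) F := by
    ext g
    rw [Subgroup.mem_map_equiv]
    conv_rhs => rw [← φ.apply_symm_apply g, stdMap_apply]
    rw [← glReindex_mem_sl e, Transvect.mem_sl_iff, Transvect.mem_sl_iff, Units.val_mul, Units.val_mul,
      Matrix.det_units_conj]
  have hN : (Cfsg.Geo.subgroupNormalizer (R9 κ)).map φ.toMonoidHom = Cfsg.Geo.subgroupNormalizer R := by
    rw [hB, Cfsg.Geo.subgroupNormalizer, Cfsg.Geo.subgroupNormalizer, Subgroup.map_equiv_normalizer_eq]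
  rw [← hK, ← hN, ← Subgroup.map_inf _ _ _ φ.injective]
  obtain ⟨h1, h2⟩ := model_maximal_of_core κ (hcore κ)
  refine ⟨(Subgroup.map_lt_map_iff_of_injective φ.injective).2 h1, fun M hM1 hM2 => ?_⟩
  obtain ⟨M0, rfl⟩ : ∃ M0, M0.map φ.toMonoidHom = M :=
    ⟨M.comap φ.toMonoidHom, Subgroup.map_comap_eq_self_of_surjective φ.surjective M⟩
  rw [Subgroup.map_le_map_iff_of_injective φ.injective] at hM1 hM2
  rcases h2 M0 hM1 hM2 with h | h
  · exact Or.inl (by rw [h])
  · exact Or.inr (by rw [h])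

end Cfsg.Agent.C6Three
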